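import Cfsg.Agent.H5.Iso2
import Cfsg.Agent.H5.Cj4
import Cfsg.Agent.TT.T3

/-!
Reflection classes over the field of three elements, the deleted permutation module in
characteristic two.
-/

set_option autoImplicit false

namespace CfsgH5

open Module Matrix

theorem isThreeTransp_of' {G H : Type*} [Group G] [Group H] {φ : G →* H}
    (hφ : Function.Injective φ) {P : H → Prop} {D : Set G} (hD : ∀ g, g ∈ D ↔ P (φ g))
    (h1 : ∀ d, P d → d ≠ 1 ∧ d * d = 1)
    (h2 : ∀ d e, P d → P e → d * e = e * d ∨ d * e * d⁻¹ = e * d * e⁻¹)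
    (h3 : ∃ d ∈ φ.range, P d)
    (h4 : ∀ d e, P d → P e → ∃ k ∈ φ.range, k * d * k⁻¹ = e)
    (h6 : ∀ k ∈ φ.range, ∀ d, P d → P (k * d * k⁻¹))
    (h5 : φ.range ≤ Subgroup.closure {d | d ∈ φ.range ∧ P d}) :
    Cfsg.IsThreeTranspositionClass D := by
  have hi : ∀ d ∈ D, d * d = 1 := fun d hd =>
    hφ (by rw [map_mul, map_one]; exact (h1 _ ((hD d).1 hd)).2)
  refine ⟨⟨fun d hd => (orderOf_eq_two_iff_map hφ).2 (h1 _ ((hD d).1 hd)),
    fun d hd e he => ?_⟩, ?_, closure_eq_top_of_range φ hφ _ (h5.trans ?_)⟩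
  · have h6 := hi d hd
    have h7 := hi e he
    refine (h2 _ _ ((hD d).1 hd) ((hD e).1 he)).imp (fun h => ?_) fun h => ?_
    · have : d * e = e * d := hφ (by simpa using h)
      calc (d * e) ^ 2 = d * (e * d) * e := by rw [sq]; group
        _ = (d * d) * (e * e) := by rw [← this]; group
        _ = 1 := by rw [h6, h7, mul_one]
    · have : d * e * d⁻¹ = e * d * e⁻¹ := hφ (by simpa using h)
      rw [inv_eq_of_mul_eq_one_left h6, inv_eq_of_mul_eq_one_left h7] at this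
      calc (d * e) ^ 3 = (d * e * d) * (e * d * e) := by rw [pow_three]; group
        _ = e * (d * (e * e) * d) * e := by rw [this]; group
        _ = 1 := by rw [h7, mul_one, h6, mul_one, h7]
  · obtain ⟨_, ⟨d, rfl⟩, hd⟩ := h3
    refine ⟨d, (hD d).2 hd, Set.ext fun e => ?_⟩
    rw [show e ∈ conjugatesOf d ↔ IsConj d e from Iff.rfl, isConj_iff_range hφ, hD]
    exact ⟨h4 _ _ hd, fun ⟨k, hk, h⟩ => h ▸ h6 k hk _ hd⟩
  · rw [Subgroup.closure_le]
    rintro _ ⟨⟨d, rfl⟩, hd⟩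
    exact ⟨d, Subgroup.subset_closure ((hD d).2 hd), rfl⟩

theorem pCore_le_center {G : Type*} [Group G] [Finite G] {L : Subgroup G} [L.Normal]
    (hL : Cfsg.IsQuasisimple L) (hC : ∀ g, (∀ l ∈ L, l * g = g * l) → g ∈ Subgroup.center G)
    (p : ℕ) [Fact p.Prime] : Cfsg.pCore p G ≤ Subgroup.center G := by
  rcases CfsgLead.component_le_or_commute (L := L) ⟨Subgroup.Normal.isSubnormal inferInstance, hL⟩
    (Subgroup.Normal.isSubnormal (inferInstance : (Cfsg.pCore p G).Normal)) with h | h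
  · have := (CfsgH1.isPGroup_pCore p G).isNilpotent
    exact (CfsgLead.qs_not_le_solvable hL inferInstance h).elim
  · exact fun g hg => hC g fun l hl =>
      (Subgroup.commutator_eq_bot_iff_le_centralizer.1 h hl g hg).symm

namespace Form

section Three

variable {F : Type*} [Field F] {V : Type*} [AddCommGroup V] [Module F V]
  {S : Form (orthParam F) V}

/-- the group generated by the reflections in the vectors of norm `c` -/
def RC (S : Form (orthParam F) V) (c : F) : Subgroup (V ≃ₗ[F] V) :=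
  Subgroup.closure {g | ∃ v, S.Q v = c ∧ g = S.rf v}

theorem rf_mem_RC {c : F} {v : V} (h : S.Q v = c) : S.rf v ∈ S.RC c :=
  Subgroup.subset_closure ⟨v, h, rfl⟩

theorem RC_le_isom (c : F) : S.RC c ≤ S.isom := by
  rw [RC, Subgroup.closure_le]
  rintro _ ⟨v, -, rfl⟩
  exact rf_mem v

theorem rf_ne_one (hS : S.Nondeg) {v : V} (h : S.Q v ≠ 0) : S.rf v ≠ 1 := fun e => by
  obtain ⟨y, hy⟩ := hS.exists_ne (ne_zero_of_Q h)
  exact hy ((rf_eq_self_iff h).1 (by rw [e]; rfl))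

variable [Fintype F] [FiniteDimensional F V]

theorem sq_three (h3 : Fintype.card F = 3) {t : F} (ht : t ≠ 0) : t ^ 2 = 1 := by
  simpa [h3] using FiniteField.pow_card_sub_one_eq_one t ht

theorem Nondeg.om_le_RC (hS : S.Nondeg) (h3 : Fintype.card F = 3) (hd : 5 ≤ finrank F V) {c : F}
    (hc : c ≠ 0) : S.om ≤ S.RC c :=
  hS.om_le_of_class (two_ne_zero_of_card_three h3) (.inr (.inl hd)) hc fun v t ht h =>
    rf_mem_RC (by rw [h, sq_three h3 ht, mul_one])

theorem Nondeg.mem_RC (hS : S.Nondeg) (h3 : Fintype.card F = 3) (hd : 5 ≤ finrank F V) {c : F}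
    (hc : c ≠ 0) {g : V ≃ₗ[F] V} :
    g ∈ S.RC c ↔ g ∈ S.isom ∧ (S.scale c⁻¹).spin g = 1 := by
  have h1 := hS.scale (inv_ne_zero hc)
  have h2 := scale_isom (S := S) (inv_ne_zero hc)
  have h4 : ∀ v, S.Q v = c → (S.scale c⁻¹).spin (S.rf v) = 1 := fun v hv => by
    have : (S.scale c⁻¹).Q v = 1 := by rw [scale_Q, hv, inv_mul_cancel₀ hc]
    rw [← scale_rf (inv_ne_zero hc), h1.spin_rf (by simp [this]), this, chi_one]
  have hG : (∃ a : F, a ≠ 0 ∧ a ≠ 1) ∨ finrank F V ≠ 4 := .inr (by omega)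
  have h5 : ∀ g ∈ S.isom, dk g = 1 → (S.scale c⁻¹).spin g = 1 → g ∈ S.RC c := fun g a b d =>
    hS.om_le_RC h3 hd hc (scale_om (S := S) (inv_ne_zero hc) ▸ (h1.mem_om_iff hG).2 ⟨h2 ▸ a, b, d⟩)
  refine ⟨fun h => ⟨RC_le_isom c h, ?_⟩, fun ⟨a, b⟩ => ?_⟩
  · induction h using Subgroup.closure_induction with
    | mem x hx => obtain ⟨v, hv, rfl⟩ := hx; exact h4 v hv
    | one => exact h1.spin_one
    | mul x y hx hy a b =>
      rw [h1.spin_mul (h2 ▸ RC_le_isom c hx) (h2 ▸ RC_le_isom c hy), a, b, mul_one]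
    | inv x hx a => rw [h1.spin_inv (h2 ▸ RC_le_isom c hx), a]
  · rcases Int.units_eq_one_or (dk g) with e | e
    · exact h5 g a e b
    · obtain ⟨v, hv⟩ := hS.exists_Q_eq (by omega) c
      have := h5 (S.rf v * g) (mul_mem (rf_mem v) a) (by rw [hS.dk_rf_mul (hv ▸ hc) a, e, neg_neg])
        (by rw [h1.spin_mul (h2 ▸ rf_mem v) (h2 ▸ a), h4 v hv, b, mul_one])
      exact (Subgroup.mul_mem_cancel_left _ (rf_mem_RC hv)).1 this

theorem Nondeg.RC_trans (hS : S.Nondeg) (h3 : Fintype.card F = 3) (hd : 5 ≤ finrank F V) {c : F}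
    (hc : c ≠ 0) {x y : V} (hx : S.Q x = c) (hy : S.Q y = c) : ∃ t ∈ S.RC c, t x = y := by
  obtain ⟨e, f, h⟩ := hS.exists_isHyp (by omega)
  have h1 := hS.finrank_perp_hyp h
  obtain ⟨t, ht, e⟩ := hS.EG_trans h (fun l => by
    obtain ⟨w, hw, e⟩ := (hS.nondegOn_perp_hyp h).exists_Q_eq (by omega) l
    exact ⟨w, hw, (q_eq_π_iff S).2 e⟩) (ne_zero_of_Q (hx ▸ hc)) (ne_zero_of_Q (hy ▸ hc))
    ((q_eq_iff S S).2 (hx.trans hy.symm))
  exact ⟨t, hS.om_le_RC h3 hd hc (hS.om_eq_EG_of_five hd ▸ ht), e⟩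

omit [FiniteDimensional F V] in
theorem rf_braid (h3 : Fintype.card F = 3) {x y : V} (hx : S.Q x ≠ 0) (h : S.Q x = S.Q y) :
    S.rf x * S.rf y = S.rf y * S.rf x ∨
      S.rf x * S.rf y * (S.rf x)⁻¹ = S.rf y * S.rf x * (S.rf y)⁻¹ := by
  by_cases h0 : S.B x y = 0
  · exact .inl (rf_comm h0)
  right
  have h1 := sq_three h3 (mul_ne_zero (inv_ne_zero hx) h0)
  rw [conj_rf (rf_mem x), conj_rf (rf_mem y), rf_apply, rf_apply, ← h, S.orth_symm x y]
  rcases sq_eq_one_iff.1 h1 with e | e <;> rw [e]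
  · rw [← rf_neg]; simp
  · simp [add_comm]

theorem Nondeg.commutator_RC (hS : S.Nondeg) (h3 : Fintype.card F = 3) (hd : 5 ≤ finrank F V)
    {c : F} (hc : c ≠ 0) : ⁅S.RC c, S.RC c⁆ = S.om :=
  le_antisymm (Subgroup.commutator_mono (RC_le_isom c) (RC_le_isom c))
    (hS.om_perfect hd ▸ Subgroup.commutator_mono (hS.om_le_RC h3 hd hc) (hS.om_le_RC h3 hd hc))

theorem Nondeg.threeTransp (hS : S.Nondeg) (h3 : Fintype.card F = 3) (hd : 5 ≤ finrank F V)
    {c : F} (hc : c ≠ 0) {G : Type*} [Group G] {φ : G →* (V ≃ₗ[F] V)} (hφ : Function.Injective φ)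
    (hr : φ.range = S.RC c) {D : Set G} (hD : ∀ g, g ∈ D ↔ ∃ v, S.Q v = c ∧ φ g = S.rf v) :
    Cfsg.IsThreeTranspositionClass D := by
  refine isThreeTransp_of' hφ (P := fun g => ∃ v, S.Q v = c ∧ g = S.rf v) hD ?_ ?_ ?_ ?_ ?_ ?_
  · rintro _ ⟨v, hv, rfl⟩
    exact ⟨rf_ne_one hS (hv ▸ hc), rf_mul_self v⟩
  · rintro _ _ ⟨v, hv, rfl⟩ ⟨w, hw, rfl⟩
    exact rf_braid h3 (hv ▸ hc) (hv.trans hw.symm)
  · obtain ⟨v, hv⟩ := hS.exists_Q_eq (by omega) c
    exact ⟨_, hr ▸ rf_mem_RC hv, v, hv, rfl⟩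
  · rintro _ _ ⟨v, hv, rfl⟩ ⟨w, hw, rfl⟩
    obtain ⟨t, ht, rfl⟩ := hS.RC_trans h3 hd hc hv hw
    exact ⟨t, hr ▸ ht, conj_rf (RC_le_isom c ht) v⟩
  · rintro k hk _ ⟨v, hv, rfl⟩
    have := RC_le_isom c (hr ▸ hk)
    exact ⟨k v, (isom_Q this v).trans hv, conj_rf this v⟩
  · rw [hr]
    exact Subgroup.closure_mono fun g hg => ⟨Subgroup.subset_closure hg, hg⟩

theorem Nondeg.RC_structure (hS : S.Nondeg) (h3 : Fintype.card F = 3) (hd : 5 ≤ finrank F V)
    {c : F} (hc : c ≠ 0) {G : Type*} [Group G] [Finite G] {φ : G →* (V ≃ₗ[F] V)}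
    (hφ : Function.Injective φ) (hr : φ.range = S.RC c) {D : Set G}
    (hD : ∀ g, g ∈ D ↔ ∃ v, S.Q v = c ∧ φ g = S.rf v) :
    Cfsg.IsQuasisimple (commutator G) ∧ (commutator G).index ≤ 2 ∧
      Cfsg.generalizedFittingSubgroup G = Subgroup.center G ⊔ commutator G ∧
        Cfsg.IsPrimitiveUnderConj D := by
  have h1 : (φ.comp (commutator G).subtype).range = S.om := by
    rw [MonoidHom.range_comp, Subgroup.range_subtype, commutator_def, Subgroup.map_commutator,
      ← MonoidHom.range_eq_map, hr, hS.commutator_RC h3 hd hc]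
  have h2 := hφ.comp (commutator G).subtype_injective
  obtain ⟨e, he0, he⟩ := S.exists_sing (by omega)
  have he' := (q_eq_zero_iff S).2 he
  have h4 := commutator_eq_top_of_range (φ.comp (commutator G).subtype) h2
    (by rw [h1, hS.om_perfect hd])
  have hL : Cfsg.IsQuasisimple (commutator G) := ⟨⟨h4⟩, hS.isSimple (.inr (by omega)) he' he0 _ h2
    (h1.trans (hS.om_eq_EG_of_five hd)) h4⟩
  have hC : ∀ g, (∀ l ∈ commutator G, l * g = g * l) → g ∈ Subgroup.center G := fun g hg => by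
    obtain ⟨a, ha⟩ := hS.scalar_of_comm (.inr (by omega)) he' he0
      (RC_le_isom c (hr ▸ ⟨g, rfl⟩ : φ g ∈ S.RC c)) fun t ht => by
        rw [← hS.om_eq_EG_of_five hd, ← h1] at ht
        obtain ⟨l, rfl⟩ := ht
        simpa using congrArg φ (hg l l.2)
    exact Subgroup.mem_center_iff.2 fun k => hφ (LinearEquiv.ext fun v => by simp [ha])
  have hT : CfsgTT.TC D := CfsgTT.tc_of (hS.threeTransp h3 hd hc hφ hr hD) (by
    obtain ⟨v, hv⟩ := hS.exists_Q_eq (by omega) c
    have h5 : S.B v v ≠ 0 := by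
      rw [orth_self, hv]; exact mul_ne_zero (two_ne_zero_of_card_three h3) hc
    have h6 := hS.finrank_perp_singleton (ne_zero_of_Q (hv ▸ hc))
    obtain ⟨w, hw, e⟩ := (hS.nondegOn_perp_singleton h5).exists_Q_eq (by omega) c
    obtain ⟨a, ha⟩ : S.rf v ∈ φ.range := hr ▸ rf_mem_RC hv
    obtain ⟨b, hb⟩ : S.rf w ∈ φ.range := hr ▸ rf_mem_RC e
    refine ⟨a, (hD a).2 ⟨v, hv, ha⟩, b, (hD b).2 ⟨w, e, hb⟩, fun h => h5 ?_⟩
    rw [← rf_eq_self_iff (hv ▸ hc), ← ha, h, hb]
    exact rf_fix (perp_symm (by simpa using hw)))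
  have h7 := pCore_le_center hL hC 3
  have h8 := hT.index_le (L := commutator G) fun a ha b hb => hT.mem_comm ha hb
  obtain ⟨L, hN, hL', e⟩ := hT.exists_L (pCore_le_center hL hC 2) h7
  refine ⟨hL, h8, ?_, hT.prim_of h7 hL h8⟩
  rw [e, sup_comm]
  rcases CfsgLead.qs_normal hL (N := L)
    (CfsgLead.qs_perfect hL' ▸ Subgroup.commutator_mono le_top le_top)
    Subgroup.le_normalizer_of_normal with h | h
  · rw [h]
  · refine (CfsgLead.qs_commutator_ne_bot hL' (eq_bot_iff.2 (h ▸ Subgroup.commutator_mono le_rfl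
      ?_))).elim
    exact CfsgLead.qs_perfect hL' ▸ Subgroup.commutator_mono le_top le_top

end Three

end Form

section ReflMat

variable {F : Type*} [Field F] {ι : Type} [Fintype ι] [DecidableEq ι]
  {S : Form (orthParam F) (ι → F)} {Q : (ι → F) → F}

theorem mem_reflectionsOfNorm (h : ∀ v, S.Q v = Q v) {c : F} {g : Cfsg.isometryGroup F Q} :
    g ∈ Cfsg.reflectionsOfNorm Q c ↔ ∃ v, S.Q v = c ∧ oHom Q g = S.rf v :=
  exists_congr fun v => by rw [h, oHom_eq_iff (reflectionMatrix_mulVec h v)]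

theorem map_reflectionSubgroup (h : ∀ v, S.Q v = Q v) (c : F) :
    (Cfsg.reflectionSubgroup Q c).map (oHom Q) = S.RC c := by
  rw [Cfsg.reflectionSubgroup, MonoidHom.map_closure, Form.RC]
  congr 1
  ext g
  refine ⟨?_, ?_⟩
  · rintro ⟨a, ha, rfl⟩
    exact (mem_reflectionsOfNorm h).1 ha
  · rintro ⟨v, hv, rfl⟩
    obtain ⟨a, ha⟩ := exists_oHom h (Form.rf_mem v)
    exact ⟨a, (mem_reflectionsOfNorm h).2 ⟨v, hv, ha⟩, ha⟩

theorem range_reflectionSubgroup (h : ∀ v, S.Q v = Q v) (c : F) :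
    ((oHom Q).comp (Cfsg.reflectionSubgroup Q c).subtype).range = S.RC c := by
  rw [MonoidHom.range_comp, Subgroup.range_subtype, map_reflectionSubgroup h]

end ReflMat

namespace Form

section Levi

variable {F : Type*} [Field F] {T : FParam F} {V : Type*} [AddCommGroup V] [Module F V]
  {S : Form T V}

theorem IsHyp.exists_levi {e f : V} (h : S.IsHyp e f) {G : Type*} [Group G]
    (φ : G →* (V ≃ₗ[F] V)) (h1 : ∀ g, φ g ∈ S.isom) (h2 : ∀ g, φ g e = e) :
    ∃ ψ : G →* (S.res (S.perp {e, f})).isom,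
      ∀ g (u : S.perp {e, f}), ((ψ g).1 u : V) = φ g u - S.B (φ g u) f • e := by
  have h3 : ∀ g x, S.B (φ g x) e = S.B x e := fun g x => by
    conv_lhs => rw [← h2 g, isom_B (h1 g)]
  have h4 : ∀ g (u : S.perp {e, f}), φ g u - S.B (φ g u) f • e ∈ S.perp {e, f} := fun g u => by
    have := (mem_perp_pair S).1 u.2
    simp [h3, this.1, h.ee, h.ef]
  let ρ : G → S.perp {e, f} →ₗ[F] S.perp {e, f} := fun g =>
    (((φ g).toLinearMap - (S.lin f).smulRight e ∘ₗ (φ g).toLinearMap).domRestrict _).codRestrict _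
      (h4 g)
  have h5 : ∀ g u, (ρ g u : V) = φ g u - S.B (φ g u) f • e := fun g u => rfl
  obtain ⟨ψ, hψ⟩ := exists_hom_of ρ (fun u => Subtype.ext (by
    simp [h5, ((mem_perp_pair S).1 u.2).2])) fun g k u => Subtype.ext (by
      simp only [h5, map_mul, LinearEquiv.mul_apply, map_sub, map_smul, h2, sub_left,
        S.smul_left, h.ef]
      module)
  have h6 : ∀ g (u : S.perp {e, f}), S.B (φ g u) e = 0 := fun g u =>
    (h3 g u).trans ((mem_perp_pair S).1 u.2).1
  refine ⟨ψ.codRestrict _ fun g => mem_isom.2 ⟨fun x y => ?_, fun x => ?_⟩, fun g u => ?_⟩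
  · simp [res_B, hψ, h5, h6, perp_symm (h6 _ _), h.ee, isom_B (h1 g)]
  · rw [res_q, res_q, hψ, h5, sub_eq_add_neg, ← neg_smul, q_add_smul_sing S _ _ h.qe, h6,
      isom_q (h1 g)]
    simp
  · exact (congrArg Subtype.val (hψ g u)).trans (h5 g u)

end Levi

end Form

section PermMod

variable {F : Type*} [Field F]

/-- the permutation module -/
def permL (F : Type*) [Field F] (n : ℕ) :
    Equiv.Perm (Fin n) →* ((Fin n → F) ≃ₗ[F] (Fin n → F)) :=
  MonoidHom.mk' (fun σ => LinearEquiv.funCongrLeft F F σ⁻¹) fun _ _ => rfl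

theorem permL_apply {n : ℕ} (σ : Equiv.Perm (Fin n)) (x : Fin n → F) (i : Fin n) :
    permL F n σ x i = x (σ⁻¹ i) := rfl

theorem permL_single {n : ℕ} (σ : Equiv.Perm (Fin n)) (i : Fin n) :
    permL F n σ (Pi.single i 1) = Pi.single (σ i) 1 := by
  ext j
  simp [permL_apply, Pi.single_apply, Equiv.symm_apply_eq]

theorem exists_perm_emb {T : FParam F} {n : ℕ} {S : Form T (Fin (n + 1) → F)} (hn : 4 ≤ n)
    (hB : ∀ x y, S.B x y = (∑ i, x i) * (∑ i, y i) - ∑ i, x i * y i) (h2 : (2 : F) = 0)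
    (hq : ∀ i, S.q (Pi.single i 1) = 0) (h : S.IsHyp 1 (Pi.single 0 1)) :
    ∃ ψ : Equiv.Perm (Fin (n + 1)) →* (S.res (S.perp {1, Pi.single 0 1})).isom,
      Function.Injective ψ := by
  have h0 : ∀ i j, S.B (Pi.single i 1) (Pi.single j 1) = if i = j then 0 else 1 := fun i j => by
    rw [hB]; by_cases e : i = j <;> simp [e, Pi.single_apply, Finset.sum_ite_eq', eq_comm]
  obtain ⟨ψ, hψ⟩ := h.exists_levi (permL F (n + 1)) (fun σ => by
    refine Form.mem_isom_of_span (Pi.basisFun F (Fin (n + 1))).span_eq ?_ ?_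
    · rintro _ ⟨i, rfl⟩ _ ⟨j, rfl⟩
      simp [permL_single, h0]
    · rintro _ ⟨i, rfl⟩
      simp [permL_single, hq]) fun σ => rfl
  have h3 : ((n + 1 : ℕ) : F) = 0 := by
    have := h.ee
    have h4 := h.ef
    simp [hB] at this h4
    push_cast
    linear_combination h4 + h2
  refine ⟨ψ, (injective_iff_map_eq_one _).2 fun σ hσ => ?_⟩
  have h5 : ∀ x : Fin (n + 1) → F, ∑ i, x i = 0 → ∃ c : F, ∀ i, x (σ⁻¹ i) = x i + c := fun x hx => by
    have h6 : S.B x 1 = 0 := by simp [hB, hx]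
    have := hψ σ ⟨x - S.B x (Pi.single 0 1) • 1, by simp [h6, h.ee, h.ef]⟩
    rw [hσ] at this
    exact ⟨S.B (permL F _ σ (x - S.B x (Pi.single 0 1) • 1)) (Pi.single 0 1), fun i => by
      have := congrFun this i
      simp only [OneMemClass.coe_one, LinearEquiv.coe_one, id, Pi.sub_apply, permL_apply,
        Pi.smul_apply, Pi.one_apply, smul_eq_mul, mul_one] at this
      linear_combination -this⟩
  have h7 : ∀ i j, i ≠ j → σ i = i ∨ σ i = j := fun i j hij => by
    obtain ⟨c, hc⟩ := h5 (Pi.single i 1 + Pi.single j 1) (by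
      simp [Finset.sum_add_distrib, one_add_one_eq_two, h2])
    obtain ⟨k, hk⟩ : ∃ k, k ∉ ({i, j, σ i, σ j} : Finset (Fin (n + 1))) := by
      by_contra! hk
      have := Finset.card_le_card fun k (_ : k ∈ Finset.univ) => hk k
      have := Finset.card_le_four (a := i) (b := j) (c := σ i) (d := σ j)
      simp at *; omega
    simp only [Finset.mem_insert, Finset.mem_singleton, not_or] at hk
    have h8 := hc k
    have h9 := hc (σ i)
    by_contra! hh
    simp [Pi.single_apply, Equiv.symm_apply_eq, hk, hh, hij] at h8 h9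
    exact one_ne_zero (h9.trans h8.symm)
  ext i
  by_contra hi
  obtain ⟨k, hk⟩ : ∃ k, k ∉ ({i, σ i} : Finset (Fin (n + 1))) := by
    by_contra! hk
    have := Finset.card_le_card fun k (_ : k ∈ Finset.univ) => hk k
    have := Finset.card_le_two (a := i) (b := σ i)
    simp at *; omega
  simp only [Finset.mem_insert, Finset.mem_singleton, not_or] at hk
  rcases h7 i k (Ne.symm hk.1) with e | e
  · exact hi (congrArg Fin.val e)
  · exact hk.2 e.symm

/-- the second elementary symmetric function -/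
def e2Form (F : Type*) [Field F] (n : ℕ) : Form (orthParam F) (Fin n → F) :=
  Form.ofQF (Matrix.toQuadraticForm' (Matrix.of fun i j : Fin n => if i < j then (1 : F) else 0))

theorem e2Form_Q (n : ℕ) (x : Fin n → F) :
    (e2Form F n).Q x = ∑ i, ∑ j, if i < j then x i * x j else 0 := by
  simp [e2Form, Form.ofQF_Q, Matrix.toQuadraticForm', Matrix.toLinearMap₂'_apply]

theorem e2Form_cons (n : ℕ) (a : F) (x : Fin n → F) :
    (e2Form F (n + 1)).Q (Fin.cons a x) = a * ∑ i, x i + (e2Form F n).Q x := by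
  simp [e2Form_Q, Fin.sum_univ_succ, Finset.mul_sum]

theorem e2Form_B (n : ℕ) (x y : Fin n → F) :
    (e2Form F n).B x y = (∑ i, x i) * (∑ i, y i) - ∑ i, x i * y i := by
  induction n with
  | zero => rw [Subsingleton.elim x 0, Form.zero_left]; simp
  | succ n ih =>
    have h1 := (e2Form F (n + 1)).Q_add x y
    have h2 := (e2Form F n).Q_add (Fin.tail x) (Fin.tail y)
    have h3 : ∀ z : Fin (n + 1) → F, (e2Form F (n + 1)).Q z =
        z 0 * ∑ i, Fin.tail z i + (e2Form F n).Q (Fin.tail z) := fun z => by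
      rw [← e2Form_cons, Fin.cons_self_tail]
    rw [h3, h3, h3, show Fin.tail (x + y) = Fin.tail x + Fin.tail y from rfl, h2, ih] at h1
    simp only [Fin.sum_univ_succ, Fin.tail, Pi.add_apply, Finset.sum_add_distrib] at h1 ⊢
    linear_combination -h1

theorem e2Form_one (n : ℕ) : (e2Form F n).Q 1 = (n.choose 2 : ℕ) := by
  induction n with
  | zero => simp [e2Form_Q]
  | succ n ih =>
    rw [show (1 : Fin (n + 1) → F) = Fin.cons 1 1 from funext fun i => by
      cases i using Fin.cases <;> rfl, e2Form_cons, ih, Nat.choose_succ_succ' n 1]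
    simp

theorem e2Form_single {n : ℕ} (i : Fin n) : (e2Form F n).Q (Pi.single i 1) = 0 := by
  rw [e2Form_Q]
  refine Finset.sum_eq_zero fun j _ => Finset.sum_eq_zero fun k _ => ?_
  split_ifs with h
  · by_cases e : j = i
    · simp [e, Pi.single_apply, (e ▸ h).ne']
    · simp [e]
  · rfl

theorem nondeg_of_e2 {T : FParam F} {n : ℕ} {S : Form T (Fin n → F)}
    (hB : ∀ x y, S.B x y = (∑ i, x i) * (∑ i, y i) - ∑ i, x i * y i) (hn : (n : F) = 0) :
    S.Nondeg := fun x hx => by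
  have h1 : ∀ i, x i = ∑ j, x j := fun i => by
    have := hx (Pi.single i 1)
    simp [hB, Pi.single_apply, Finset.sum_ite_eq'] at this
    linear_combination -this
  ext i
  rw [h1, Finset.sum_congr rfl fun j _ => h1 j]
  simp [hn]

theorem e2_gauss [Fintype F] (hF : Fintype.card F = 2) {ψ : AddChar F ℂ} (hψ : ψ ≠ 1) (k : ℕ) :
    ∑ x, ψ ((e2Form F (4 * k)).Q x) = (-4) ^ k := by
  classical
  have h2 : (2 : F) = 0 := two_eq_zero_of_not_odd (by rw [hF]; decide)
  have h1 : (Finset.univ : Finset F) = {0, 1} :=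
    (Finset.eq_univ_of_card _ (by rw [hF, Finset.card_pair zero_ne_one])).symm
  have h3 : ψ 1 = -1 := by
    have := AddChar.sum_eq_zero_of_ne_one hψ
    rw [h1, Finset.sum_pair zero_ne_one, AddChar.map_zero_eq_one] at this
    linear_combination this
  let a : ℕ → ℂ := fun n => ∑ x, ψ ((e2Form F n).Q x)
  let b : ℕ → ℂ := fun n => ∑ x, ψ ((e2Form F n).Q x + ∑ i, x i)
  have h4 : ∀ n (f : (Fin (n + 1) → F) → ℂ), ∑ x, f x =
      ∑ x, f (Fin.cons 0 x) + ∑ x, f (Fin.cons 1 x) := fun n f => by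
    rw [← (Fin.consEquiv fun _ => F).sum_comp, Fintype.sum_prod_type, h1,
      Finset.sum_pair zero_ne_one]
    rfl
  have h5 : ∀ n, a (n + 1) = a n + b n := fun n => by
    simp only [a, b, h4, e2Form_cons, zero_mul, zero_add, one_mul, add_comm]
  have h6 : ∀ n, b (n + 1) = b n - a n := fun n => by
    simp only [a, b, h4, e2Form_cons, Fin.sum_cons, zero_mul, zero_add, one_mul, sub_eq_add_neg,
      ← Finset.sum_neg_distrib]
    refine congrArg _ (Finset.sum_congr rfl fun x _ => ?_)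
    rw [← neg_one_mul, ← h3, ← AddChar.map_add_eq_mul]
    congr 1
    linear_combination (∑ i, x i) * h2
  have h7 : a (4 * k) = (-4) ^ k ∧ b (4 * k) = (-4) ^ k := by
    induction k with
    | zero => simp [a, b, e2Form_Q]
    | succ k ih =>
      rw [show 4 * (k + 1) = 4 * k + 1 + 1 + 1 + 1 by ring]
      simp only [h5, h6, ih, pow_succ]
      constructor <;> ring
  exact h7.1

theorem exists_perm_orth [Fintype F] (hF : Fintype.card F = 2) {k : ℕ} (hk : 1 ≤ k) :
    ∃ (V : Submodule F (Fin (4 * k + 4) → F)) (S : Form (orthParam F) V), S.Nondeg ∧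
      finrank F V = 2 * (2 * k + 1) ∧ (S.IsPlus ↔ Odd k) ∧
        ∃ ψ : Equiv.Perm (Fin (4 * k + 4)) →* S.isom, Function.Injective ψ := by
  classical
  have h2 : (2 : F) = 0 := two_eq_zero_of_not_odd (by rw [hF]; decide)
  have h0 : ((4 * k + 4 : ℕ) : F) = 0 := by push_cast; linear_combination (2 * k + 2) * h2
  have hS := nondeg_of_e2 (e2Form_B (F := F) (4 * k + 4)) h0
  have h : (e2Form F (4 * k + 4)).IsHyp 1 (Pi.single 0 1) := Form.orth_isHyp (by
    rw [e2Form_one, Nat.choose_two_right, show (4 * k + 4) * (4 * k + 4 - 1) =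
      2 * (2 * ((k + 1) * (4 * k + 3))) by rw [show 4 * k + 4 - 1 = 4 * k + 3 by omega]; ring,
      Nat.mul_div_cancel_left _ two_pos]
    simp [h2]) (e2Form_single 0) (by
      push_cast at h0
      simp [e2Form_B]
      linear_combination h0 - h2)
  have h3 := hS.finrank_perp_hyp h
  refine ⟨_, _, (hS.nondegOn_perp_hyp h).res, by simp at h3; omega, ?_,
    exists_perm_emb (n := 4 * k + 3) (by omega) (e2Form_B _) h2
      (fun i => (Form.q_eq_zero_iff _).2 (e2Form_single i)) h⟩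
  obtain ⟨ψ, hψ⟩ := exists_addChar F
  have h4 := hS.gauss (m := 2 * (k + 1)) (by simp; ring) hψ
  rw [show ∑ v, ψ ((e2Form F (4 * k + 4)).Q v) = _ from e2_gauss hF hψ (k + 1), hF] at h4
  have h5 : (e2Form F (4 * k + 4)).tp = (-1) ^ (k + 1) :=
    units_eq_of_cast (c := 4 ^ (k + 1)) (by simp) (by
      rw [neg_pow, pow_mul] at h4; push_cast at h4 ⊢; norm_num at h4 ⊢; exact h4.symm)
  rw [h.isPlus_perp_iff hS, ← Form.tp_eq_one_iff, h5, neg_one_pow_eq_one_iff_even (by decide),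
    Nat.even_add_one, Nat.not_even_iff_odd]

theorem exists_perm_sp (h2 : (2 : F) = 0) {n : ℕ} (hn : 3 ≤ n) :
    ∃ f : Equiv.Perm (Fin (2 * n)) →* symplecticGroup (Fin (n - 1)) F, Function.Injective f := by
  obtain ⟨n, rfl⟩ : ∃ m, n = m + 1 := ⟨n - 1, by omega⟩
  have h0 : ((2 * n + 1 + 1 : ℕ) : F) = 0 := by push_cast; linear_combination (n + 1) * h2
  have hB : ∀ x y, (Form.toSp h2 (e2Form F (2 * n + 1 + 1))).B x y = _ := e2Form_B _
  have hS := nondeg_of_e2 hB h0
  have h : (Form.toSp h2 (e2Form F (2 * n + 1 + 1))).IsHyp 1 (Pi.single 0 1) :=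
    Form.sp_isHyp _ (by
      simp [hB, h2])
  have h3 := hS.finrank_perp_hyp h
  obtain ⟨ψ, hψ⟩ := exists_perm_emb (by omega) hB h2 (fun i => Form.sp_q _ _) h
  obtain ⟨e⟩ := (hS.nondegOn_perp_hyp h).res.sp_nonempty_equiv (m := n) (by simp at h3; omega)
  exact ⟨e.toMonoidHom.comp ψ, e.injective.comp hψ⟩

end PermMod

end CfsgH5
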