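import Cfsg.Agent.H5.As17
import Cfsg.Agent.H5.Orth2

/-!
Non-maximal geometric subgroups of the orthogonal groups.
-/

set_option autoImplicit false

namespace CfsgH5

open Matrix Cfsg Cfsg.Geo Module
open scoped MatrixGroups Kronecker commutatorElement

attribute [-simp] Matrix.coe_units_inv

variable {ι : Type} [Fintype ι] [DecidableEq ι] {F : Type*} [Field F]

theorem NM.mono {Γ : Type*} [Group Γ] {G M M' : Subgroup Γ} (h : NM G M') (h1 : M ⊓ G ≤ M') : NM G M :=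
  let ⟨K, h2, h3⟩ := h
  ⟨K, (le_inf h1 inf_le_right).trans_lt h2, h3⟩

section Om

variable {S : SForm ι F} {Q : (ι → F) → F} {κ μ : Type} [Fintype κ] [DecidableEq κ] [Fintype μ]
  [DecidableEq μ] {t : ℕ}

theorem mem_omegaGL (hσ : S.σ = RingHom.id F) (hQ : IsQ Q S.f) {g : GL ι F} :
    g ∈ omegaGL Q ↔ glEquiv ι F g ∈ (S.oF hσ hQ).om := by rw [omegaGL_eq (S.oF_Q hσ hQ)]; rfl

theorem mem_isom (hσ : S.σ = RingHom.id F) (hQ : IsQ Q S.f) {g : GL ι F} :
    g ∈ isometryGroup F Q ↔ glEquiv ι F g ∈ (S.oF hσ hQ).isom := by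
  rw [Form.orth_mem_isom, mem_isometryGroup]; simp only [S.oF_Q, glEquiv_apply]

theorem gen_five (hn : 5 ≤ Fintype.card ι) : (∃ a : F, a ≠ 0 ∧ a ≠ 1) ∨ finrank F (ι → F) ≠ 4 :=
  Or.inr (by simp; omega)

theorem exists_eich (hσ : S.σ = RingHom.id F) (hQ : IsQ Q S.f) (hn : 5 ≤ Fintype.card ι) {a b : ι → F}
    (ha : Q a = 0) (hb : S.f b a = 0) : ∃ g ∈ omegaGL Q, ∀ x, g.val *ᵥ x =
      x + S.f x a • b - (S.f x b + Q b * S.f x a) • a := by
  have hE := Form.orth_isEich (S := S.oF hσ hQ) ((S.oF_Q hσ hQ a).trans ha) (S.oF_B hσ hQ ▸ hb)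
  refine ⟨(glEquiv ι F).symm (Form.eich hE), (mem_omegaGL hσ hQ).2 ?_, fun x => ?_⟩
  · rw [MulEquiv.apply_symm_apply]
    exact (S.oF_nondeg hσ hQ).EG_le_om (gen_five hn) (Form.eich_mem_EG hE)
  · rw [glEquiv_symm_mulVec, Form.orth_eich_apply, S.oF_B, S.oF_Q]

theorem sq_mem_omega [Finite F] (hσ : S.σ = RingHom.id F) (hQ : IsQ Q S.f) (hn : 5 ≤ Fintype.card ι)
    {g : GL ι F} (hg : g ∈ isometryGroup F Q) : g * g ∈ omegaGL Q := by
  rw [mem_omegaGL hσ hQ, map_mul]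
  exact (S.oF_nondeg hσ hQ).sq_mem_om (gen_five hn) ((mem_isom hσ hQ).1 hg)

theorem om_le_iso (hQ : IsQ Q S.f) : omegaGL Q ≤ S.iso :=
  (omegaGL_le Q).trans (S.isometryGroup_le_iso hQ)

theorem SForm.exists_sep (S : SForm ι F) (W : Submodule F (ι → F)) {x : ι → F} (hx : x ∉ W) :
    ∃ y, (∀ w ∈ W, S.f w y = 0) ∧ S.f x y = 1 := by
  obtain ⟨φ, h1, h2⟩ := W.exists_dual_map_eq_bot_of_notMem hx inferInstance
  obtain ⟨u, hu⟩ := exists_dot ((φ x)⁻¹ • φ)
  refine ⟨S.σ ∘ (S.G⁻¹.val *ᵥ u), ?_, ?_⟩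
  all_goals
    have h4 : ∀ w, S.f w (S.σ ∘ (S.G⁻¹.val *ᵥ u)) = (φ x)⁻¹ * φ w := fun w => by
      have := hu w
      simp only [bf, one_mulVec, RingHom.coe_id, Function.id_comp, LinearMap.smul_apply,
        smul_eq_mul] at this
      rw [← this, SForm.f, bf, ← Function.comp_assoc, show S.σ ∘ S.σ = id from funext S.σσ,
        Function.id_comp, gl_mulVec_inv]
  · intro w hw
    rw [h4, (Submodule.eq_bot_iff _).1 h2 _ ⟨w, hw, rfl⟩, mul_zero]
  · rw [h4, inv_mul_cancel₀ h1]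

theorem lagSign_om [Finite F] (hσ : S.σ = RingHom.id F) (hQ : IsQ Q S.f) (hn : 5 ≤ Fintype.card ι)
    {U : Submodule F (ι → F)} (hU : (S.oF hσ hQ).IsLag U) {g : GL ι F} (hg : g ∈ omegaGL Q) :
    lagSign U (U.map (toLin' g.val)) = 1 :=
  (Form.lagSign_map_eq_dk (S.oF_nondeg hσ hQ) (gen_five hn) hU
    (Form.om_le_isom ((mem_omegaGL hσ hQ).1 hg))).trans
    ((S.oF_nondeg hσ hQ).dk_om (gen_five hn) ((mem_omegaGL hσ hQ).1 hg))

theorem ts_ne_top [Nonempty ι] (hQ : IsQ Q S.f) {W : Submodule F (ι → F)}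
    (hW : IsTotallySingularQuad Q W) : W ≠ ⊤ := by
  rintro rfl
  obtain ⟨u, v, h⟩ := S.exists_f_ne
  exact h (hQ.ts_f hW trivial trivial)

theorem nm_o_ts [Finite F] (hσ : S.σ = RingHom.id F) (hQ : IsQ Q S.f) (hn : 5 ≤ Fintype.card ι)
    (hp : IsPlusTypeOn Q ⊤) {W : Submodule F (ι → F)} (hW : IsTotallySingularQuad Q W)
    (hd : 2 * (finrank F W + 1) = Fintype.card ι) : NM (omegaGL Q) (subspaceStabilizer W) := by
  haveI : Nonempty ι := Fintype.card_pos_iff.1 (by omega)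
  have hS := S.oF_nondeg hσ hQ
  obtain ⟨L, hL⟩ := (isPlus_top_iff hσ hQ).2 hp
  have h1 := hL.dim
  rw [finrank_fintype_fun_eq_card] at h1
  obtain ⟨X, h2, h3, h4⟩ := hS.exists_totSing_ge ((oF_totSing hσ hQ).2 hW) hL.ts (by omega)
  have hX : (S.oF hσ hQ).IsLag X := ⟨h2, by rw [h4, hL.dim]⟩
  obtain ⟨X', h5, h6, h7, h8⟩ := hS.two_lag hX h3 (by omega)
  replace h2 := (oF_totSing hσ hQ).1 h2
  refine .of (M' := subspaceStabilizer X) (fun g hg => ?_) ((big_om hσ hQ hn).not_le_stab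
    (fun h => by rw [h] at h4; simp at h4; omega) (ts_ne_top hQ h2)) fun h => ?_
  · rcases h8 _ (hX.map ((mem_isom hσ hQ).1 (omegaGL_le Q hg.2))) (by
      rw [← map_eq_of_mem_stab hg.1]; exact Submodule.map_mono h3) with h | h
    · exact mem_stab_of_map h
    · rw [← h, glEquiv_coe, lagSign_om hσ hQ hn hX hg.2] at h7
      exact absurd h7 (by decide)
  obtain ⟨v, hv, hvW⟩ := SetLike.exists_of_lt (lt_of_le_of_ne h3 fun h => by rw [h] at hd; omega)
  obtain ⟨u, hu, hu0⟩ := Submodule.exists_mem_ne_zero_of_ne_bot (p := W)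
    (fun h => by rw [h] at hd; simp at hd; omega)
  obtain ⟨w, h9, h10⟩ := S.exists_sep (Submodule.span F {v}) (x := u) fun h => by
    obtain ⟨c, rfl⟩ := Submodule.mem_span_singleton.1 h
    exact hvW ((W.smul_mem_iff (by rintro rfl; simp at hu0)).1 hu)
  obtain ⟨g, h11, h12⟩ := exists_eich hσ hQ hn (h2 v hv)
    (S.eq_zero_comm (h9 v (Submodule.mem_span_singleton_self v)))
  have h13 := mem_subspaceStabilizer.1 (h ⟨mem_subspaceStabilizer.2 fun x hx => by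
    rw [h12, hQ.ts_f h2 hx hv, zero_smul, add_zero]
    exact sub_mem hx (X.smul_mem _ hv), h11⟩) u hu
  rw [h12, hQ.ts_f h2 (h3 hu) hv, h10] at h13
  exact hvW (by simpa using W.sub_mem hu h13)

theorem exists_hyp_plane (hσ : S.σ = RingHom.id F) (hQ : IsQ Q S.f) {W : Submodule F (ι → F)}
    (hW : IsNondegenerateOn S.f W) (hd : finrank F W = 2) (hp : IsPlusTypeOn Q W) :
    ∃ e f, Q e = 0 ∧ Q f = 0 ∧ S.f e f = 1 ∧ W = Submodule.span F {e, f} := by
  obtain ⟨U, h1, h2, h3⟩ := hp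
  obtain ⟨e, he, h0⟩ := Submodule.exists_mem_ne_zero_of_ne_bot (p := U) (by rintro rfl; simp [hd] at h3)
  obtain ⟨f, hf, h4⟩ := (Form.NondegOn.of_res (res_nondeg hσ hQ hW)).exists_isHyp_of (h1 he) h0
    ((Form.q_eq_zero_iff _).2 ((S.oF_Q hσ hQ e).trans (h2 e he)))
  exact ⟨e, f, h2 e he, (S.oF_Q hσ hQ f).symm.trans h4.Qf, S.oF_B hσ hQ ▸ h4.ef,
    (Submodule.eq_of_le_of_finrank_eq (Submodule.span_le.2 (by
      rintro _ (rfl | rfl); exacts [h1 he, hf])) (by rw [h4.finrank_span, hd])).symm⟩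

theorem OC.exists_sing [Finite F] (hσ : S.σ = RingHom.id F) (hQ : IsQ Q S.f)
    {W W' : Submodule F (ι → F)} (h : OC S W W') (hd : finrank F W + 3 ≤ Fintype.card ι) :
    ∃ s ∈ W', s ≠ 0 ∧ Q s = 0 := by
  simpa only [S.oF_Q] using (S.oF hσ hQ).exists_sing_of_three W' (by have := h.finrank_add; omega)

theorem OC.eq_zero {W W' : Submodule F (ι → F)} (h : OC S W W') {v : ι → F} (h1 : v ∈ W) (h2 : v ∈ W') :
    v = 0 := (Submodule.disjoint_def.1 h.compl.disjoint) v h1 h2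

theorem mul_self_of_le_three [Fintype F] (h : Fintype.card F ≤ 3) {c : F} (hc : c ≠ 0) : c * c = 1 := by
  have := Fintype.one_lt_card (α := F)
  by_cases h3 : Fintype.card F = 3
  · exact mul_self_of_card_three h3 hc
  · rw [eq_one_of_card_two (by omega) hc, one_mul]

theorem nm_o_plane [Fintype F] (hσ : S.σ = RingHom.id F) (hQ : IsQ Q S.f) (hn : 5 ≤ Fintype.card ι)
    (hq : Fintype.card F ≤ 3) {W : Submodule F (ι → F)} (hW : IsNondegenerateOn S.f W)
    (hd : finrank F W = 2) (hp : IsPlusTypeOn Q W) : NM (omegaGL Q) (subspaceStabilizer W) := by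
  obtain ⟨W', hW'⟩ := (S.hasForm_isQ hσ hQ).exists_oc hW
  obtain ⟨a, h1, h2, h3⟩ := hW'.exists_sing hσ hQ (by omega)
  obtain ⟨e, f, he, hf, hef, rfl⟩ := exists_hyp_plane hσ hQ hW hd hp
  have h4 : e ∈ Submodule.span F {e, f} := Submodule.subset_span (by simp)
  have h5 : f ∈ Submodule.span F {e, f} := Submodule.subset_span (by simp)
  have h6 : Q (e + f) = 1 := by rw [hQ.add, he, hf, hef]; simp
  refine .of (M' := subspaceStabilizer (Submodule.span F {e + f})) (fun g hg => ?_)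
    ((big_om hσ hQ hn).not_le_stab (by
      rw [Ne, Submodule.span_singleton_eq_bot]; rintro h; simp [h, hQ.zero] at h6) fun h => by
      have := finrank_span_one (F := F) (e + f)
      rw [h, finrank_top, finrank_fintype_fun_eq_card] at this
      omega) fun h => ?_
  · refine mem_subspaceStabilizer.2 fun v hv => ?_
    obtain ⟨c, rfl⟩ := Submodule.mem_span_singleton.1 hv
    obtain ⟨x, y, h7⟩ := Submodule.mem_span_pair.1 (mem_subspaceStabilizer.1 hg.1 _ (add_mem h4 h5))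
    have h8 := mem_isometryGroup.1 (omegaGL_le Q hg.2) (e + f)
    rw [← h7, h6, hQ.add, hQ.smul, hQ.smul, he, hf, S.sesq.smul_left, S.smul_right_id hσ, hef] at h8
    have h9 : x ≠ 0 := by rintro rfl; simp at h8
    obtain rfl : y = x := by linear_combination x * h8 - y * mul_self_of_le_three hq h9
    rw [mulVec_smul, ← h7, ← smul_add]
    exact Submodule.smul_mem _ _ (Submodule.smul_mem _ _ (Submodule.mem_span_singleton_self _))
  obtain ⟨g, h7, h8⟩ := exists_eich hσ hQ hn h3 (hW'.orth _ (sub_mem h4 h5) _ h1)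
  have h9 := mem_subspaceStabilizer.1 (h ⟨mem_subspaceStabilizer.2 fun v hv => by
    obtain ⟨c, rfl⟩ := Submodule.mem_span_singleton.1 hv
    rw [mulVec_smul, h8, hW'.orth _ (add_mem h4 h5) _ h1, S.sesq.add_left, S.sesq.sub_right,
      S.sesq.sub_right, hQ.self, hQ.self, he, hf, hQ.symm f e]
    simpa using hv, h7⟩) e h4
  rw [h8, hW'.orth _ h4 _ h1, S.sesq.sub_right, hQ.self, he, hef] at h9
  exact h2 (hW'.eq_zero (by simpa using sub_mem h9 h4) h1)

theorem nm_of_norm [Finite F] (hσ : S.σ = RingHom.id F) (hQ : IsQ Q S.f) (hn : 5 ≤ Fintype.card ι)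
    {k : ℕ} {D : Fin t → Submodule F (ι → F)} (hD : IsNondegenerateMDecomposition S.f k D) {i : Fin t}
    {v : ι → F} (hv : v ∈ D i) (h0 : v ≠ 0) {g : GL ι F} (hg : g ∈ omegaGL Q)
    (h1 : ∀ j, ∀ w ∈ D j, Q w = Q v → ∃ l, g.val *ᵥ w ∈ D l) (h2 : g ∉ decompositionStabilizer D) :
    NM (omegaGL Q) (decompositionStabilizer D) := by
  obtain ⟨W', hW'⟩ := (S.hasForm_isQ hσ hQ).exists_oc (hD.nondegenerate i)
  obtain ⟨s, h3, h4, h5⟩ := hW'.exists_sing hσ hQ (by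
    have := IsMDecomposition.mul_eq hD.decomp
    have := Nat.mul_le_mul_right k hD.decomp.two_le
    rw [hD.decomp.finrank_eq]; omega)
  have h6 : ∀ l, v + s ∉ D l := fun l hl => by
    by_cases h : l = i
    · subst h
      exact h4 (hW'.eq_zero (by simpa using sub_mem hl hv) h3)
    · exact h0 (hW'.eq_zero hv (by
        simpa using sub_mem (hW'.mem_iff.2 fun w hw => hD.orthogonal i l (Ne.symm h) w hw _ hl) h3))
  refine .of (M' := setStab {w | Q w = Q v ∧ ∃ j, w ∈ D j}) (fun a ha => mem_setStab ?_)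
    ((big_om hσ hQ hn).not_le_setStab ⟨rfl, i, hv⟩ (w := v + s) (fun h => h.2.elim h6) h0
      (fun h => h6 i (h ▸ zero_mem _)) (by rw [hQ.add, h5, hW'.orth v hv s h3]; simp)) fun h =>
    h2 (h ⟨mem_setStab fun w ⟨a, j, b⟩ => ⟨(mem_isometryGroup.1 (omegaGL_le Q hg) w).trans a,
      h1 j w b a⟩, hg⟩)
  rintro w ⟨h7, j, h8⟩
  obtain ⟨π, hπ⟩ := ha.1
  exact ⟨(mem_isometryGroup.1 (omegaGL_le Q ha.2) w).trans h7, π j, hπ j ▸ ⟨w, h8, rfl⟩⟩

theorem sum_cmp_inj {Q₀ : (κ → F) → F} (h0 : Q₀ 0 = 0) (i : Fin t) (y : κ → F) :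
    ∑ j, Q₀ (cmp (inj i y) j) = Q₀ y := by
  rw [Finset.sum_eq_single i (fun j _ hj => by rw [cmp_inj_ne hj, h0]) (by simp), cmp_inj_self]

theorem exists_perm_sq (ht : 3 ≤ t) : ∃ (σ : Equiv.Perm (Fin t)) (j : Fin t), j ≠ σ (σ j) :=
  ⟨Equiv.swap ⟨0, by omega⟩ ⟨1, by omega⟩ * Equiv.swap ⟨1, by omega⟩ ⟨2, by omega⟩, ⟨0, by omega⟩, by
    simp [Equiv.swap_apply_def, Fin.ext_iff]⟩

theorem nm_o_perm [Finite F] (hσ : S.σ = RingHom.id F) (hQ : IsQ Q S.f) (hn : 5 ≤ Fintype.card ι)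
    (ht : 3 ≤ t) {k : ℕ} {D : Fin t → Submodule F (ι → F)} (hD : IsOrthogonalMDecomposition Q k D)
    {Q₀ : (κ → F) → F} {i : Fin t} (hT : ∃ T : (κ → F) ≃ₗ[F] D i, ∀ x, Q (T x) = Q₀ x)
    (p : κ → Prop) [DecidablePred p] (a b : κ) (ha : p a) (hb : ¬ p b)
    (h1 : ∀ y, Q₀ y = Q₀ (fun a => if p a then y a else 0) + Q₀ fun a => if p a then 0 else y a)
    (h2 : ∀ y, Q₀ y = Q₀ (Pi.single a 1) → (∀ a, p a → y a = 0) ∨ ∀ a, ¬ p a → y a = 0) :
    NM (omegaGL Q) (decompositionStabilizer D) := by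
  obtain ⟨e, P, h3, h4⟩ := exists_DF_bq hQ hD i hT
  have h0 : Q₀ 0 = 0 := by
    obtain ⟨T, hT⟩ := hT
    rw [← hT, map_zero]; exact hQ.zero
  obtain ⟨σ, j, hj⟩ := exists_perm_sq ht
  let π : Equiv.Perm (Fin t) → Equiv.Perm (κ × Fin t) := fun σ =>
    Equiv.prodCongrRight fun a => if p a then σ else 1
  obtain ⟨g, hg⟩ := exists_permG (F := F) (π σ)
  have h5 : ∀ x, (g * g).val *ᵥ x = x ∘ π (σ * σ) := fun x => by
    rw [gl_mul_mulVec, hg, hg]
    funext ⟨c, l⟩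
    by_cases hc : p c <;> simp [π, hc]
  refine nm_of_norm hσ hQ hn (hQ.polar_eq ▸ hD.decomp) (h3.inj_mem i (Pi.single a 1))
    (by simp [frV_eq_zero, inj_single]) (g := frG e P (g * g)) ?_ (fun l w hw h6 => ?_)
    (h3.perm_notMem h5 (a := a) (b := b) (i := σ (σ j)) hj (by simp [π, ha]) (by simp [π, hb]))
  · rw [map_mul]
    refine sq_mem_omega hσ hQ hn (frG_mem_isometryGroup fun x => ?_)
    rw [h4, h4, hg, Finset.sum_congr rfl fun j _ => h1 _, Finset.sum_congr rfl fun j _ => h1 (cmp x j),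
      Finset.sum_add_distrib, Finset.sum_add_distrib, ← Equiv.sum_comp σ fun j => Q₀ fun a =>
        if p a then cmp x j a else 0]
    congr 1 <;> refine Finset.sum_congr rfl fun j _ => congrArg _ (funext fun c => ?_) <;>
      by_cases hc : p c <;> simp [π, hc, cmp]
  obtain ⟨y, rfl⟩ := h3.exists_inj hw
  rw [h4, h4, sum_cmp_inj h0, sum_cmp_inj h0] at h6
  rw [frG_mulVec, h5]
  rcases h2 y h6 with h | h
  · refine ⟨l, (h3 _ _).2 fun m hm => funext fun c => ?_⟩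
    by_cases hc : p c <;> simp [π, hc, cmp, inj, hm, h]
  · refine ⟨(σ * σ)⁻¹ l, (h3 _ _).2 fun m hm => funext fun c => ?_⟩
    have : σ (σ m) ≠ l := by rintro rfl; simp at hm
    by_cases hc : p c <;> simp [π, hc, cmp, inj, this, h]

theorem exists_sform_diag (h2 : (2 : F) ≠ 0) {d : κ → F} (hd : ∀ i, d i ≠ 0) :
    ∃ S₀ : SForm κ F, S₀.σ = RingHom.id F ∧ IsQ (fun y => ∑ i, d i * y i ^ 2) S₀.f :=
  ⟨⟨RingHom.id F, fun _ => rfl, 1, Or.inl rfl, GeneralLinearGroup.mkOfDetNeZero (diagonal fun i => 2 * d i)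
    (by simp [Finset.prod_ne_zero_iff, h2, hd]), by simp⟩, rfl, fun c v => by
      simp only [Pi.smul_apply, smul_eq_mul, Finset.mul_sum]
      exact Finset.sum_congr rfl fun _ _ => by ring, fun u v => by
      simp only [SForm.f, bf, dotProduct, GeneralLinearGroup.mkOfDetNeZero, GeneralLinearGroup.mk',
        unitOfDetInvertible, val_unitOfInvertible, mulVec_diagonal, ← Finset.sum_add_distrib]
      exact Finset.sum_congr rfl fun _ _ => by simp; ring⟩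

theorem plus_two {Q₀ : (Fin 2 → F) → F} {f : (Fin 2 → F) → (Fin 2 → F) → F} (hQ : IsQ Q₀ f) :
    IsPlusTypeOn Q₀ ⊤ ↔ ∃ v, v ≠ 0 ∧ Q₀ v = 0 := by
  constructor
  · rintro ⟨U, -, h1, h2⟩
    obtain ⟨v, hv, h0⟩ := U.exists_mem_ne_zero_of_ne_bot (by rintro rfl; simp at h2)
    exact ⟨v, h0, h1 v hv⟩
  · rintro ⟨v, h0, h1⟩
    refine ⟨Submodule.span F {v}, le_top, fun w hw => ?_, by simp [finrank_span_singleton h0]⟩
    obtain ⟨c, rfl⟩ := Submodule.mem_span_singleton.1 hw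
    rw [hQ.smul, h1, mul_zero]

theorem exists_T_odd [Finite F] (hσ : S.σ = RingHom.id F) (hQ : IsQ Q S.f) {S₀ : SForm κ F}
    (hσ₀ : S₀.σ = RingHom.id F) {Q₀ : (κ → F) → F} (hQ₀ : IsQ Q₀ S₀.f) {W : Submodule F (ι → F)}
    (hW : IsNondegenerateOn S.f W) (hd : finrank F W = Fintype.card κ) (ho : Odd (Fintype.card κ)) :
    ∃ c, c ≠ 0 ∧ ∃ T : (κ → F) ≃ₗ[F] W, ∀ x, Q (T x) = c * Q₀ x := by
  obtain ⟨c, hc, φ, hφ⟩ := (S₀.oF_nondeg hσ₀ hQ₀).exists_similar_odd (res_nondeg hσ hQ hW)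
    (two_ne_of_odd_on hσ hQ hW (hd ▸ ho)) (by simp [hd]) (by simpa using ho)
  exact ⟨c, hc, φ, fun x => by rw [← S.oF_Q hσ hQ, ← Form.res_Q, hφ.Q, Form.scale_Q, S₀.oF_Q]⟩

theorem zmod_two {p : ℕ} [Fact p.Prime] [Fintype F] (h : Fintype.card F = p) {c d : ℤ}
    (H : ∀ x y : ZMod p, x ^ 2 + d * y ^ 2 = c → x = 0 ∨ y = 0) {x y : F} (h1 : x ^ 2 + d * y ^ 2 = c) :
    x = 0 ∨ y = 0 := by
  let φ : ZMod p ≃+* F := FiniteField.ringEquivOfCardEq (by simp [h])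
  obtain ⟨x, rfl⟩ := φ.surjective x
  obtain ⟨y, rfl⟩ := φ.surjective y
  simpa using H x y (φ.injective (by simpa using h1))

theorem nm_o_diag [Fintype F] (hσ : S.σ = RingHom.id F) (hQ : IsQ Q S.f) (hn : 5 ≤ Fintype.card ι)
    {D : Fin t → Submodule F (ι → F)} (hD : IsOrthogonalMDecomposition Q 2 D) (h2 : (2 : F) ≠ 0)
    {d : F} (hd : d ≠ 0) {i : Fin t} (hp : (∃ s : F, s ^ 2 + d = 0) ↔ IsPlusTypeOn Q (D i))
    (H : ∀ x y : F, x ^ 2 + d * y ^ 2 = 1 → x = 0 ∨ y = 0) : NM (omegaGL Q) (decompositionStabilizer D) := by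
  obtain ⟨S₀, h3, h4⟩ := exists_sform_diag h2 (d := ![1, d]) (by simp [Fin.forall_fin_two, hd])
  refine nm_o_perm hσ hQ hn (by have := IsMDecomposition.mul_eq hD.decomp.decomp; omega) hD
    (exists_T_even hσ hQ h3 h4 (hQ.polar_eq ▸ hD.decomp.nondegenerate i)
      (by simp [hD.decomp.decomp.finrank_eq]) (by simp) ?_) (· = 0) 0 1 rfl (by simp)
    (fun y => by simp) fun y hy => by simpa [Fin.forall_fin_two] using H (y 0) (y 1) (by simpa using hy)
  rw [plus_two h4, ← hp]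
  refine ⟨fun ⟨v, h0, h1⟩ => ⟨v 0 / v 1, ?_⟩, fun ⟨s, hs⟩ => ⟨![s, 1], by simp, by simpa using hs⟩⟩
  simp only [Fin.sum_univ_two, cons_val_zero, cons_val_one] at h1
  have : v 1 ≠ 0 := fun h5 => h0 (funext fun j => by fin_cases j <;> simp_all)
  field_simp
  linear_combination h1

theorem exists_siegel_two (hσ : S.σ = RingHom.id F) (hQ : IsQ Q S.f) (hn : 5 ≤ Fintype.card ι)
    (h2 : (2 : F) = 0) {D : Fin t → Submodule F (ι → F)} {e : ι ≃ Fin 2 × Fin t} {P : GL ι F}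
    (hD : DF D e P) {m : F} (h : ∀ x, Q (frV e P x) = ∑ j, (cmp x j 0 ^ 2 + cmp x j 0 * cmp x j 1 +
      m * cmp x j 1 ^ 2)) : ∃ g, frG e P g ∈ omegaGL Q ∧ frG e P g ∉ decompositionStabilizer D ∧
      (∀ z : Fin 2 × Fin t → F, (∀ j, z (1, j) = 0) → g.val *ᵥ z = z) ∧ ∀ F₀, Ent F₀ g.val := by
  have ht : 3 ≤ t := by have := Fintype.card_congr e; simp at this; omega
  let i : Fin t := ⟨0, by omega⟩
  let j : Fin t := ⟨1, by omega⟩
  let k : Fin t := ⟨2, by omega⟩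
  have hQ₀ : IsQ (fun y : Fin 2 → F => y 0 ^ 2 + y 0 * y 1 + m * y 1 ^ 2) (detForm F).f :=
    ⟨fun c v => by simp; ring, fun u v => by
      simp only [detForm_f, Pi.add_apply]
      linear_combination (u 0 * v 0 + m * u 1 * v 1 + u 1 * v 0) * h2⟩
  have hB := bf_of_Q hQ hQ₀ h
  have h1 : ∀ z l, S.f (frV e P z) (frV e P (Pi.single (0, l) 1)) = z (1, l) := fun z l => by
    rw [hQ.symm, ← S.frame_f, ← inj_single, hB.f_inj, detForm_f]; simp [cmp]
  have h3 : ∀ l, Q (frV e P (Pi.single (0, l) 1)) = 1 := fun l => by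
    rw [← inj_single]
    exact (h _).trans ((sum_cmp_inj (Q₀ := fun y : Fin 2 → F => y 0 ^ 2 + y 0 * y 1 + m * y 1 ^ 2)
      (by simp) _ _).trans (by simp))
  have h4 : ∀ l, Q (frV e P (Pi.single (0, i) 1 + Pi.single (0, l) 1)) = 0 := fun l => by
    rw [frV_add, hQ.add, h3, h3, h1]; simpa [one_add_one_eq_two] using h2
  obtain ⟨g, h5, h6⟩ := exists_eich hσ hQ hn (h4 j) (b := frV e P (Pi.single (0, i) 1 +
    Pi.single (0, k) 1)) (by rw [frV_add e P _ (Pi.single (0, j) 1), S.sesq.add_right, h1, h1]; simp)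
  obtain ⟨g, rfl⟩ := (frG e P).surjective g
  have h7 : ∀ z, g.val *ᵥ z = z + (z (1, i) + z (1, j)) • (Pi.single (0, i) 1 + Pi.single (0, k) 1) -
      (z (1, i) + z (1, k)) • (Pi.single (0, i) 1 + Pi.single (0, j) 1) := fun z => frV_inj e P (by
    rw [← frG_mulVec, h6, h4, frV_add e P _ (Pi.single (0, j) 1), frV_add e P _ (Pi.single (0, k) 1),
      S.sesq.add_right, S.sesq.add_right, h1, h1, h1]
    simp only [← frL_apply, map_sub, map_add, map_smul, zero_mul, add_zero])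
  refine ⟨g, h5, hD.notMem (i := i) (j := i) (k := j) (y := Pi.single 1 1) (by simp [i, j])
    (frG_mulVec _ _ _ _) (fun h8 => ?_) (fun h8 => ?_), fun z hz => by simp [h7, hz], fun F₀ a b => ?_⟩
  · simpa [h7, inj_single, cmp, i, j, k] using congrFun h8 1
  · simpa [h7, inj_single, cmp, i, j, k] using congrFun h8 0
  · have h8 : ∀ p q : Fin 2 × Fin t, (Pi.single p 1 : Fin 2 × Fin t → F) q ∈ F₀ := fun p q => by
      by_cases hj : q = p <;> simp [hj, one_mem, zero_mem]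
    rw [show g.val a b = (g.val *ᵥ Pi.single b 1) a by simp, h7]
    exact sub_mem (add_mem (h8 _ _) (mul_mem (add_mem (h8 _ _) (h8 _ _)) (add_mem (h8 _ _) (h8 _ _))))
      (mul_mem (add_mem (h8 _ _) (h8 _ _)) (add_mem (h8 _ _) (h8 _ _)))

theorem exists_DF_two [Finite F] (hσ : S.σ = RingHom.id F) (hQ : IsQ Q S.f) (h2 : (2 : F) = 0)
    {D : Fin t → Submodule F (ι → F)} (hD : IsOrthogonalMDecomposition Q 2 D) {i : Fin t}
    (hp : IsPlusTypeOn Q (D i)) {m s : F} (hs : s ^ 2 + s + m = 0) :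
    ∃ (e : ι ≃ Fin 2 × Fin t) (P : GL ι F), DF D e P ∧ ∀ x, Q (frV e P x) =
      ∑ j, (cmp x j 0 ^ 2 + cmp x j 0 * cmp x j 1 + m * cmp x j 1 ^ 2) := by
  have hQ₀ : IsQ (fun y : Fin 2 → F => y 0 ^ 2 + y 0 * y 1 + m * y 1 ^ 2) (detForm F).f :=
    ⟨fun c v => by simp; ring, fun u v => by
      simp only [detForm_f, Pi.add_apply]
      linear_combination (u 0 * v 0 + m * u 1 * v 1 + u 1 * v 0) * h2⟩
  exact exists_DF_bq hQ hD i (exists_T_even hσ hQ rfl hQ₀ (hQ.polar_eq ▸ hD.decomp.nondegenerate i)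
    (by simp [hD.decomp.decomp.finrank_eq]) (by simp) (iff_of_true ((plus_two hQ₀).2
      ⟨![s, 1], by simp, by simpa using hs⟩) hp))

theorem nm_o_two_two [Fintype F] (hσ : S.σ = RingHom.id F) (hQ : IsQ Q S.f) (hn : 5 ≤ Fintype.card ι)
    (hq : Fintype.card F = 2) {D : Fin t → Submodule F (ι → F)} (hD : IsOrthogonalMDecomposition Q 2 D)
    {i : Fin t} (hp : IsPlusTypeOn Q (D i)) : NM (omegaGL Q) (decompositionStabilizer D) := by
  have h2 := two_eq_zero_of_card (k := 1) hq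
  obtain ⟨e, P, h1, h3⟩ := exists_DF_two hσ hQ h2 hD hp (m := 0) (s := 0) (by simp)
  obtain ⟨g, h4, h5, h6, -⟩ := exists_siegel_two hσ hQ hn h2 h1 h3
  have h7 : ∀ j y, Q (frV e P (inj j y)) = y 0 ^ 2 + y 0 * y 1 := fun j y =>
    (h3 _).trans ((sum_cmp_inj (Q₀ := fun y : Fin 2 → F => y 0 ^ 2 + y 0 * y 1 + 0 * y 1 ^ 2)
      (by simp) _ _).trans (by simp))
  refine nm_of_norm hσ hQ hn (hQ.polar_eq ▸ hD.decomp) (h1.inj_mem i (Pi.single 0 1))
    (by simp [frV_eq_zero, inj_single]) h4 (fun j w hw h8 => ⟨j, ?_⟩) h5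
  obtain ⟨y, rfl⟩ := h1.exists_inj hw
  rw [h7, h7] at h8
  have h9 : y 0 = 1 := eq_one_of_card_two hq (by rintro h; simp [h] at h8)
  rwa [frG_mulVec, h6 _ fun l => by simp_all [inj]]

theorem nm_o_two_four [Fintype F] (hσ : S.σ = RingHom.id F) (hQ : IsQ Q S.f) (hn : 5 ≤ Fintype.card ι)
    (hq : Fintype.card F = 4) {D : Fin t → Submodule F (ι → F)} (hD : IsOrthogonalMDecomposition Q 2 D)
    {i : Fin t} (hp : IsPlusTypeOn Q (D i)) : NM (omegaGL Q) (decompositionStabilizer D) := by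
  have h2 := two_eq_zero_of_card (k := 2) hq
  have h3 : ∀ x : F, x ≠ 0 → x ^ 3 = 1 := fun x hx => by
    simpa [hq] using FiniteField.pow_card_sub_one_eq_one x hx
  obtain ⟨s, h4, h5⟩ := gen_of_card_ne_two (F := F) (by omega)
  obtain ⟨e, P, h1, h6⟩ := exists_DF_two hσ hQ h2 hD hp (m := 1) (s := s)
    (mul_left_cancel₀ (sub_ne_zero.2 h5) (by linear_combination h3 s h4))
  obtain ⟨g, h7, h8, -, h9⟩ := exists_siegel_two hσ hQ hn h2 h1 h6
  obtain ⟨F₀, h10⟩ := (prime_or_subfield F).resolve_left (by rw [hq]; decide)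
  refine .of (M' := subfieldSubgroup F₀ P) (fun a ha => ?_) ((big_om hσ hQ hn).not_le_subfield h10 P)
    fun h => h8 (h ⟨frG_mem_subfield one_ne_zero (by simpa using h9 F₀), h7⟩)
  obtain ⟨π, B, rfl⟩ := h1.exists_bmG ha.1
  refine frG_mem_subfield one_ne_zero fun ⟨c, j⟩ ⟨b, l⟩ => ?_
  have h11 : ∀ j y, Q (frV e P (inj j y)) = y 0 ^ 2 + y 0 * y 1 + y 1 ^ 2 := fun j y =>
    (h6 _).trans ((sum_cmp_inj (Q₀ := fun y : Fin 2 → F => y 0 ^ 2 + y 0 * y 1 + 1 * y 1 ^ 2)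
      (by simp) _ _).trans (by simp))
  have h12 := mem_isometryGroup.1 (omegaGL_le Q ha.2) (frV e P (inj l (Pi.single b 1)))
  rw [frG_mulVec, bmG_coe, bm_inj, h11, h11, show (Pi.single b 1 : Fin 2 → F) 0 ^ 2 + _ + _ = 1 by
    fin_cases b <;> simp] at h12
  have h13 : ∀ x y : F, x ^ 2 + x * y + y ^ 2 = 1 → x ∈ F₀ := fun x y h => by
    by_cases hx : x = 0
    · exact hx ▸ zero_mem _
    refine mem_of_mul_self ?_
    by_cases hy : y = 0
    · linear_combination h - (x + y) * hy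
    · obtain rfl : x = y := by linear_combination -(x - y) * h + h3 x hx - h3 y hy
      linear_combination h - x ^ 2 * h2
  rw [one_smul, bmG_coe, bm]
  split_ifs
  · fin_cases c
    · simpa using h13 _ _ h12
    · simpa using h13 (((B l).val *ᵥ Pi.single b 1) 1) (((B l).val *ᵥ Pi.single b 1) 0)
        (by linear_combination h12)
  · exact zero_mem _

theorem nm_o_four_two [Fintype F] (hσ : S.σ = RingHom.id F) (hQ : IsQ Q S.f) (ht : 3 ≤ t)
    (hq : Fintype.card F = 2) {D : Fin t → Submodule F (ι → F)} (hD : IsOrthogonalMDecomposition Q 4 D)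
    {i : Fin t} (hp : IsPlusTypeOn Q (D i)) : NM (omegaGL Q) (decompositionStabilizer D) := by
  have h2 := two_eq_zero_of_card (k := 1) hq
  obtain ⟨S₀, h3, -, h4⟩ := exists_bf (detForm F) (Equiv.refl (Fin 2 × Fin 2)) 1
  let L : (Fin 2 → F) →ₗ[F] (Fin 2 × Fin 2 → F) := ⟨⟨fun y p => y p.1, fun _ _ => rfl⟩, fun _ _ => rfl⟩
  refine nm_o_perm hσ hQ (by have := IsMDecomposition.mul_eq hD.decomp.decomp; omega) ht hD
    (exists_T_even hσ hQ (S₀ := S₀.frame _ 1) h3 (h4.isQ (isQ_qm h2))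
      (hQ.polar_eq ▸ hD.decomp.nondegenerate i) (by simp [hD.decomp.decomp.finrank_eq]) (by decide)
      (iff_of_true ⟨LinearMap.range L, le_top, ?_, ?_⟩ hp)) (·.2 = 0) (0, 0) (0, 1) rfl (by simp)
    (fun y => by simp [cmp, qm]) fun y hy => ?_
  · rintro _ ⟨y, rfl⟩
    simp only [Fin.sum_univ_two]
    change qm y + qm y = 0
    linear_combination qm y * h2
  · rw [LinearMap.finrank_range_of_inj fun y y' h => funext fun a => congrFun h (a, 0)]; simp
  by_cases h5 : cmp y 0 = 0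
  · left; rintro ⟨a, b⟩ rfl; exact congrFun h5 a
  by_cases h6 : cmp y 1 = 0
  · right; rintro ⟨a, b⟩ hb
    obtain rfl : b = 1 := by fin_cases b <;> simp_all
    exact congrFun h6 a
  rw [Fin.sum_univ_two, qm_eq_one hq h5, qm_eq_one hq h6] at hy
  simp [cmp, qm] at hy

theorem nm_o_three_three [Fintype F] (hσ : S.σ = RingHom.id F) (hQ : IsQ Q S.f) (ht : 3 ≤ t)
    (hq : Fintype.card F = 3) {D : Fin t → Submodule F (ι → F)} (hD : IsOrthogonalMDecomposition Q 3 D) :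
    NM (omegaGL Q) (decompositionStabilizer D) := by
  obtain ⟨S₀, h3, h4⟩ := exists_sform_diag (two_ne_zero_of_three hq) (d := fun _ : Fin 3 => 1) (by simp)
  obtain ⟨c, hc, h5⟩ := exists_T_odd hσ hQ h3 h4 (hQ.polar_eq ▸ hD.decomp.nondegenerate ⟨0, by omega⟩)
    (by simp [hD.decomp.decomp.finrank_eq]) (by decide)
  refine nm_o_perm hσ hQ (by have := IsMDecomposition.mul_eq hD.decomp.decomp; omega) ht hD h5
    (· = 0) 0 1 rfl (by simp) (fun y => by simp [Fin.sum_univ_three]; ring) fun y hy => ?_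
  obtain ⟨j, d, rfl⟩ := eq_single_of_three hq (x := y) (by
    simpa [Fin.sum_univ_three, sq] using mul_left_cancel₀ hc hy)
  by_cases hj : j = 0
  · right; intro a ha; simp [hj, ha]
  · left; rintro a rfl; simp [Ne.symm hj]

theorem nm_o_c2 [Fintype F] (hσ : S.σ = RingHom.id F) (hQ : IsQ Q S.f) (hn : 7 ≤ Fintype.card ι) {k : ℕ}
    {D : Fin t → Submodule F (ι → F)} (hD : IsOrthogonalMDecomposition Q k D) (i : Fin t)
    (h : (k = 2 ∧ (Fintype.card F = 3 ∨ (IsPlusTypeOn Q (D i) ∧ Fintype.card F ≤ 5))) ∨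
      (k = 3 ∧ Fintype.card F = 3) ∨ (k = 4 ∧ Fintype.card F = 2 ∧ IsPlusTypeOn Q (D i) ∧ t ≠ 2)) :
    NM (omegaGL Q) (decompositionStabilizer D) := by
  have h0 := IsMDecomposition.mul_eq hD.decomp.decomp
  have h1 := Fintype.one_lt_card (α := F)
  rcases h with ⟨rfl, h⟩ | ⟨rfl, h⟩ | ⟨rfl, h, h2, h3⟩
  · by_cases h3 : Fintype.card F = 3
    · have h2 := two_ne_zero_of_three h3
      by_cases hp : IsPlusTypeOn Q (D i)
      · exact nm_o_diag hσ hQ (by omega) hD h2 (d := (-1 : ℤ)) (by simp) (iff_of_true ⟨1, by simp⟩ hp)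
          fun x y h => zmod_two h3 (c := 1) (d := -1) (by decide) (by simpa using h)
      · refine nm_o_diag hσ hQ (by omega) hD h2 (d := (1 : ℤ)) (by simp) (iff_of_false ?_ hp)
          fun x y h => zmod_two h3 (c := 1) (d := 1) (by decide) (by simpa using h)
        rintro ⟨s, hs⟩
        rcases zmod_two h3 (c := 0) (d := 1) (x := s) (y := 1) (by decide) (by simpa using hs) with h | h
        · simp [h] at hs
        · simp at h
    obtain ⟨hp, h4⟩ := h.resolve_left h3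
    by_cases h5 : Fintype.card F = 5
    · haveI : Fact (Nat.Prime 5) := ⟨by norm_num⟩
      have h6 : (5 : F) = 0 := by simpa [h5] using FiniteField.cast_card_eq_zero F
      exact nm_o_diag hσ hQ (by omega) hD (two_ne_zero_of_odd (by rw [h5]; decide)) (d := (1 : ℤ))
        (by simp) (iff_of_true ⟨2, by push_cast; linear_combination h6⟩ hp)
        fun x y h => zmod_two h5 (c := 1) (d := 1) (by decide +revert) (by simpa using h)
    by_cases h6 : Fintype.card F = 4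
    exacts [nm_o_two_four hσ hQ (by omega) h6 hD hp, nm_o_two_two hσ hQ (by omega) (by omega) hD hp]
  · exact nm_o_three_three hσ hQ (by omega) h hD
  · exact nm_o_four_two hσ hQ (by omega) h hD h2

theorem nm_o_c2t [Finite F] (hσ : S.σ = RingHom.id F) (hQ : IsQ Q S.f) (hn : 5 ≤ Fintype.card ι) {k : ℕ}
    (hk : Odd k) {D : Fin 2 → Submodule F (ι → F)} (hD : IsMDecomposition k D)
    (hts : ∀ i, IsTotallySingularQuad Q (D i)) : NM (omegaGL Q) (decompositionStabilizer D) := by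
  have h0 := IsMDecomposition.mul_eq hD
  have h1 : Disjoint (D 0) (D 1) := hD.indep.pairwiseDisjoint (by simp)
  have h2 : ∀ v, ∃ x ∈ D 0, ∃ y ∈ D 1, x + y = v := fun v => Submodule.mem_sup.1 (by
    refine (hD.iSup_eq_top.ge.trans (iSup_le fun i => ?_)) (Submodule.mem_top (x := v))
    fin_cases i
    exacts [le_sup_left, le_sup_right])
  refine .of (M' := subspaceStabilizer (D 0)) (fun g hg => ?_) ((big_om hσ hQ hn).not_le_stab
    (IsMDecomposition.ne_bot hD 0) (IsMDecomposition.ne_top hD 0)) fun h => ?_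
  · obtain ⟨π, hπ⟩ := hg.1
    rcases perm_two π with rfl | rfl
    · exact mem_stab_of_map (hπ 0)
    have := lagSign_om hσ hQ hn (U := D 0) ⟨(oF_totSing hσ hQ).2 (hts 0), by
      simp [hD.finrank_eq, h0]⟩ hg.2
    rw [hπ, Equiv.swap_apply_left, lagSign, h1.eq_bot, finrank_bot, hD.finrank_eq, add_zero,
      hk.neg_one_pow] at this
    exact absurd this (by decide)
  obtain ⟨b, hb, hb0⟩ := (D 0).exists_mem_ne_zero_of_ne_bot (IsMDecomposition.ne_bot hD 0)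
  obtain ⟨a, ha, hab⟩ := exists_notMem_span (W := D 0) (by rw [hD.finrank_eq]; omega) b
  obtain ⟨y, h3, h4⟩ := S.exists_sep _ hab
  obtain ⟨z, hz, x, hx, rfl⟩ := h2 y
  replace h3 := h3 b (Submodule.mem_span_singleton_self b)
  rw [S.sesq.add_right, hQ.ts_f (hts 0) (by assumption) hz, zero_add, hQ.symm] at h3 h4
  obtain ⟨g, h5, h6⟩ := exists_eich hσ hQ hn (hts 0 a ha) (hQ.ts_f (hts 0) hb ha)
  obtain ⟨π, hπ⟩ := h ⟨mem_subspaceStabilizer.2 fun v hv => by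
    rw [h6]; exact sub_mem (add_mem hv ((D 0).smul_mem _ hb)) ((D 0).smul_mem _ ha), h5⟩
  have h7 : x + b ∈ D (π 1) := hπ 1 ▸ ⟨x, hx, by simp [h6, h3, h4, hts 0 b hb]⟩
  rcases perm_two π with rfl | rfl
  · exact hb0 (Submodule.disjoint_def.1 h1 b hb (by simpa using sub_mem h7 hx))
  · rw [hQ.ts_f (hts 0) (by simpa using sub_mem h7 hb) ha] at h4
    exact zero_ne_one h4

theorem q_of_bf (h2 : (2 : F) ≠ 0) (hQ : IsQ Q S.f) {e : ι ≃ κ × Fin t} {P : GL ι F} {S₀ : SForm κ F}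
    (h : BF (S.frame e P) S₀) (x : κ × Fin t → F) :
    Q (frV e P x) = ∑ j, 2⁻¹ * S₀.f (cmp x j) (cmp x j) := by
  rw [hQ.eq_half h2, ← S.frame_f, h, Finset.mul_sum]

theorem bmG_mem_isometry {e : ι ≃ κ × Fin t} {P : GL ι F} {Q₀ : (κ → F) → F}
    (h : ∀ x, Q (frV e P x) = ∑ j, Q₀ (cmp x j)) (π : Equiv.Perm (Fin t)) {B : Fin t → GL κ F}
    (hB : ∀ j, B j ∈ isometryGroup F Q₀) : frG e P (bmG π B) ∈ isometryGroup F Q :=
  frG_mem_isometryGroup fun x => by rw [h, h, sum_bm hB]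

theorem DF.orthDecomp [Nonempty κ] (ht : 2 ≤ t) (hQ : IsQ Q S.f) {D : Fin t → Submodule F (ι → F)}
    {e : ι ≃ κ × Fin t} {P : GL ι F} (hD : DF D e P) {S₀ : SForm κ F} {Q₀ : (κ → F) → F}
    (hQ₀ : IsQ Q₀ S₀.f) (h : ∀ x, Q (frV e P x) = ∑ j, Q₀ (cmp x j)) :
    IsOrthogonalMDecomposition Q (Fintype.card κ) D :=
  ⟨hQ.polar_eq ▸ hD.nondeg ht (bf_of_Q hQ hQ₀ h).orth, fun i j => isometric_of_map
    (bmG_mem_isometry h (Equiv.swap i j) (B := fun _ => 1) fun _ => one_mem _)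
    (by rw [hD.map_bmG, Equiv.swap_apply_left])⟩

theorem bmH_mem_omega {e : ι ≃ κ × Fin t} {P : GL ι F} {Q₀ : (κ → F) → F}
    (h : ∀ x, Q (frV e P x) = ∑ j, Q₀ (cmp x j)) (i : Fin t) {a : GL κ F} (ha : a ∈ omegaGL Q₀) :
    frG e P (bmH i a) ∈ omegaGL Q :=
  map_mem_omega ((frG e P).toMonoidHom.comp (bmH i)) (K := isometryGroup F Q₀) (fun b hb =>
    bmG_mem_isometry h 1 fun j => by
      by_cases hj : j = i
      · simpa [hj] using hb
      · simp [hj, one_mem]) (omegaGL_eq_commutator Q₀ ▸ ha)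

theorem TF.three_o [Fintype F] (h : Fintype.card F = 3) [Nonempty κ] (hσ : S.σ = RingHom.id F)
    (hQ : IsQ Q S.f) {e : ι ≃ Fin 3 × κ} {P : GL ι F} {S₁ : SForm (Fin 3) F} {S₂ : SForm κ F} {c : F}
    (hT : TF (S.frame e P) S₁ S₂ c) (hε₁ : S₁.ε = 1) (hε₂ : S₂.ε = 1) :
    ∃ D : Fin 3 → Submodule F (ι → F), IsOrthogonalMDecomposition Q (Fintype.card κ) D ∧
      (∀ H ≤ S.sim, KG H e P → H ≤ decompositionStabilizer D) ∧
      (5 ≤ Fintype.card κ → ¬ KG (decompositionStabilizer D ⊓ omegaGL Q) e P) := by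
  have h2 := two_ne_zero_of_three h
  obtain ⟨e', P', S₀, h1, h3, -, h4, h5, h6⟩ := hT.swap.three h hσ hε₁
  have h7 := S₀.isQ_half h1 (h3.trans hε₂) h2
  refine ⟨_, (df_dfD e' P').orthDecomp (by omega) hQ h7 (q_of_bf h2 hQ h4), fun H a b => h6 H a b.swap,
    fun hn hK => ?_⟩
  obtain ⟨a, h8, x, h9⟩ := (big_om h1 h7 hn).exists_not_eigen
  exact not_kg_of_bmH (by omega) (H := _ ⊓ _) ⟨(df_dfD e' P').bmG_mem _ _,
    bmH_mem_omega (q_of_bf h2 hQ h4) 0 h8⟩ h9 ((h5 _).2 hK.swap)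

theorem nm_o_three [Fintype F] (h : Fintype.card F = 3) (hσ : S.σ = RingHom.id F) (hQ : IsQ Q S.f)
    {m : ℕ} (hm : 5 ≤ m) {e : ι ≃ Fin 3 × Fin m} {P : GL ι F} {S₁ : SForm (Fin 3) F}
    {S₂ : SForm (Fin m) F} {c : F} (hT : TF (S.frame e P) S₁ S₂ c) (hε₁ : S₁.ε = 1) (hε₂ : S₂.ε = 1) :
    NM (omegaGL Q) (tensorProductSubgroup 3 m e P) := by
  haveI : Nonempty (Fin m) := ⟨⟨0, by omega⟩⟩
  have hn : Fintype.card ι = 3 * m := by simpa using Fintype.card_congr e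
  obtain ⟨D, h1, h2, h3⟩ := hT.three_o h hσ hQ hε₁ hε₂
  exact .of (h2 _ (inf_le_right.trans ((om_le_iso hQ).trans S.iso_le_sim))
    ((kg_tensor e P).mono inf_le_left)) ((big_om hσ hQ (by omega)).not_le_decomp h1.decomp.decomp)
    fun hle => h3 (by simpa using hm) ((kg_tensor e P).mono hle)

theorem nm_o_sp_two [Fintype F] (h : Fintype.card F = 2) (hσ : S.σ = RingHom.id F) (hQ : IsQ Q S.f)
    {m : ℕ} (hm : 3 ≤ m) {e : ι ≃ Fin 2 × Fin m} {P : GL ι F} {S₁ : SForm (Fin 2) F}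
    {S₂ : SForm (Fin m) F} {c : F} (hT : TF (S.frame e P) S₁ S₂ c) (h1 : ∀ v, S₁.f v v = 0)
    (h2 : ∀ v, S₂.f v v = 0) (h0 : ∀ x y, Q (frV e P (tv x y)) = 0) :
    NM (omegaGL Q) (tensorProductSubgroup 2 m e P) := by
  have hn : Fintype.card ι = 2 * m := by simpa using Fintype.card_congr e
  haveI : Nonempty ι := Fintype.card_pos_iff.1 (by omega)
  haveI : Nonempty (Fin m) := ⟨⟨0, by omega⟩⟩
  have h3 := two_eq_zero_of_card (k := 1) h
  obtain ⟨h4, h5⟩ := kg_two_le_field h (kg_tensor e P)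
  refine .of (inf_le_left.trans h5) ((big_om hσ hQ (by omega)).not_le_field le_rfl h4) fun hle => ?_
  obtain ⟨u', hu'⟩ := exists_ne (0 : Fin m → F)
  obtain ⟨u, h6, h7⟩ := S₂.exists_perp_notMem (by simpa using hm) u'
  obtain ⟨z, h8, h9⟩ := S₂.exists_sep _ h6
  replace h8 := h8 u' (Submodule.mem_span_singleton_self _)
  have h7' := S₂.eq_zero_comm h7
  have h8' := S₂.eq_zero_comm h8
  have h9' : S₂.f z u = 1 := by rw [S₂.skew_of_alt h2, h9]; linear_combination -h3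
  let x : GL (Fin 2) F := GeneralLinearGroup.mkOfDetNeZero !![0, 1; 1, 1] (by simp)
  have x0 : x.val *ᵥ Pi.single 0 1 = Pi.single 1 1 := by ext i; fin_cases i <;> simp [x]
  have x1 : x.val *ᵥ Pi.single 1 1 = Pi.single 0 1 + Pi.single 1 1 := by ext i; fin_cases i <;> simp [x]
  have h10 : S₁.f (Pi.single 1 1) (Pi.single 0 1) = 1 := eq_one_of_card_two h fun h10 =>
    absurd (S₁.nondeg (v := Pi.single 0 1) fun v => by
      rw [pi_eq_sum_univ' v, Fin.sum_univ_two]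
      simp [S₁.sesq.add_left, S₁.sesq.smul_left, h1, h10]) (by simp)
  have h11 : S₁.f (Pi.single 0 1) (Pi.single 1 1) = 1 := by
    rw [S₁.skew_of_alt h1, h10]; linear_combination -h3
  have h12 : frG e P (kG x 1) ∈ S.iso := (S.frG_mem_iso _ _).2 (hT.kG_mem_iso
    (SForm.mem_iso_of_single fun i j => by
      fin_cases i <;> fin_cases j <;>
        simp [x0, x1, S₁.sesq.add_left, S₁.sesq.add_right, h1, h10, h11, one_add_one_eq_two, h3]) (one_mem _))
  have hf : ∀ a b a' b', S.f (frV e P (tv a b)) (frV e P (tv a' b')) = S₁.f a a' * S₂.f b b' :=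
    fun a b a' b' => by rw [← S.frame_f, hT.f_tv, eq_one_of_card_two h hT.ne, one_mul]
  obtain ⟨w, hw⟩ : ∃ w, w = frV e P (tv (Pi.single 0 1) u) + frV e P (tv (Pi.single 1 1) u') := ⟨_, rfl⟩
  obtain ⟨X, hX⟩ : ∃ X, X = frG e P (kG x 1) := ⟨_, rfl⟩
  have h13 : X.val *ᵥ w = frV e P (tv (Pi.single 1 1) (u + u')) + frV e P (tv (Pi.single 0 1) u') := by
    simp only [hX, hw, mulVec_add, frG_kG_mulVec, x0, x1, Units.val_one, one_mulVec, tv_add_left,
      tv_add_right, frV_add]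
    abel
  have h14 : X.val *ᵥ (X.val *ᵥ w + w) = w := by
    rw [h13]
    simp only [hX, hw, mulVec_add, frG_kG_mulVec, x0, x1, Units.val_one, one_mulVec, tv_add_left,
      tv_add_right, frV_add]
    linear_combination (norm := module) h3 • (frV e P (tv (Pi.single 1 1) u) +
      frV e P (tv (Pi.single 1 1) u') + frV e P (tv (Pi.single 0 1) u'))
  obtain ⟨g, h15, h16⟩ := exists_eich hσ hQ (by omega) (a := w) (b := X.val *ᵥ w)
    (by rw [hw, hQ.add, h0, h0, hf, h7]; simp)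
    (by rw [h13, hw]; simp [S.sesq.add_left, S.sesq.add_right, hf, S₂.sesq.add_left, h2, h7, h7'])
  have h17 : Q (X.val *ᵥ w) = 0 := by rw [h13, hQ.add, h0, h0, hf]; simp [S₂.sesq.add_left, h2, h7]
  have h18 : g ∈ fixS (fr e P (kL (Fin m) !![0, 1; 1, 1])) := by
    rw [show fr e P (kL (Fin m) !![0, 1; 1, 1]) = X.val by rw [hX]; rfl]
    refine (cjA_eq_iff _ _ _).2 (toLin'.injective (LinearMap.ext fun v => ?_))
    have h19 := S.mem_iso.1 (hX ▸ h12)
    simp only [toLin'_apply, ← mulVec_mulVec, h16, h17, mulVec_sub, mulVec_add, mulVec_smul, h19]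
    rw [show S.f (X.val *ᵥ v) w = S.f v (X.val *ᵥ w) + S.f v w by rw [← S.sesq.add_right, ← h19 v, h14],
      show X.val *ᵥ (X.val *ᵥ w) = w - X.val *ᵥ w from eq_sub_of_add_eq (by rw [← mulVec_add, h14])]
    linear_combination (norm := module) h3 • ((S.f v (X.val *ᵥ w) + S.f v w) • (X.val *ᵥ w) - S.f v w • w)
  obtain ⟨a, b, h19⟩ := kg_tensor e P g (hle ⟨fixS_le_normalizer _ h18, h15⟩)
  have h20 := h16 (frV e P (tv (Pi.single 1 1) z))
  rw [h19, frG_kG_mulVec, h17, h13, hw] at h20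
  simp only [S.sesq.add_right, hf, h1, h10, h9', h8', S₂.sesq.add_right, mul_zero, zero_mul, add_zero,
    one_mul, one_smul, zero_smul, sub_zero] at h20
  rw [← add_assoc, ← frV_add, ← tv_add_right, ← frV_add] at h20
  refine tv_add_tv_ne (linearIndependent_single (show (1 : Fin 2) ≠ 0 by simp))
    (indep_of_notMem hu' fun h21 => ?_) _ _ (frV_inj _ _ h20).symm
  obtain ⟨d, hd⟩ := Submodule.mem_span_singleton.1 h21
  have := congrArg (S₂.f · u) hd
  simp [S₂.sesq.add_left, S₂.sesq.smul_left, h7', h9', h2] at this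

end Om

end CfsgH5
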