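import Cfsg.Agent.H5.As18

/-!
Maximal subgroups of the orthogonal groups: the list of geometric candidates.
-/

set_option autoImplicit false

namespace CfsgH5

open Matrix Cfsg Cfsg.Geo Module
open scoped MatrixGroups Kronecker commutatorElement

attribute [-simp] Matrix.coe_units_inv

variable {ι : Type} [Fintype ι] [DecidableEq ι] {F : Type*} [Field F]

section DD

variable {S : SForm ι F} {Q : (ι → F) → F} {κ μ : Type} [Fintype κ] [DecidableEq κ] [Fintype μ]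
  [DecidableEq μ]

theorem exists_sform_Q (h : IsNondegenerateQuadraticForm Q) :
    ∃ S : SForm ι F, S.σ = RingHom.id F ∧ IsQ Q S.f :=
  let ⟨S, h1, h2, _⟩ := exists_sform_quad h
  ⟨S, h2, h1 ▸ isQ_polar h⟩

theorem nondegQ_odd [Fintype F] (h : Odd (Fintype.card F)) (m : ℕ) :
    IsNondegenerateQuadraticForm (quadFormOdd m F) :=
  isNondegenerateQuadraticForm_of (oddForm_Q m) (oddForm_nondeg m (two_ne_zero_of_odd h))

theorem dd_cases (hq : ∃ a : F, a ≠ 0 ∧ a ≠ 1) {s : GL (Fin 2 × Fin 2) F}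
    (hs : ∀ x, s.val *ᵥ x = x ∘ Equiv.prodComm _ _) {g : GL (Fin 2 × Fin 2) F}
    (hg : g ∈ isometryGroup F ddQ) : ∃ a b, g = kG a b ∨ g = kG a b * s := by
  have h0 : ∀ x y : Fin 2 → F, s.val *ᵥ tv x y = tv y x := fun x y => by
    rw [hs]; funext p; simp [tv, mul_comm]
  have h1 : ∀ a b, s * kG a b = kG b a * s := fun a b => gl_ext_tv fun x y => by
    rw [gl_mul_mulVec, gl_mul_mulVec, kG_coe, kG_coe, kron_mulVec_tv, h0, h0, kron_mulVec_tv]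
  have h2 : s * s = 1 := gl_ext_tv fun x y => by rw [gl_mul_mulVec, h0, h0]; simp
  have hσ : (ddF F).σ = RingHom.id F := rfl
  have key := ((ddF F).oF_nondeg hσ isQ_ddQ).orth_induction (Or.inl hq) (P := fun g => ∃ a b,
    (glEquiv _ F).symm g = kG a b ∨ (glEquiv _ F).symm g = kG a b * s)
    ⟨1, 1, Or.inl (by simp [kG_one])⟩ ?_ _ ((mem_isom hσ isQ_ddQ).1 hg)
  · simpa using key
  rintro v hv g - ⟨a, b, h⟩
  rw [SForm.oF_Q, ddQ] at hv
  have h3 : (glEquiv _ F).symm (((ddF F).oF hσ isQ_ddQ).rf v) = kG (GeneralLinearGroup.mkOfDetNeZero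
      ((ddQ v)⁻¹ • !![v (0, 1), -v (0, 0); v (1, 1), -v (1, 0)]) (by
        rw [det_smul]
        refine mul_ne_zero (pow_ne_zero _ (inv_ne_zero hv)) ?_
        simpa [det_fin_two] using fun h => hv (by linear_combination h)))
      (GeneralLinearGroup.mkOfDetNeZero !![-v (1, 0), v (0, 0); -v (1, 1), v (0, 1)] (by
        simpa [det_fin_two] using fun h => hv (by linear_combination h))) * s := gl_ext fun x => by
    rw [glEquiv_symm_mulVec, Form.rf_apply, SForm.oF_Q, SForm.oF_B, gl_mul_mulVec, hs, ddF_f]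
    funext ⟨i, j⟩
    fin_cases i <;> fin_cases j <;>
      simp [kG_coe, mulVec, dotProduct, Fintype.sum_prod_type, ddQ] <;> field_simp <;> ring
  rw [map_mul, h3]
  rcases h with h | h <;> rw [h]
  · exact ⟨_, _, Or.inr (by rw [mul_assoc, h1, ← mul_assoc, kG_mul])⟩
  · exact ⟨_, _, Or.inl (by rw [mul_assoc, ← mul_assoc s, h1, mul_assoc, h2, mul_one, kG_mul])⟩

theorem ddQ_kron (a b : Matrix (Fin 2) (Fin 2) F) (x : Fin 2 × Fin 2 → F) :
    ddQ ((a ⊗ₖ b) *ᵥ x) = a.det * b.det * ddQ x := by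
  simp [ddQ, mulVec, dotProduct, Fintype.sum_prod_type, det_fin_two]; ring

theorem dd_sim (hq : ∃ a : F, a ≠ 0 ∧ a ≠ 1) {s : GL (Fin 2 × Fin 2) F}
    (hs : ∀ x, s.val *ᵥ x = x ∘ Equiv.prodComm _ _) {g : GL (Fin 2 × Fin 2) F}
    (hg : g ∈ quadSimilarityGroup ddQ) : ∃ a b, g = kG a b ∨ g = kG a b * s := by
  obtain ⟨c, hc⟩ := hg
  let d : GL (Fin 2) F := GeneralLinearGroup.mkOfDetNeZero !![(c : F)⁻¹, 0; 0, 1] (by simp)
  obtain ⟨a, b, h⟩ := dd_cases hq hs (g := kG d 1 * g) (mem_isometryGroup.2 fun v => by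
    rw [gl_mul_mulVec, kG_coe, ddQ_kron, hc]; simp [d])
  have h1 : g = kG d⁻¹ 1 * (kG d 1 * g) := by rw [← mul_assoc, kG_mul]; simp [kG_one]
  refine ⟨d⁻¹ * a, 1 * b, h.imp (fun h => ?_) fun h => ?_⟩
  · rw [h1, h, kG_mul]
  · rw [h1, h, ← mul_assoc, kG_mul]

theorem tf_of_single {S : SForm (κ × μ) F} {S₁ : SForm κ F} {S₂ : SForm μ F} {c : F} (hc : c ≠ 0)
    (h1 : S₁.σ = S.σ) (h2 : S₂.σ = S.σ) (h : ∀ i j k l, S.f (Pi.single (i, j) 1) (Pi.single (k, l) 1) =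
      c * (S₁.f (Pi.single i 1) (Pi.single k 1) * S₂.f (Pi.single j 1) (Pi.single l 1))) :
    TF S S₁ S₂ c := ⟨hc, h1, h2, by
  ext ⟨i, j⟩ ⟨k, l⟩
  rw [← S.gram, gramMatrix, h]
  simp [SForm.f, bf_single]⟩

theorem dd_proper [Nonempty κ] (h2 : (2 : F) ≠ 0) (hq : ∃ a : F, a ≠ 0 ∧ a ≠ 1)
    {S : SForm (κ × Fin 2 × Fin 2) F} (hσ : S.σ = RingHom.id F) {S₁ : SForm κ F} {c : F}
    (hT : TF S S₁ (ddF F) c) (ho : Odd (Fintype.card κ)) {a : GL κ F} {b : GL (Fin 2 × Fin 2) F}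
    (h : kG a b ∈ S.iso) (hd : (kG a b).val.det = 1) : ∃ b₁ b₂, b = kG b₁ b₂ := by
  obtain ⟨s, hs⟩ := exists_permG (F := F) (Equiv.prodComm (Fin 2) (Fin 2))
  obtain ⟨⟨l, hl⟩, h3⟩ := hT.mem_sim (S.iso_le_sim h)
  obtain ⟨b₁, b₂, rfl | rfl⟩ := dd_sim hq hs ((ddF F).sim_le_quadSim h2 isQ_ddQ h3)
  · exact ⟨_, _, rfl⟩
  exfalso
  have h4 : s.val.det = -1 := by
    rw [det_perm hs, show Equiv.prodComm (Fin 2) (Fin 2) = Equiv.swap (0, 1) (1, 0) by decide,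
      Equiv.Perm.sign_swap (by decide)]
    simp
  have h5 := S₁.det_of_mul hl
  rw [hT.σ₁, hσ, RingHom.id_apply] at h5
  obtain ⟨u, v, h6⟩ := S₁.exists_f_ne
  let w : Fin 2 × Fin 2 → F := Pi.single (0, 0) 1 + Pi.single (1, 1) 1
  have h7 := S.mem_iso.1 h (tv u w) (tv v w)
  rw [kG_coe, kron_mulVec_tv, kron_mulVec_tv, hT.f_tv, hT.f_tv, hl, isQ_ddQ.self, isQ_ddQ.self,
    gl_mul_mulVec, kG_coe, ddQ_kron, hs] at h7
  have h8 : (l : F) * (b₁.val.det * b₂.val.det) = 1 := by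
    apply mul_left_cancel₀ (mul_ne_zero (mul_ne_zero hT.ne h6) h2)
    rw [show ddQ (w ∘ Equiv.prodComm _ _) = 1 by simp [ddQ, w], show ddQ w = 1 by simp [ddQ, w]] at h7
    linear_combination h7
  rw [kG_coe, det_kronecker, Units.val_mul, det_mul, h4, kG_coe, det_kronecker] at hd
  simp only [Fintype.card_prod, Fintype.card_fin] at hd
  rw [show a.val.det ^ (2 * 2) = (a.val.det * a.val.det) ^ 2 by ring, h5, mul_pow, ho.neg_one_pow,
    ← mul_pow, ← pow_mul, ← pow_mul, mul_comm _ 2, ← mul_assoc, ← mul_pow, h8] at hd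
  exact h2 (by linear_combination -hd)

theorem TF.dd [Fintype F] [Nonempty κ] (hσ : S.σ = RingHom.id F) (hQ : IsQ Q S.f) (h2 : (2 : F) ≠ 0)
    {e : ι ≃ κ × Fin 4} {P : GL ι F} {S₁ : SForm κ F} {S₂ : SForm (Fin 4) F} {c : F}
    (hT : TF (S.frame e P) S₁ S₂ c) (ho : Odd (Fintype.card κ)) (hε₁ : S₁.ε = 1) (hε₂ : S₂.ε = 1)
    (hp : IsPlusTypeOn (fun v => S₂.f v v) ⊤) : ∃ (e' : ι ≃ Fin 2 × Fin (Fintype.card κ * 2))
      (P' : GL ι F) (S' : SForm (Fin (Fintype.card κ * 2)) F) (c' : F), (∀ v, S'.f v v = 0) ∧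
      TF (S.frame e' P') (detForm F) S' c' ∧ (∀ x y, Q (frV e' P' (tv x y)) = 0) ∧
      ∀ H ≤ S.iso ⊓ specialLinear ι F, KG H e P → KG H e' P' := by
  have hσ₁ := hT.σ₁.trans hσ
  have hσ₂ := hT.σ₂.trans hσ
  obtain ⟨P₂, -, h3⟩ := exists_frame_dd hσ₂ (S₂.isQ_half hσ₂ hε₂ h2)
    ((isPlus_smul (inv_ne_zero h2)).2 hp) (finProdFinEquiv (m := 2) (n := 2)).symm
  obtain ⟨e₁, P₁, h4, h5⟩ := exists_reframe e P (Equiv.refl _) 1
    (finProdFinEquiv (m := 2) (n := 2)).symm P₂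
  have h6 := hT.reframe h4 (S₁' := S₁) (S₂' := ddF F) one_ne_zero one_ne_zero rfl hσ₂.symm
    (by simp [frV_refl_one]) (by simpa using h3)
  let π : κ × Fin 2 × Fin 2 ≃ Fin 2 × κ × Fin 2 := (Equiv.prodAssoc _ _ _).symm.trans
    (((Equiv.prodComm κ (Fin 2)).prodCongr (Equiv.refl (Fin 2))).trans (Equiv.prodAssoc _ _ _))
  have h7 : ∀ (a : Fin 2 → F) (u : κ → F) (b : Fin 2 → F), tv a (tv u b) ∘ π = tv u (tv a b) :=
    fun a u b => by funext ⟨i, j, k⟩; simp [tv, π]; ring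
  have h8 := S₁.tf_kron (detForm F) hσ₁.symm
  have h9 : TF (S.frame (e₁.trans π) P₁) (detForm F) (S₁.kron (detForm F) hσ₁.symm) (c * 1 * 1) :=
    tf_of_single h6.ne hσ.symm (hσ₁.trans hσ.symm) fun i ⟨j, j'⟩ k ⟨l, l'⟩ => by
      rw [S.frame_f, frV_trans, frV_trans, ← S.frame_f]
      simp only [← tv_single, h7, h6.f_tv, h8.f_tv, ((detForm F).tf_kron (detForm F) rfl).f_tv, ddF]
      ring
  let e₃ : κ × Fin 2 ≃ Fin (Fintype.card κ * 2) := Fintype.equivFinOfCardEq (by simp)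
  obtain ⟨e', P', h10, h11⟩ := exists_reframe (e₁.trans π) P₁ (Equiv.refl _) 1 e₃ 1
  have h12 := h9.reframe h10 (S₁' := detForm F) (S₂' := (S₁.kron (detForm F) hσ₁.symm).frame e₃ 1)
    one_ne_zero one_ne_zero rfl rfl (by simp [frV_refl_one]) (by simp [SForm.frame_f])
  refine ⟨e', P', _, _, SForm.alt_of_neg _ hσ₁ ?_ h2, h12, fun x y => ?_, fun H hH hK =>
    (kg_reframe h11).2 fun g hg => ?_⟩
  · have := h8.ε_eq_id hσ₁
    rw [hε₁, one_mul] at this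
    exact this.symm
  · rw [hQ.eq_half h2, ← S.frame_f, h12.f_tv, detForm_f]; ring
  obtain ⟨a, b, rfl⟩ := (kg_reframe h5).2 hK g hg
  obtain ⟨b₁, b₂, rfl⟩ := dd_proper h2 (gen_of_card_ne_two (F := F) (by
    have := odd_card_of_two_ne_zero h2; rintro h; rw [h] at this; exact absurd this (by decide))) hσ h6 ho
    ((S.frG_mem_iso _ _).1 (hH hg).1) (by rw [← det_frG e₁ P₁]; exact mem_sl_iff.1 (hH hg).2)
  refine ⟨b₁, kG a b₂, Units.ext ?_⟩
  rw [frG_coe, frG_coe, fr_trans]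
  congr 1
  ext ⟨i, j, k⟩ ⟨i', j', k'⟩
  simp [kG_coe, π]; ring

theorem TF.square [Finite F] (hσ : S.σ = RingHom.id F) (h2 : (2 : F) ≠ 0) {e : ι ≃ κ × κ} {P : GL ι F}
    {S₁ S₂ : SForm κ F} {c : F} (hT : TF (S.frame e P) S₁ S₂ c) (ho : Odd (Fintype.card κ))
    (hε₁ : S₁.ε = 1) (hε₂ : S₂.ε = 1) : ∃ (e' : ι ≃ (Fin 2 → κ)) (P' : GL ι F) (c' : F),
      TP (S.frame e' P') S₁ c' ∧ ∀ H, KG H e P → TW H e' P' := by
  have hσ₁ := hT.σ₁.trans hσ
  have hσ₂ := hT.σ₂.trans hσ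
  have h3 := S₂.isQ_half hσ₂ hε₂ h2
  have h4 := S₁.isQ_half hσ₁ hε₁ h2
  obtain ⟨P₂, l, hl, h5⟩ := exists_frame_odd hσ₂ h3 h2 ho hσ₁ h4 (Equiv.refl _)
  obtain ⟨e', P', h6, h7⟩ := exists_reframe e P (Equiv.refl _) 1 (Equiv.refl _) P₂
  exact ⟨_, _, _, (hT.reframe h6 (S₁' := S₁) (S₂' := S₁) one_ne_zero hl rfl (hσ₁.trans hσ₂.symm)
    (by simp [frV_refl_one]) fun x y => (S₂.frame_f _ _ x y).symm.trans
      ((h3.frame _ _).f_eq (h4.const_mul l) h5 x y)).toTP, fun H h => tw_two ((kg_reframe h7).2 h)⟩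

theorem SForm.exists_iso_vec_o [Finite F] (S : SForm κ F) (hσ : S.σ = RingHom.id F) (hε : S.ε = 1)
    (h2 : (2 : F) ≠ 0) (hn : 3 ≤ Fintype.card κ) : ∃ x, x ≠ 0 ∧ S.f x x = 0 := by
  have h := S.isQ_half hσ hε h2
  obtain ⟨x, -, h3, h4⟩ := (S.oF hσ h).exists_sing_of_three ⊤ (by simpa using hn)
  exact ⟨x, h3, by simpa [S.oF_Q, h2] using h4⟩

theorem plus_of_ts {k : ℕ} {D : Fin 2 → Submodule F (ι → F)} (hD : IsMDecomposition k D)
    (h : ∀ i, IsTotallySingularQuad Q (D i)) : IsPlusTypeOn Q ⊤ :=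
  ⟨D 0, le_top, h 0, by simp [hD.finrank_eq, IsMDecomposition.mul_eq hD]⟩

theorem OC.orthDecomp (hQ : IsQ Q S.f) {W W' : Submodule F (ι → F)} (h : OC S W W') (h0 : W ≠ ⊥)
    (hd : finrank F W = finrank F W') (hi : AreIsometricFor Q W W') :
    IsOrthogonalMDecomposition Q (finrank F W) ![W, W'] := ⟨hQ.polar_eq ▸ h.decomp h0 hd, by
  obtain ⟨φ, hφ⟩ := hi
  intro i j
  fin_cases i <;> fin_cases j
  exacts [⟨.refl _ _, fun _ => rfl⟩, ⟨φ, hφ⟩, ⟨φ.symm, fun w =>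
    (hφ _).symm.trans (congrArg (fun x : W' => Q x) (φ.apply_symm_apply w))⟩, ⟨.refl _ _, fun _ => rfl⟩]⟩

theorem le_decomp_pair {H : Subgroup (GL ι F)} {W W' : Submodule F (ι → F)}
    (h : H ≤ subspaceStabilizer W) (h' : H ≤ subspaceStabilizer W') : H ≤ decompositionStabilizer ![W, W'] :=
  fun g hg => mem_decomp_of_stab fun i => by fin_cases i; exacts [h hg, h' hg]

end DD

/-- the candidates for a maximal subgroup of `Ω` -/
inductive OT [Fintype F] (Q : (ι → F) → F) (H : Subgroup (GL ι F)) : Prop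
  | ts (W : Submodule F (ι → F)) : W ≠ ⊥ → IsTotallySingularQuad Q W →
      (IsPlusTypeOn Q ⊤ → 2 * (finrank F W + 1) ≠ Fintype.card ι) →
      H = subspaceStabilizer W ⊓ omegaGL Q → OT Q H
  | nde (W : Submodule F (ι → F)) : Odd (Fintype.card ι) → W ≠ ⊥ → Even (finrank F W) →
      IsNondegenerateOn (QuadraticMap.polar Q) W →
      ¬ (Fintype.card F = 3 ∧ finrank F W = 2 ∧ IsPlusTypeOn Q W) →
      H = subspaceStabilizer W ⊓ omegaGL Q → OT Q H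
  | nd (W : Submodule F (ι → F)) : Even (Fintype.card ι) → W ≠ ⊥ → W ≠ ⊤ →
      IsNondegenerateOn (QuadraticMap.polar Q) W → 0 < finrank F W → 2 * finrank F W ≤ Fintype.card ι →
      (2 * finrank F W = Fintype.card ι → ¬ IsPlusTypeOn Q ⊤ ∧ Even (finrank F W)) →
      (Odd (finrank F W) → Odd (Fintype.card F)) →
      (finrank F W = 2 → IsPlusTypeOn Q W → 4 ≤ Fintype.card F) →
      H = subspaceStabilizer W ⊓ omegaGL Q → OT Q H
  | ndo (k : ℕ) (D : Fin 2 → Submodule F (ι → F)) : Odd k → 2 * k = Fintype.card ι →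
      IsNondegenerateMDecomposition (QuadraticMap.polar Q) k D → ¬ AreIsometricFor Q (D 0) (D 1) →
      Odd (Fintype.card F) → (IsPlusTypeOn Q ⊤ ↔ Fintype.card F % 4 = 3) →
      H = decompositionStabilizer D ⊓ omegaGL Q → OT Q H
  | ns (v : ι → F) : ¬ Odd (Fintype.card F) → Q v ≠ 0 →
      H = subspaceStabilizer (Submodule.span F {v}) ⊓ omegaGL Q → OT Q H
  | c2 (t k : ℕ) (D : Fin t → Submodule F (ι → F)) : IsOrthogonalMDecomposition Q k D →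
      t * k = Fintype.card ι → 2 ≤ t → (k = 1 → (Fintype.card F).Prime) →
      (Odd k → Odd (Fintype.card F)) →
      (Even k → ∀ i, IsPlusTypeOn Q ⊤ ↔ (IsPlusTypeOn Q (D i) ∨ Even t)) →
      (Odd k → Even t → ∀ m, Fintype.card ι = 2 * m → (IsPlusTypeOn Q ⊤ ↔ Fintype.card F ^ m % 4 = 1)) →
      (k = 2 ∨ k = 3 → Fintype.card F ≠ 3) → (k = 2 → ∀ i, IsPlusTypeOn Q (D i) → 7 ≤ Fintype.card F) →
      (k = 4 → t ≠ 2 → ∀ i, IsPlusTypeOn Q (D i) → 3 ≤ Fintype.card F) →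
      H = decompositionStabilizer D ⊓ omegaGL Q → OT Q H
  | c2t (k : ℕ) (D : Fin 2 → Submodule F (ι → F)) : IsMDecomposition k D → 2 * k = Fintype.card ι →
      Even k → IsPlusTypeOn Q ⊤ → (∀ i, IsTotallySingularQuad Q (D i)) →
      H = decompositionStabilizer D ⊓ omegaGL Q → OT Q H
  | c3 (r : ℕ) (K : Subalgebra F (Matrix ι ι F)) : r.Prime → r ∣ Fintype.card ι → r ≠ Fintype.card ι →
      2 * r ≠ Fintype.card ι → (¬ Odd (Fintype.card F) → 2 * r ∣ Fintype.card ι) → IsFieldSubalgebra r K →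
      IsSelfAdjointFor (QuadraticMap.polar Q) K → H = subalgebraNormalizer K ⊓ omegaGL Q → OT Q H
  | c3u (K : Subalgebra F (Matrix ι ι F)) : 2 ∣ Fintype.card ι →
      (IsPlusTypeOn Q ⊤ → 4 ∣ Fintype.card ι) → IsFieldSubalgebra 2 K →
      IsAdjointClosedFor (QuadraticMap.polar Q) K → ¬ IsSelfAdjointFor (QuadraticMap.polar Q) K →
      (∀ k ∈ K, ∃ c : F, ∀ v, Q (k *ᵥ v) = c * Q v) → H = subalgebraNormalizer K ⊓ omegaGL Q → OT Q H
  | c4o (n₁ n₂ : ℕ) (e : ι ≃ Fin n₁ × Fin n₂) (P : GL ι F) (f₁ : (Fin n₁ → F) → (Fin n₁ → F) → F)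
      (f₂ : (Fin n₂ → F) → (Fin n₂ → F) → F) : Odd (Fintype.card F) → n₁ * n₂ = Fintype.card ι →
      3 ≤ n₁ → n₁ ≤ n₂ → (n₁ = n₂ → Even n₁) → (n₁ = 3 → 5 ≤ Fintype.card F) →
      (Odd n₁ → n₂ = 4 → ¬ IsPlusTypeOn (fun v => f₂ v v) ⊤) →
      (Odd n₁ → Even n₂ → (IsPlusTypeOn Q ⊤ ↔ IsPlusTypeOn (fun v => f₂ v v) ⊤)) →
      IsSymmetricForm f₁ → IsSymmetricForm f₂ →
      IsTensorFormStructure id (QuadraticMap.polar Q) f₁ f₂ e P →
      H = tensorProductSubgroup n₁ n₂ e P ⊓ omegaGL Q → OT Q H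
  | c4s (n₁ n₂ : ℕ) (e : ι ≃ Fin n₁ × Fin n₂) (P : GL ι F) (f₁ : (Fin n₁ → F) → (Fin n₁ → F) → F)
      (f₂ : (Fin n₂ → F) → (Fin n₂ → F) → F) : n₁ * n₂ = Fintype.card ι → 2 ≤ n₁ → n₁ ≤ n₂ →
      Even n₁ → Even n₂ → IsPlusTypeOn Q ⊤ → (n₁ = 2 → 3 ≤ Fintype.card F) →
      IsSymplecticForm f₁ → IsSymplecticForm f₂ →
      IsTensorFormStructure id (QuadraticMap.polar Q) f₁ f₂ e P →
      (∀ (x : Fin n₁ → F) (y : Fin n₂ → F), Q (P.val *ᵥ ((fun a : Fin n₁ × Fin n₂ => x a.1 * y a.2) ∘ e)) = 0) →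
      H = tensorProductSubgroup n₁ n₂ e P ⊓ omegaGL Q → OT Q H
  | c5 (F₀ : Subfield F) (r : ℕ) (P : GL ι F) (ζ : F) : r.Prime → Fintype.card F = Nat.card F₀ ^ r →
      ζ ≠ 0 → IsQuadFormRationalStructure (fun v => ζ * Q v) F₀ P →
      (Even (Fintype.card ι) → ¬ IsPlusTypeOn Q ⊤ → Odd r) →
      H = subfieldSubgroup F₀ P ⊓ omegaGL Q → OT Q H
  | c6 (k : ℕ) : Fintype.card ι = 2 ^ k → IsPlusTypeOn Q ⊤ → OT Q H
  | c7o (k t : ℕ) (e : ι ≃ (Fin t → Fin k)) (P : GL ι F) (f₁ : (Fin k → F) → (Fin k → F) → F) :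
      Odd (Fintype.card F) → k ^ t = Fintype.card ι → 3 ≤ k → 2 ≤ t → (k = 3 → 5 ≤ Fintype.card F) →
      IsSymmetricForm f₁ → IsTensorPowerFormStructure id (QuadraticMap.polar Q) f₁ e P →
      H = tensorWreathSubgroup k t e P ⊓ omegaGL Q → OT Q H
  | c7s (k t : ℕ) : k ^ t = Fintype.card ι → 2 ≤ k → 2 ≤ t → Even k → IsPlusTypeOn Q ⊤ → OT Q H
  | res : InOrthogonalResidualClass H → OT Q H

theorem o_max [Fintype F] {Q : (ι → F) → F} (hQ' : IsNondegenerateQuadraticForm Q)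
    (hn : 7 ≤ Fintype.card ι) {H : Subgroup (GL ι F)} (hH : IsMaximalIn (omegaGL Q) H) : OT Q H := by
  obtain ⟨S, hσ, hQ⟩ := exists_sform_Q hQ'
  haveI : Nonempty ι := Fintype.card_pos_iff.1 (by omega)
  have hq := Fintype.one_lt_card (α := F)
  have hB := big_om hσ hQ (by omega)
  have hf := hQ.polar_eq
  have hI := hH.1.le.trans (om_le_iso hQ)
  have c2 : ∀ t k (D : Fin t → Submodule F (ι → F)), IsOrthogonalMDecomposition Q k D →
      (k = 1 → (Fintype.card F).Prime) → H ≤ decompositionStabilizer D → OT Q H := fun t k D h1 h2 h => by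
    have ht := h1.decomp.decomp.two_le
    have h3 : Odd k → (2 : F) ≠ 0 := fun hk => two_ne_of_odd_on hσ hQ
      (hf ▸ h1.decomp.nondegenerate ⟨0, by omega⟩) (by rwa [h1.decomp.decomp.finrank_eq])
    have h4 := fun i h5 => (nm_o_c2 hσ hQ hn h1 i h5).false hH h
    have h6 := card_ne_six (F := F)
    exact .c2 t k D h1 (IsMDecomposition.mul_eq h1.decomp.decomp) ht h2
      (fun hk => odd_card_of_two_ne_zero (h3 hk)) (plus_decomp hσ hQ h1)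
      (fun hk ht m hm => plus_decomp_odd hσ hQ h1 (h3 hk) ht hm)
      (fun hk h5 => h4 ⟨0, by omega⟩ (by tauto))
      (fun hk i h5 => by_contra fun h7 => h4 i (Or.inl ⟨hk, Or.inr ⟨h5, by omega⟩⟩))
      (fun hk h7 i h5 => by_contra fun h8 => h4 i (Or.inr (Or.inr ⟨hk, by omega, h5, h7⟩)))
      (IsMaximalIn.eq_inf hH h (hB.not_le_decomp h1.decomp.decomp))
  have c4s : ∀ (a b : ℕ) (e : ι ≃ Fin a × Fin b) (P : GL ι F) (S₁ : SForm (Fin a) F)
      (S₂ : SForm (Fin b) F) (c : F), 2 ≤ a → a ≤ b → (∀ v, S₁.f v v = 0) → (∀ v, S₂.f v v = 0) →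
      TF (S.frame e P) S₁ S₂ c → (∀ x y, Q (frV e P (tv x y)) = 0) → KG H e P → OT Q H :=
      fun a b e P S₁ S₂ c h1 h2 h3 h4 h5 h6 h => by
    have h7 : a * b = Fintype.card ι := by simpa using (Fintype.card_congr e).symm
    have h8 : 3 ≤ b := by nlinarith
    have hσ₁ := h5.σ₁.trans hσ
    have hσ₂ := h5.σ₂.trans hσ
    refine .c4s a b e P S₁.f S₂.f h7 h1 h2 (by simpa using S₁.even_of_alt hσ₁ h3)
      (by simpa using S₂.even_of_alt hσ₂ h4) (h5.plus hQ h3 h6) ?_ (S₁.isSymplectic hσ₁ h3)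
      (S₂.isSymplectic hσ₂ h4) (hf ▸ h5.isTensor_id hσ) h6 (IsMaximalIn.eq_inf hH h.le fun h10 =>
        hB.not_kg_tf h5 (by simpa using h1) (by simpa using h8) ⟨Pi.single ⟨0, by omega⟩ 1, by simp, h3 _⟩
          ⟨Pi.single ⟨0, by omega⟩ 1, by simp, h4 _⟩ (fun u x y h11 _ => by simp [hQ.add, h6, h11])
          ((kg_tensor e P).mono h10))
    rintro rfl
    exact by_contra fun h9 => (nm_o_sp_two (by omega) hσ hQ h8 h5 h3 h4 h6).false hH h.le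
  have hN : (2 : F) ≠ 0 → ∀ u w, S.f u w = 0 → S.f w w = 0 → Q u = Q (u + w) := fun h2 u w h3 h4 => by
    rw [hQ.add, h3, hQ.eq_half h2 w, h4]; simp
  have c7o : ∀ (k t : ℕ) (e : ι ≃ (Fin t → Fin k)) (P : GL ι F) (S₁ : SForm (Fin k) F) (c : F),
      (2 : F) ≠ 0 → 3 ≤ k → 2 ≤ t → ¬ (Fintype.card F = 3 ∧ k = 3) → S₁.ε = 1 →
      TP (S.frame e P) S₁ c → TW H e P → OT Q H := fun k t e P S₁ c h1 h2 h3 h4 h5 h6 h => by
    have h9 := odd_card_of_two_ne_zero h1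
    have hσ₁ := h6.σ₁.trans hσ
    exact .c7o k t e P S₁.f h9 (by simpa using (Fintype.card_congr e).symm) h2 h3
      (fun h10 => five_le_of_odd h9 hq (by omega)) (S₁.isSymmetric hσ₁ h5) (hf ▸ h6.isTensor_id hσ)
      (IsMaximalIn.eq_inf hH h.le fun h10 => hB.not_tw_tp h6 h3 (by simpa using h2)
        (S₁.exists_iso_vec_o hσ₁ h5 h1 (by simpa using h2)) (fun _ _ => hN h1 _ _)
        ((tw_wreath e P).mono h10))
  have h4 : ∀ W, IsNondegenerateOn S.f W → H ≤ subspaceStabilizer W → finrank F W = 2 →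
      IsPlusTypeOn Q W → 4 ≤ Fintype.card F := fun W h1 h2 h3 h4 => by_contra fun h5 =>
    (nm_o_plane hσ hQ (by omega) (by omega) h1 h3 h4).false hH h2
  rcases o_geo (by omega) hσ hQ (hH.1.le.trans (omegaGL_le Q)) with (⟨W, h1, h2, h⟩ |
    ⟨W, W', h1, h2, h3, h, h'⟩ | ⟨v, h1, h2, h⟩ | ⟨t, k, D, h1, h2, h⟩ | ⟨k, D, h1, h2, h⟩ |
    ⟨r, K, h1, h2, h3, h5, h6, h⟩ | ⟨K, h1, h2, h3, h5, h⟩ |
    ⟨a, b, e, P, S₁, S₂, c, h1, h2, h3, h5, h6, h7, h⟩ | ⟨a, b, e, P, S₁, S₂, c, h1, h2, h3, h5, h6, h7, h⟩ |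
    ⟨F₀, r, P, ζ, h1, h2, h3, h5, h⟩ | ⟨R, h1, h2, h⟩ | ⟨k, t, e, P, S₁, c, h1, h2, h3, h5, h6, h7, h⟩ |
    ⟨k, t, e, P, S₁, c, h1, h2, h3, h5, h6, h⟩) | h
  · exact .ts W h1 h2 (fun h3 h5 => (nm_o_ts hσ hQ (by omega) h3 h2 h5).false hH h)
      (IsMaximalIn.eq_inf hH h (hB.not_le_stab h1 (ts_ne_top hQ h2)))
  · have h5 := h2.finrank_add
    have h6 : 0 < finrank F W := Nat.pos_of_ne_zero fun h6 => h1 (Submodule.finrank_eq_zero.1 h6)
    have h7 : W ≠ ⊤ := by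
      rintro rfl; rw [finrank_top, finrank_fintype_fun_eq_card] at h5 h3; omega
    have h8 : W' ≠ ⊥ := by rintro rfl; simp at h3; exact h1 h3
    have h9 : W' ≠ ⊤ := by rintro rfl; simp at h5; exact h1 h5
    rcases Nat.even_or_odd (Fintype.card ι) with h10 | h10
    · have nd := fun h11 => OT.nd W h10 h1 h7 (hf ▸ h2.nd) h6 (by omega) h11 (fun h12 =>
        odd_card_of_two_ne_zero (two_ne_of_odd_on hσ hQ h2.nd h12)) (h4 W h2.nd h)
        (IsMaximalIn.eq_inf hH h (hB.not_le_stab h1 h7))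
      by_cases h11 : finrank F W = finrank F W'
      swap
      · exact nd fun _ => by omega
      by_cases h12 : AreIsometricFor Q W W'
      · exact c2 _ _ _ (h2.orthDecomp hQ h1 h11 h12) (by omega) (le_decomp_pair h h')
      rcases Nat.even_or_odd (finrank F W) with h13 | h13
      · exact nd fun _ => ⟨h2.not_plus hσ hQ h11 h13 h12, h13⟩
      · exact .ndo _ ![W, W'] h13 (by omega) (hf ▸ h2.decomp h1 h11) h12
          (odd_card_of_two_ne_zero (two_ne_of_odd_on hσ hQ h2.nd h13)) (h2.plus_iff hσ hQ h11 h13 h12)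
          (IsMaximalIn.eq_inf hH (le_decomp_pair h h') (hB.not_le_decomp (h2.decomp h1 h11).decomp))
    rcases Nat.even_or_odd (finrank F W) with h13 | h13
    · exact .nde W h10 h1 h13 (hf ▸ h2.nd) (fun h14 => by have := h4 W h2.nd h h14.2.1 h14.2.2; omega)
        (IsMaximalIn.eq_inf hH h (hB.not_le_stab h1 h7))
    · exact .nde W' h10 h8 (by rw [Nat.odd_iff] at h10 h13; rw [Nat.even_iff]; omega) (hf ▸ h2.nd')
        (fun h14 => by have := h4 W' h2.nd' h' h14.2.1 h14.2.2; omega)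
        (IsMaximalIn.eq_inf hH h' (hB.not_le_stab h8 h9))
  · refine .ns v (not_odd_of_two h1) h2 (IsMaximalIn.eq_inf hH h (hB.not_le_stab ?_ fun h3 => ?_))
    · rw [Ne, Submodule.span_singleton_eq_bot]; rintro rfl; exact h2 hQ.zero
    · have := finrank_span_one (F := F) v
      rw [h3, finrank_top, finrank_fintype_fun_eq_card] at this
      omega
  · exact c2 t k D h1 h2 h
  · exact .c2t k D h1 (IsMDecomposition.mul_eq h1) (Nat.not_odd_iff_even.1 fun h3 =>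
      (nm_o_c2t hσ hQ (by omega) h3 h1 h2).false hH h) (plus_of_ts h1 h2) h2
      (IsMaximalIn.eq_inf hH h (hB.not_le_decomp h1))
  · refine .c3 r K h1 (field_dvd_card h2) h5 h6 (fun h7 => ?_) h2 (hf ▸ h3)
      (IsMaximalIn.eq_inf hH h (hB.not_le_field h1.two_le h2))
    have h8 := hQ.alt (by_contra fun h8 => h7 (odd_card_of_two_ne_zero h8))
    rw [S.isSelfAdjointFor_iff] at h3
    exact two_mul_dvd_of_alt h8 h2 h3 (S.alt_of_selfAdj h8 h2 h3)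
  · exact .c3u K (field_dvd_card h1) (four_dvd_of_unitary hσ hQ h1 (S.isAdjointClosedFor_iff.1 h2) h5)
      h1 (hf ▸ h2) (hf ▸ h3) h5 (IsMaximalIn.eq_inf hH h (hB.not_le_field le_rfl h1))
  · haveI : Nonempty (Fin a) := ⟨⟨0, by omega⟩⟩
    haveI : Nonempty (Fin b) := ⟨⟨0, by omega⟩⟩
    by_cases h8 : a = 3 ∧ Fintype.card F = 3
    · obtain ⟨rfl, h8⟩ := h8
      obtain ⟨D, h9, h10, -⟩ := h7.three_o h8 hσ hQ h5 h6
      exact c2 _ _ D h9 (by simp; omega) (h10 H (hI.trans S.iso_le_sim) h)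
    by_cases h9 : a = b ∧ Odd a
    · obtain ⟨rfl, h9⟩ := h9
      obtain ⟨e', P', c', h10, h11⟩ := h7.square hσ h1 (by simpa using h9) h5 h6
      exact c7o _ _ e' P' S₁ c' h1 h2 le_rfl (by tauto) h5 h10 (h11 H h)
    by_cases h10 : Odd a ∧ b = 4 ∧ IsPlusTypeOn (fun v => S₂.f v v) ⊤
    · obtain ⟨h10, rfl, h11⟩ := h10
      obtain ⟨e', P', S', c', h12, h13, h14, h15⟩ := h7.dd hσ hQ h1 (by simpa using h10) h5 h6 h11
      exact c4s _ _ e' P' _ S' c' le_rfl (by simp; omega) (fun v => by rw [detForm_f]; ring) h12 h13 h14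
        (h15 H (le_inf hI (hH.1.le.trans (S.om_le_sl hσ hQ (by omega)))) h)
    have h11 := odd_card_of_two_ne_zero h1
    have hσ₁ := h7.σ₁.trans hσ
    have hσ₂ := h7.σ₂.trans hσ
    exact .c4o a b e P S₁.f S₂.f h11 (by simpa using (Fintype.card_congr e).symm) h2 h3
      (fun h12 => Nat.not_odd_iff_even.1 fun h13 => h9 ⟨h12, h13⟩)
      (fun h12 => five_le_of_odd h11 hq (by omega)) (fun h12 h13 h14 => h10 ⟨h12, h13, h14⟩)
      (fun h12 h13 => h7.plus_iff hσ hQ h1 h6 (by simpa using h12) (by simpa using h13))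
      (S₁.isSymmetric hσ₁ h5) (S₂.isSymmetric hσ₂ h6) (hf ▸ h7.isTensor_id hσ)
      (IsMaximalIn.eq_inf hH h.le fun h12 => hB.not_kg_tf h7 (by simp; omega) (by simp; omega)
        (S₁.exists_iso_vec_o hσ₁ h5 h1 (by simpa using h2))
        (S₂.exists_iso_vec_o hσ₂ h6 h1 (by simp; omega)) (fun _ _ _ => hN h1 _ _)
        ((kg_tensor e P).mono h12))
  · exact c4s a b e P S₁ S₂ c h1 h2 h3 h5 h6 h7 h
  · exact .c5 F₀ r P ζ h1 h2 h3 h5 (fun h6 h7 => h1.odd_of_ne_two fun h8 =>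
      h7 (plus_of_c5 hσ hQ (h8 ▸ h2) h6 h3 h5))
      (IsMaximalIn.eq_inf hH h (hB.not_le_subfield (subfield_ne_top h1 h2) P))
  · obtain ⟨k, -, h3, -⟩ := h1.card (by omega)
    exact .c6 k h3 (h1.plus (by omega) hσ hQ h2)
  · exact c7o k t e P S₁ c h1 h2 h3 h5 h6 h7 h
  · exact .c7s k t (by simpa using (Fintype.card_congr e).symm) h1 h2
      (by simpa using S₁.even_of_alt (h5.σ₁.trans hσ) h3) (h5.plus hQ (by omega) h3 h6)
  · exact .res h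

theorem rational_quadOdd [Fintype F] (h : Odd (Fintype.card F)) {m : ℕ} {F₀ : Subfield F}
    {P : GL (Unit ⊕ (Fin m ⊕ Fin m)) F} {ζ : F} (hζ : ζ ≠ 0)
    (hr : IsQuadFormRationalStructure (fun v => ζ * quadFormOdd m F v) F₀ P) :
    ∃ P', IsQuadFormRationalStructure (quadFormOdd m F) F₀ P' ∧
      subfieldSubgroup F₀ P = subfieldSubgroup F₀ P' := by
  obtain ⟨S, hσ, hQ⟩ := exists_sform_Q (nondegQ_odd h m)
  have h1 : ∀ u : Unit ⊕ (Fin m ⊕ Fin m) → F, (∀ i, u i ∈ F₀) → quadFormOdd m F u ∈ F₀ := fun u hu =>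
    add_mem (pow_mem (hu _) _) (sum_mem fun _ _ => mul_mem (hu _) (hu _))
  have h2 : ∀ i j : Unit ⊕ (Fin m ⊕ Fin m), (Pi.single i 1 : _ → F) j ∈ F₀ := fun i j => by
    by_cases hj : j = i <;> simp [hj, one_mem, zero_mem]
  obtain ⟨c, hc⟩ := rational_one_odd hσ hQ (by simp [add_comm 1]) (Ent.det fun i j => by
    rw [← S.gram, gramMatrix, ← hQ.polar]
    exact sub_mem (sub_mem (h1 _ fun k => add_mem (h2 _ _) (h2 _ _)) (h1 _ (h2 _))) (h1 _ (h2 _))) hζ hr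
  exact ⟨_, hc, (subfieldSubgroup_scG _ _ _).symm⟩

theorem o_odd_class [Fintype F] (hq : Odd (Fintype.card F)) {m : ℕ} (hm : 2 ≤ m)
    {H : Subgroup (GL (Unit ⊕ (Fin m ⊕ Fin m)) F)} (hH : H ≤ isometryGroup F (quadFormOdd m F)) :
    (∃ M, InOrthogonalOddClass m F M ∧ H ≤ M) ∨ InOrthogonalResidualClass H := by
  obtain ⟨S, hσ, hQ⟩ := exists_sform_Q (nondegQ_odd hq m)
  have hn : Fintype.card (Unit ⊕ (Fin m ⊕ Fin m)) = 2 * m + 1 := by simp; omega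
  have h0 := two_ne_zero_of_odd hq
  refine (o_geo (by omega) hσ hQ hH).imp_left fun h => ?_
  unfold InOrthogonalOddClass
  simp only [hQ.polar_eq]
  rcases h with ⟨W, h1, h2, h⟩ |
    ⟨W, W', h1, h2, h3, h, h'⟩ | ⟨v, h1, h2, h⟩ | ⟨t, k, D, h1, h2, h⟩ | ⟨k, D, h1, h2, h⟩ |
    ⟨r, K, h1, h2, h3, h5, h6, h⟩ | ⟨K, h1, h2, h3, h5, h⟩ |
    ⟨a, b, e, P, S₁, S₂, c, h1, h2, h3, h5, h6, h7, h⟩ | ⟨a, b, e, P, S₁, S₂, c, h1, h2, h3, h5, h6, h7, h⟩ |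
    ⟨F₀, r, P, ζ, h1, h2, h3, h5, h⟩ | ⟨R, h1, h2, h⟩ | ⟨k, t, e, P, S₁, c, h1, h2, h3, h5, h6, h7, h⟩ |
    ⟨k, t, e, P, S₁, c, h1, h2, h3, h5, h6, h⟩
  · exact ⟨_, Or.inl ⟨W, h1, h2, rfl⟩, le_inf h hH⟩
  · refine ⟨_, Or.inr (Or.inl ⟨W, h1, ?_, h2.nd, rfl⟩), le_inf h hH⟩
    rintro rfl
    have := h2.finrank_add
    rw [finrank_top, finrank_fintype_fun_eq_card] at this h3
    omega
  · exact absurd h1 h0
  · by_cases hk : k = 1
    · subst hk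
      exact ⟨_, Or.inr (Or.inr (Or.inr (Or.inl ⟨t, D, h2 rfl, h1, rfl⟩))), le_inf h hH⟩
    · exact ⟨_, Or.inr (Or.inr (Or.inl ⟨t, k, D, by have := h1.decomp.decomp.pos; omega, h1, rfl⟩)),
        le_inf h hH⟩
  · have := IsMDecomposition.mul_eq h1; omega
  · exact ⟨_, by
      iterate 4 right
      left; exact ⟨r, K, h1, by omega, h2, h3, rfl⟩, le_inf h hH⟩
  · have := field_dvd_card h1; omega
  · haveI : Nonempty (Fin b) := ⟨⟨0, by omega⟩⟩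
    have h8 : a * b = 2 * m + 1 := by simpa [hn] using (Fintype.card_congr e).symm
    have hσ₁ := h7.σ₁.trans hσ
    rcases h3.lt_or_eq with h3 | rfl
    · exact ⟨_, by
        iterate 5 right
        left; exact ⟨a, b, e, P, S₁.f, S₂.f, h2, h3, S₁.isSymmetric hσ₁ h5,
          S₂.isSymmetric (h7.σ₂.trans hσ) h6, h7.isTensor_id hσ, rfl⟩, le_inf h.le hH⟩
    by_cases h9 : Fintype.card F = 3 ∧ a = 3
    · obtain ⟨h9, rfl⟩ := h9
      obtain ⟨D, h10, h11, -⟩ := h7.three_o h9 hσ hQ h5 h6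
      exact ⟨_, Or.inr (Or.inr (Or.inl ⟨_, _, D, by simp, h10, rfl⟩)),
        le_inf (h11 H (hH.trans ((S.isometryGroup_le_iso hQ).trans S.iso_le_sim)) h) hH⟩
    obtain ⟨e', P', c', h10, h11⟩ := h7.square hσ h1 (by
      simpa using (Nat.odd_mul.1 (h8 ▸ odd_two_mul_add_one m)).1) h5 h6
    exact ⟨_, by
      iterate 7 right
      exact ⟨a, 2, e', P', S₁.f, h2, le_rfl, h9, S₁.isSymmetric hσ₁ h5, h10.isTensor_id hσ, rfl⟩,
      le_inf (h11 H h).le hH⟩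
  · have h8 : a * b = 2 * m + 1 := by simpa [hn] using (Fintype.card_congr e).symm
    exact absurd (Nat.odd_mul.1 (h8 ▸ odd_two_mul_add_one m)).1
      (by simpa using S₁.even_of_alt (h6.σ₁.trans hσ) h3)
  · obtain ⟨P', h6, h7⟩ := rational_quadOdd hq h3 h5
    exact ⟨_, by
      iterate 6 right
      left; exact ⟨F₀, r, P', h1, h2, h6, rfl⟩, le_inf (h7 ▸ h) hH⟩
  · obtain ⟨k, h3, h4, -⟩ := h1.card (by omega)
    obtain ⟨k, rfl⟩ := Nat.exists_eq_add_of_le' h3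
    rw [pow_succ] at h4
    omega
  · exact ⟨_, by
      iterate 7 right
      exact ⟨k, t, e, P, S₁.f, h2, h3, h5, S₁.isSymmetric (h7.σ₁.trans hσ) h6, h7.isTensor_id hσ, rfl⟩,
      le_inf h.le hH⟩
  · have h8 : k ^ t = 2 * m + 1 := by simpa [hn] using (Fintype.card_congr e).symm
    exact absurd ((Nat.odd_pow_iff (by omega)).1 (h8 ▸ odd_two_mul_add_one m))
      (by simpa using S₁.even_of_alt (h5.σ₁.trans hσ) h3)

end CfsgH5
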