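import Cfsg.Agent.H5.El22

/-! Models of elements of orthogonal groups with prescribed type and spinor norm (odd characteristic). -/

set_option autoImplicit false
open Cfsg Module Polynomial

namespace CfsgH5

universe u

variable {F : Type u} [Field F] [Fintype F] {V : Type*} [AddCommGroup V] [Module F V] [FiniteDimensional F V]
  {r k N : ℕ} {g h : V ≃ₗ[F] V} {A : Submodule F V} {a b : F[X]} {s t : Multiset F[X]} {S : Form (orthParam F) V} {ε δ θ η : ℤˣ}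

/-- a model of type `ε` with Dickson invariant `1` and spinor norm `θ` -/
def ExO (s : Multiset F[X]) (ε θ : ℤˣ) : Prop := Even (dg0 s) ∧ ∃ (W : Type u) (_ : AddCommGroup W) (_ : Module F W)
  (_ : FiniteDimensional F W) (S : Form (orthParam F) W), S.Nondeg ∧ S.tp = ε ∧
    ∃ g ∈ S.isom, dk g = 1 ∧ S.spin g = θ ∧ ed g.toLinearMap = s

theorem iso_tr {W : Type*} [AddCommGroup W] [Module F W] [FiniteDimensional F W] {S0 : Form (orthParam F) W} (h2 : (2 : F) ≠ 0)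
    (h0 : S0.Nondeg) (hS : S.Nondeg) (hd : finrank F W = finrank F V) (he : Even (finrank F W)) (ht : S0.tp = S.tp)
    {g : W ≃ₗ[F] W} (hg : g ∈ S0.isom) : ∃ g' ∈ S.isom, dk g' = dk g ∧ S.spin g' = S0.spin g ∧
      ed g'.toLinearMap = ed g.toLinearMap := by
  obtain ⟨φ, hφ⟩ := h0.exists_isom_even hS hd he (Form.tp_eq_iff.1 ht)
  obtain ⟨ψ, hψ⟩ := Form.exists_isExt hφ h0
  exact ⟨ψ g, (hψ g).mem_isom hφ h0 hg, (hψ g).dk_eq hφ h0, (hψ g).spin_eq hφ h0 hS (.inl (gen_of_two_ne_zero h2)) hg,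
    (sim_iff_ed.1 ⟨φ, fun v => ((hψ g).left v).symm⟩).symm⟩

theorem ExO.ex (h2 : (2 : F) ≠ 0) (h : ExO s S.tp θ) (hS : S.Nondeg) (hd : dg0 s = finrank F V) :
    ∃ g ∈ S.isom, dk g = 1 ∧ S.spin g = θ ∧ ed g.toLinearMap = s := by
  obtain ⟨a1, A, _, _, _, S0, h1, h3, g, h4, h5, rfl, rfl⟩ := h
  rw [dg0_ed] at a1 hd
  exact h5 ▸ iso_tr h2 h1 hS hd a1 h3 h4

theorem exO_of (h2 : (2 : F) ≠ 0) (hS : S.Nondeg) (he : Even (finrank F V)) (hg : g ∈ S.isom) (h : dk g = 1) :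
    ExO (ed g.toLinearMap) S.tp (S.spin g) := by
  obtain ⟨A, _, _, _, S0, h1, h3, h4⟩ := exists_otp (F := F) he S.tp fun c => haveI := finrank_zero_iff.1 c
    Form.tp_eq_one_iff.2 Form.isPlus_of_subsingleton
  obtain ⟨g', a1, a2, a3, a4⟩ := iso_tr h2 hS h1 h3.symm he h4.symm hg
  exact ⟨(dg0_ed g.toLinearMap).symm ▸ he, A, _, _, inferInstance, S0, h1, h4, g', a1, a2.trans h, a3, a4⟩

theorem ExO.sub (h2 : (2 : F) ≠ 0) (h : ExO s ε θ) (hS : S.Nondeg) (hd : dg0 s ≤ finrank F V)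
    (h' : dg0 s = finrank F V → ε = S.tp) : ∃ W, S.NondegOn W ∧ finrank F W = dg0 s ∧ (S.res W).tp = ε ∧
      ∃ a ∈ (S.res W).isom, dk a = 1 ∧ (S.res W).spin a = θ ∧ ed a.toLinearMap = s := by
  obtain ⟨W, a1, a2, rfl⟩ := hS.exists_tp h.1 ε (fun c => by
    obtain ⟨-, A, _, _, _, S0, -, rfl, g, -, -, -, rfl⟩ := h
    haveI := finrank_zero_iff.1 ((dg0_ed _).symm.trans c)
    exact Form.tp_eq_one_iff.2 Form.isPlus_of_subsingleton) hd h'
  exact ⟨W, a1, a2, rfl, h.ex h2 a1.res a2.symm⟩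

namespace Form

theorem NondegOn.glue_spin (h2 : (2 : F) ≠ 0) (hS : S.Nondeg) (h : S.NondegOn A) {a : A ≃ₗ[F] A}
    {b : S.perp A ≃ₗ[F] S.perp A} (ha : a ∈ (S.res A).isom) (hb : b ∈ (S.res (S.perp A)).isom) (h3 : ∀ x : A, g x = a x)
    (h4 : ∀ x : S.perp A, g x = b x) : dk g = dk a * dk b ∧ S.spin g = (S.res A).spin a * (S.res (S.perp A)).spin b := by
  have hG := gen_of_two_ne_zero h2
  obtain ⟨x, a1, a2, a3⟩ := h.glue ha (one_mem _)
  obtain ⟨y, b1, b2, b3⟩ := h.glue (one_mem _) hb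
  have e1 : S.IsExt A.subtype a x := ⟨a2, fun v hv => a3 ⟨v, by simpa using hv⟩⟩
  have e2 : S.IsExt (S.perp A).subtype b y := ⟨b3, fun v hv => b2 ⟨v, by
    rwa [Submodule.range_subtype, hS.perp_perp] at hv⟩⟩
  obtain rfl : g = x * y := LinearEquiv.ext fun v => by
    obtain ⟨c, hc, d, hd, rfl⟩ := Submodule.mem_sup.1 (h.isCompl.sup_eq_top ▸ Submodule.mem_top (x := v))
    rw [map_add, map_add, LinearEquiv.mul_apply, LinearEquiv.mul_apply, h3 ⟨c, hc⟩, h4 ⟨d, hd⟩, b2 ⟨c, hc⟩, b3 ⟨d, hd⟩, a3]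
    exact congrArg₂ _ (a2 ⟨c, hc⟩).symm rfl
  exact ⟨by rw [hS.dk_mul (.inl hG) a1 b1, e1.dk_eq (isIsom_res A) h.res, e2.dk_eq (isIsom_res _) (h.perp hS).res], by
    rw [hS.spin_mul a1 b1, e1.spin_eq (isIsom_res A) h.res hS (.inl hG) ha,
      e2.spin_eq (isIsom_res _) (h.perp hS).res hS (.inl hG) hb]⟩

theorem Nondeg.odd_sp (hS : S.Nondeg) (h2 : (2 : F) ≠ 0) (hg : g ∈ S.isom) (hN : Odd N) (h : g ^ N = 1) :
    dk g = 1 ∧ S.spin g = 1 := by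
  obtain ⟨k, rfl⟩ := hN
  have := hS.sq_mem_om (.inl (gen_of_two_ne_zero h2)) (pow_mem hg (k + 1))
  rw [← pow_add, show k + 1 + (k + 1) = 2 * k + 1 + 1 by ring, pow_succ, h, one_mul] at this
  exact ((hS.mem_om_iff (.inl (gen_of_two_ne_zero h2))).1 this).2

theorem Nondeg.nil_sp (hS : S.Nondeg) (h2 : (2 : F) ≠ 0) (hg : g ∈ S.isom) (h : IsNilpotent (g.toLinearMap - 1)) :
    dk g = 1 ∧ S.spin g = 1 := by
  obtain ⟨p, _⟩ := CharP.exists F
  haveI hp := Fact.mk (CharP.char_is_prime F p)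
  refine hS.odd_sp h2 hg (N := p ^ finrank F V) (hp.out.odd_of_ne_two (by
    rintro rfl; exact h2 (CharP.cast_eq_zero F 2))).pow (pow_eq_one_iff_ed.2 fun a ha => ?_)
  obtain ⟨e, he, rfl⟩ := Multiset.mem_map.1 (ed_eq_jt h ▸ ha)
  simpa using ro_dvd.1 (ro_pow p (M := 1) (by simp) ((jt_sum g.toLinearMap ▸ Multiset.single_le_sum (by simp) e he).trans
    (Nat.lt_pow_self hp.out.one_lt).le))

/-- Fitting decomposition -/
theorem Nondeg.prim (hS : S.Nondeg) (hg : g ∈ S.isom) : ∃ W, S.NondegOn W ∧ (∀ v ∈ W, g v ∈ W) ∧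
    (∀ v ∈ W, g v = v → v = 0) ∧ ∀ b : S.perp W ≃ₗ[F] S.perp W, (∀ x : S.perp W, (b x : V) = g x) →
      IsNilpotent (b.toLinearMap - 1) := by
  obtain ⟨p, _⟩ := CharP.exists F
  haveI hp := Fact.mk (CharP.char_is_prime F p)
  obtain ⟨k, m, hm, e⟩ := Nat.exists_eq_pow_mul_and_not_dvd (ord_pos' g) p hp.out.ne_one
  have h1 := disjoint_mov (g := g ^ p ^ k) (m := m) (mt (CharP.cast_eq_zero_iff F p m).1 hm) (by
    rw [← pow_mul, ← e, pow_orderOf_eq_one])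
  have h3 := hS.nondegOn_mov (pow_mem hg _) h1
  refine ⟨_, h3, fun v hv => ?_, fun v hv c => h1.le_bot ⟨hv, mem_fix.2 ?_⟩, fun b hb => ⟨p ^ k, ?_⟩⟩
  · obtain ⟨y, rfl⟩ := mem_mov.1 hv
    exact mem_mov.2 ⟨g y, by rw [map_sub, ← LinearEquiv.mul_apply, ← LinearEquiv.mul_apply, ← pow_succ, ← pow_succ']⟩
  · induction p ^ k with
    | zero => rfl
    | succ n ih => rw [pow_succ, LinearEquiv.mul_apply, c, ih]
  · have h4 : ∀ n (x : S.perp (mov (g ^ p ^ k))), ((b ^ n) x : V) = (g ^ n) x := fun n => by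
      induction n with
      | zero => exact fun _ => rfl
      | succ n ih => exact fun x => by rw [pow_succ, pow_succ, LinearEquiv.mul_apply, LinearEquiv.mul_apply, ih, hb]
    have h5 : b ^ p ^ k = 1 := LinearEquiv.ext fun x => Subtype.ext ((h4 _ x).trans (by
      have c1 := sub_mem_mov (g ^ p ^ k) x
      have c2 : (g ^ p ^ k) x - x ∈ S.perp (mov (g ^ p ^ k)) := sub_mem (h4 _ x ▸ Subtype.property _) x.2
      exact sub_eq_zero.1 (h3.isCompl.disjoint.le_bot ⟨c1, c2⟩)))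
    have := aeval_eq_zero_iff_ed.2 (pow_eq_one_iff_ed.1 h5)
    rwa [← one_pow (p ^ k), ← sub_pow_char_pow, map_pow, map_sub, aeval_X, map_one] at this

end Form

theorem ExO.add (h2 : (2 : F) ≠ 0) (h : ExO s ε θ) (h' : ExO t δ η) : ExO (s + t) (ε * δ) (θ * η) := by
  have he : Even (dg0 (s + t)) := dg0_add s t ▸ h.1.add h'.1
  have h0 : ∀ {s : Multiset F[X]} {ε θ}, ExO s ε θ → dg0 s = 0 → ε = 1 := fun h c => by
    obtain ⟨-, A, _, _, _, S0, -, rfl, g, -, -, -, rfl⟩ := h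
    haveI := finrank_zero_iff.1 ((dg0_ed _).symm.trans c)
    exact Form.tp_eq_one_iff.2 Form.isPlus_of_subsingleton
  obtain ⟨A, _, _, _, S, h1, h3, h4⟩ := exists_otp (F := F) he (ε * δ) fun c => by
    rw [dg0_add] at c; rw [h0 h (by omega), h0 h' (by omega), one_mul]
  rw [dg0_add] at h3
  obtain ⟨W, a1, a2, rfl, a, a3, a4, rfl, a6⟩ := h.sub h2 h1 (by omega) fun c => by rw [h4, h0 h' (by omega), mul_one]
  have a7 := a1.finrank_add
  have a8 : dg0 t = finrank F (S.perp W) := by omega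
  obtain rfl := mul_left_cancel (h4.symm.trans (a1.tp_mul h1 (a2 ▸ h.1) (a8 ▸ h'.1)))
  obtain ⟨b, b1, b2, rfl, b4⟩ := h'.ex h2 (a1.perp h1).res a8
  obtain ⟨g, c1, c2, c3, c4⟩ := a1.glue_ed a3 b1
  obtain ⟨d1, d2⟩ := a1.glue_spin h2 h1 a3 b1 c2 c3
  exact ⟨he, A, _, _, inferInstance, S, h1, h4, g, c1, by rw [d1, a4, b2, one_mul], d2, by rw [c4, a6, b4]⟩

theorem no_eig {c : F} (h : ∀ v, g v = c • v → v = 0) (ha : a ∈ ed g.toLinearMap) : ¬ X - C c ∣ a := fun e => by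
  obtain ⟨v, h1, h0⟩ := ((End.hasEigenvalue_iff_isRoot_charpoly g.toLinearMap c).2 (dvd_iff_isRoot.1
    (e.trans (prod_ed g.toLinearMap ▸ Multiset.dvd_prod ha)))).exists_hasEigenvector
  exact h0 (h v (End.mem_eigenspace_iff.1 h1))

theorem Form.Nondeg.om_prim (hS : S.Nondeg) (h2 : (2 : F) ≠ 0) (hg : g ∈ S.om) : ∃ s ε, ∃ μ : Multiset ℕ, ExO s ε 1 ∧
    ed g.toLinearMap = s + μ.map ((X - 1) ^ ·) ∧ (∀ a ∈ s, ¬ X - 1 ∣ a) ∧ dg0 s + μ.sum = finrank F V := by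
  obtain ⟨h1, h3, h4⟩ := (hS.mem_om_iff (.inl (gen_of_two_ne_zero h2))).1 hg
  obtain ⟨W, a1, a2, a3, a4⟩ := hS.prim h1
  obtain ⟨a, b1, b, b2, b3, b4, b5⟩ := Form.nd_split h1 a1 a2
  obtain ⟨c1, c2⟩ := a1.glue_spin h2 hS b1 b2 (fun x => (b3 x).symm) fun x => (b4 x).symm
  obtain ⟨c3, c4⟩ := (a1.perp hS).res.nil_sp h2 b2 (a4 b b4)
  have c5 : ∀ v, a v = v → v = 0 := fun v c => Subtype.ext (a3 v v.2 ((b3 v).symm.trans (congrArg _ c)))
  have c6 : dk a = 1 := by rw [← h3, c1, c3, mul_one]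
  have c7 := finrank_mov_add a
  rw [(Submodule.eq_bot_iff (fix a)).2 fun v hv => c5 v (mem_fix.1 hv), finrank_bot, add_zero] at c7
  refine ⟨_, (S.res W).tp, jt b.toLinearMap, ?_, b5.trans (congrArg _ (ed_eq_jt (a4 b b4))), fun x hx =>
    C_1 (R := F) ▸ no_eig (by simpa using c5) hx, by rw [dg0_ed, jt_sum, a1.finrank_add]⟩
  have := exO_of h2 a1.res (c7 ▸ dk_eq_one_iff.1 c6) b1 c6
  rwa [show (S.res W).spin a = 1 by rw [← h4, c2, c4, mul_one]] at this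

theorem exO_unip (h2 : (2 : F) ≠ 0) {e : ℕ} (ε : ℤˣ) : ExO ({(X - 1 : F[X]) ^ (2 * e + 1)} + {(X - 1) ^ 1}) ε 1 := by
  obtain ⟨A, _, _, _, S, h1, h3, rfl⟩ := exists_otp (F := F) (k := 2 * e + 2) ⟨e + 1, by ring⟩ ε (by omega)
  obtain ⟨g, a1, a2, a3⟩ := h1.exists_unip h2 (μ := {2 * e + 1} + {1}) (by simp) (by simp [h3]) (fun j hj => by
    rw [Multiset.count_eq_zero.2 (by rw [Nat.even_iff] at hj; simp; omega)]; simp) (e := 1) (by simp) odd_one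
  obtain ⟨b1, b2⟩ := h1.nil_sp h2 a1 a2
  have := exO_of h2 h1 ⟨e + 1, by omega⟩ a1 b1
  rwa [b2, ed_eq_jt a2, a3, Multiset.map_add, Multiset.map_singleton, Multiset.map_singleton] at this

theorem ExO.univ (p : ℕ) [hp : Fact p.Prime] [CharP F p] (h2 : (2 : F) ≠ 0) (h : ExO s ε 1) (hS : S.Nondeg) {e : ℕ}
    (hd : dg0 s + 2 * e = finrank F V) (h0 : e = 0 → ε = S.tp) : ∃ g ∈ S.om, ∀ M, M ≠ 0 →
      (∀ a ∈ ed g.toLinearMap, a * (X - 1) ∣ X ^ M - 1) → (∀ a ∈ s, ro a ∣ M) ∧ ∃ i, p ^ i ∣ M ∧ 2 * e + 1 ≤ p ^ i ∧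
        ∀ (a : F[X]) k, Irreducible a → ro a ∣ M → k ≤ p ^ i → ro (a ^ k) ∣ M := by
  have hG := gen_of_two_ne_zero h2
  cases e with
  | zero =>
    obtain ⟨g, a1, a2, a3, rfl⟩ := (h0 rfl ▸ h).ex h2 hS hd
    exact ⟨g, (hS.mem_om_iff (.inl hG)).2 ⟨a1, a2, a3⟩, fun M _ hM => ⟨fun a ha => ro_dvd.2 (dvd_of_mul_right_dvd (hM a ha)),
      0, by simp, by simp, fun a k _ c d => ro_dvd.2 ((pow_dvd_pow a d).trans (by simpa using ro_dvd.1 c))⟩⟩
  | succ e =>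
    obtain ⟨g, a1, a2, a3, a4⟩ := ExO.ex (S := S) h2 (by
      have := h.add h2 (exO_unip h2 (e := e) (ε⁻¹ * S.tp))
      rwa [mul_inv_cancel_left, one_mul] at this) hS
      (s := s + ({(X - 1 : F[X]) ^ (2 * e + 1)} + {(X - 1) ^ 1})) (θ := 1) (by
        rw [← hd, dg0_add, dg0_add]; simp [dg0]; ring)
    refine ⟨g, (hS.mem_om_iff (.inl hG)).2 ⟨a1, a2, a3⟩, fun M h1 hM => ⟨fun a ha => ro_dvd.2 (dvd_of_mul_right_dvd
      (hM a (by simp [a4, ha]))), ?_⟩⟩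
    obtain ⟨-, i, b1, b2, b3⟩ := unip_dvd_sub p (l := 1) (j := 2 * e + 1 + 1) (by omega) h1
      (pow_succ (X - 1 : F[X]) _ ▸ hM _ (by simp [a4]))
    have := Nat.odd_iff.1 ((hp.out.odd_of_ne_two (by rintro rfl; exact h2 (CharP.cast_eq_zero F 2))).pow (n := i))
    exact ⟨i, b1, by omega, fun a k c d f => ro_dvd.2 (b3 a k c (ro_dvd.1 d) f)⟩

theorem dk_fpf (h : ∀ a ∈ ed g.toLinearMap, ¬ X - 1 ∣ a) (he : Even (finrank F V)) : dk g = 1 :=
  dk_eq_one_iff.2 (by simpa [← mov_ed (g := g) (μ := 0) (by simp) h (by simp)] using he)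

theorem exists_odd_prime {R : ℕ} (h0 : R ≠ 0) (h4 : ¬ 4 ∣ R) (h2 : ¬ R ∣ 2) : ∃ r, r.Prime ∧ r ≠ 2 ∧ r ∣ R := by
  obtain ⟨v, o, ho, rfl⟩ := Nat.exists_eq_two_pow_mul_odd h0
  obtain ⟨r, hr, h⟩ := Nat.exists_prime_and_dvd (n := o) (by
    rintro rfl
    rcases v with _ | _ | v
    · simp at h2
    · simp at h2
    · exact h4 ⟨2 ^ v, by ring⟩)
  exact ⟨r, hr, by rintro rfl; exact ho.not_two_dvd_nat h, h.mul_left _⟩

theorem tp_irr (hS : S.Nondeg) (hg : g ∈ S.isom) {m R : ℕ} (hm : 0 < m) (hd : finrank F V = 2 * m)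
    (h : ∀ b ∈ ed g.toLinearMap, Irreducible b ∧ ro b = R) (hR : R ∣ Fintype.card F ^ m + 1) (hr : r.Prime) (hr2 : r ≠ 2)
    (h1 : r ∣ R) : S.tp = -1 := by
  have h0 : ((Fintype.card F ^ m + 1 : ℕ) : F) ≠ 0 := by simp [FiniteField.cast_card_eq_zero, hm.ne']
  have h5 : ¬ r ∣ 2 := fun c => hr2 ((Nat.prime_dvd_prime_iff_eq hr Nat.prime_two).1 c)
  obtain ⟨i, rfl⟩ := h1
  have h6 : 0 < i := Nat.pos_of_ne_zero (by rintro rfl; simp at hR)
  have h7 := (Nat.dvd_mul_right r i).trans hR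
  have h8 := hS.tp_of_fpf hd hr (cast_ne_of_dvd h7 h0) (pow_mem hg i) (by
    rw [← pow_mul, mul_comm]; exact pow_eq_one_iff_ed.2 fun b hb => ro_dvd.1 (h b hb).2.dvd) fun v hv =>
      (pr_ed g.toLinearMap).eq_zero (fun _ hb => (pp_ed hb).monic) (q := X ^ (i + i) - 1) (fun b hb =>
        (h b hb).1.coprime_iff_not_dvd.2 fun e => h5 (Nat.dvd_of_mul_dvd_mul_right h6 (two_mul i ▸ (h b hb).2 ▸ ro_dvd.2 e))) v (by
          rw [map_sub, map_pow, aeval_X, map_one, ← coe_pow_end, pow_add]; exact sub_eq_zero.2 hv)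
  rw [Nat.card_eq_fintype_card] at h8
  have := pow_pos (Fintype.card_pos (α := F)) m
  exact ((zmod_pm Fintype.card_pos h8).resolve_left fun c => h5 (by convert Nat.dvd_sub h7 c.2; omega)).1

theorem plane_minus (h2 : (2 : F) ≠ 0) (hS : S.Nondeg) (hg : g ∈ S.isom) (hd : finrank F V = 2) (h : dk g = 1)
    (he : ed g.toLinearMap = {a}) (ha : Irreducible a) : S.tp = -1 := Form.tp_eq_neg_one_iff.2 fun ⟨U, hU⟩ => by
  have h1 := lagSign_eq_one_iff.1 ((Form.lagSign_map_eq_dk hS (.inl (gen_of_two_ne_zero h2)) hU hg).trans h)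
  have h3 : finrank F U = 1 := by have := hU.dim; omega
  have h4 := (hU.map hg).dim
  have h5 : U ⊓ U.map g.toLinearMap = U.map g.toLinearMap := Submodule.eq_of_le_of_finrank_le inf_le_right (by
    rw [h3, Nat.even_iff] at h1; omega)
  obtain ⟨v, h6, h7⟩ := finrank_eq_one_iff'.1 h3
  obtain ⟨c, hc⟩ := h7 ⟨g v, (h5.ge (Submodule.mem_map_of_mem v.2)).1⟩
  have h8 := (End.hasEigenvalue_iff_isRoot_charpoly g.toLinearMap c).1 (End.hasEigenvalue_of_hasEigenvector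
    ⟨End.mem_eigenspace_iff.2 (congrArg Subtype.val hc).symm, fun e => h6 (Subtype.ext e)⟩)
  have h9 := dg0_ed g.toLinearMap
  rw [← prod_ed, he, Multiset.prod_singleton] at h8
  have h10 : a.natDegree = 1 := natDegree_eq_of_degree_eq_some (degree_eq_one_of_irreducible_of_root ha h8)
  rw [he, hd] at h9
  simp [dg0, h10] at h9

/-- a torus of order `N` -/
def TT (F : Type u) [Field F] (N j : ℕ) (ε : ℤˣ) : Prop := ∃ (s : Multiset F[X]) (θ : ℤˣ), ExO s ε θ ∧ dg0 s = 2 * j ∧ 0 < j ∧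
  (∀ b ∈ s, Irreducible b ∧ ro b = N) ∧ Even N ∧ (N % 4 = 2 → chi (-1 : F) ^ j * ε = -1)

theorem tt_plus (hq : Odd (Fintype.card F)) {j : ℕ} (hj : 0 < j) : TT F (Fintype.card F ^ j - 1) j 1 := by
  obtain ⟨a, a1, a2, a3, a4, a5⟩ := exists_ro (F := F) (N := Fintype.card F ^ j - 1) (by
    rw [Nat.cast_sub (Nat.one_le_pow _ _ Fintype.card_pos)]; simp [FiniteField.cast_card_eq_zero, hj.ne'])
  obtain ⟨k, hk⟩ : a.natDegree ∣ j := a5 ▸ (ord_dvd_iff Fintype.card_pos).2 dvd_rfl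
  have h1 : ∀ b ∈ Multiset.replicate k a, PP b := fun b hb => Multiset.eq_of_mem_replicate hb ▸ pp_of_irr a1 a2
  have h0 : ∀ b ∈ Multiset.replicate k a, b.coeff 0 ≠ 0 := fun b hb => Multiset.eq_of_mem_replicate hb ▸ a3
  obtain ⟨S, b1, b2, b3, g, g', b4, b5⟩ := hyp_model (orthParam F) h1 h0
  have h2 : dg0 (.replicate k a + (Multiset.replicate k a).map (du (orthParam F).σ)) = 2 * j := by
    rw [dg0_add, dg0_du h0, dg0_rep, hk]; ring
  have h3 := b5.ed_eq (pp_add h1 (Multiset.forall_mem_map_iff.2 fun b hb => pp_du (orthParam F).σσ (h1 b hb) (h0 b hb)))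
  have h4 : ∀ b ∈ Multiset.replicate k a + (Multiset.replicate k a).map (du (orthParam F).σ), Irreducible b ∧
      ro b = Fintype.card F ^ j - 1 := by
    simp +contextual [Multiset.mem_replicate, or_imp, a2, a4, irreducible_du (orthParam F).σσ a1 a3 a2, ro_du (orthParam F).σσ a1 a3]
  have ho := Nat.odd_iff.1 (hq.pow (n := j))
  refine ⟨_, _, ⟨h2 ▸ even_two_mul j, _, _, _, inferInstance, S, b1, Form.tp_eq_one_iff.2
    ⟨LinearMap.range (LinearMap.inl F _ _), ?_, ?_⟩, _, b4, dk_fpf (fun b hb c => ?_) ?_, rfl, h3⟩, h2, hj, h4,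
      Nat.even_iff.2 (by omega), fun c => ?_⟩
  · exact ⟨by rintro _ ⟨x, rfl⟩; exact (b2 x).1, by rintro _ ⟨x, rfl⟩ _ ⟨y, rfl⟩; exact (b3 x y).1⟩
  · rw [LinearMap.finrank_range_of_inj LinearMap.inl_injective, finrank_prod, two_mul]
  · obtain ⟨c1, c2⟩ := h4 b (h3 ▸ hb)
    have := c2 ▸ ro_dvd.2 (show b ∣ X ^ 1 - 1 by
      simpa using ((C_1 (R := F) ▸ irreducible_X_sub_C 1 : Irreducible (X - 1 : F[X])).associated_of_dvd c1 c).symm.dvd)
    have := Nat.dvd_one.1 this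
    omega
  · rw [finrank_prod]; exact ⟨_, rfl⟩
  · rw [mul_one, (Int.units_eq_one_or _).resolve_left (mt (chi_neg_one_pow_eq_one_iff hq j).1 (by omega))]

theorem tt_minus (hq : Odd (Fintype.card F)) {j : ℕ} (hj : 0 < j)
    (h : j = 1 ∨ ∃ r, r.Prime ∧ r ≠ 2 ∧ r ∣ Fintype.card F ^ j + 1) : TT F (Fintype.card F ^ j + 1) j (-1) := by
  have h0 : ((Fintype.card F ^ j + 1 : ℕ) : F) ≠ 0 := by simp [FiniteField.cast_card_eq_zero, hj.ne']
  obtain ⟨a, a1, a2, a3, a4, a5⟩ := exists_ro h0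
  obtain ⟨p, _, f, hp, hK⟩ := FiniteField.card' F
  haveI := Fact.mk hp
  have hq1 : 1 < Fintype.card F := Fintype.one_lt_card
  have h1 : a.natDegree = 2 * j := by
    obtain ⟨k, hk⟩ : a.natDegree ∣ 2 * j := deg_dvd_of_ro a2 (a4 ▸ by
      rw [mul_comm, pow_mul]; simpa using Nat.sq_sub_sq (Fintype.card F ^ j) 1 ▸ Dvd.intro _ rfl)
    have h3 := Nat.one_lt_pow a2.natDegree_pos.ne' hq1
    have h4 := Nat.le_of_dvd (by omega) (a4 ▸ ro_dvd_card a1 a2 a3)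
    have h5 := (Nat.pow_lt_pow_iff_right hq1).1 (show Fintype.card F ^ j < Fintype.card F ^ a.natDegree by omega)
    rcases k with _ | _ | k
    · omega
    · omega
    · nlinarith
  have h3 := Nat.one_lt_pow hj.ne' hq1
  obtain ⟨S, b1, g, b2, b3⟩ := exists_form_pr (orthParam F) (s := {a}) (by simpa using pp_of_irr a1 a2) (by simpa)
    (by simpa using (du_iff_ro p (orthParam F).σσ (k := 0) (by simp) a1 a2 a3).2 ⟨j, by simp [a4]⟩)
    (.inr (by simpa using a2.coprime_iff_not_dvd.2 fun e => (Nat.le_of_dvd two_pos (a4 ▸ ro_dvd.2 e)).not_gt (by omega)))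
  have h7 : dg0 {a} = 2 * j := by simpa [dg0]
  have h8 := b3.ed_eq (by simpa using pp_of_irr a1 a2)
  have h9 : dk g = 1 := dk_fpf (by
    simpa [h8] using fun c => absurd ((C_1 (R := F) ▸ irreducible_X_sub_C 1 : Irreducible (X - 1 : F[X])).associated_of_dvd
      a2 c).symm.dvd fun e => by have := natDegree_le_of_dvd e (C_1 (R := F) ▸ X_sub_C_ne_zero 1); simp at this; omega)
    (by simp [h7])
  have ho := Nat.odd_iff.1 (hq.pow (n := j))
  refine ⟨{a}, _, ⟨h7 ▸ even_two_mul j, _, _, _, inferInstance, S, b1, ?_, g, b2, h9, rfl, h8⟩, h7, hj, by simp [a2, a4],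
    Nat.even_iff.2 (by omega), fun c => by rw [(chi_neg_one_pow_eq_one_iff hq j).2 (by omega), one_mul]⟩
  rcases h with rfl | ⟨r, c1, c2, c3⟩
  · exact plane_minus (two_ne_zero_of_odd hq) b1 b2 (by simpa) h9 h8 a2
  · exact tp_irr b1 b2 hj (by simpa) (by simp [h8, a2, a4]) dvd_rfl c1 c2 c3

theorem sq_eq_one_iff_of_ne_zero_aux {l : Fˣ} (h : l ^ 2 = 1) : l.1 = (1 : Fˣ).1 ∨ l.1 = (-1 : Fˣ).1 := by
  simpa using sq_eq_one_iff.1 (show l.1 ^ 2 = 1 by simpa using congrArg Units.val h)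

theorem TT.pair (h2 : (2 : F) ≠ 0) {N' j j' : ℕ} (h : TT F N j ε) (h' : TT F N' j' δ) (h4 : N % 4 = 2 ∨ N' % 4 = 2) :
    ∃ u : Multiset F[X], ExO u (ε * δ) 1 ∧ dg0 u = 2 * (j + j') ∧ ∀ M, (∀ a ∈ u, ro a ∣ M) → N ∣ M ∧ N' ∣ M := by
  wlog h5 : N % 4 = 2 generalizing N N' j j' ε δ
  · obtain ⟨u, a1, a2, a3⟩ := this h' h h4.symm (h4.resolve_left h5)
    exact ⟨u, mul_comm δ ε ▸ a1, add_comm j j' ▸ a2, fun M c => (a3 M c).symm⟩
  obtain ⟨s, θ, a1, a2, a3, a4, ⟨R, rfl⟩, a6⟩ := h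
  obtain ⟨t, η, b1, b2, b3, b4, b5, -⟩ := h'
  obtain ⟨y, hy⟩ := Multiset.exists_mem_of_ne_zero (s := t) (by rintro rfl; simp [dg0] at b2; omega)
  obtain ⟨x, hx⟩ := Multiset.exists_mem_of_ne_zero (s := s) (by rintro rfl; simp [dg0] at a2; omega)
  obtain ⟨a0, A, _, _, _, S, c1, rfl, g, c2, c3, rfl, rfl⟩ := id a1
  rw [dg0_ed] at a2 a0
  have d0 : ∀ M, g ^ M = 1 → R + R ∣ M := fun M c => (a4 x hx).2 ▸ ro_dvd.2 (pow_eq_one_iff_ed.1 c x hx)
  have d1 : ¬ R + R ∣ R := fun c => by have := Nat.le_of_dvd (by omega) c; omega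
  obtain ⟨l, hl⟩ := po_dvd.1 (po_ed.2 ⟨-1, fun b hb => ((a4 b hb).1.prime.dvd_or_dvd (a := X ^ R - 1)
    (b := X ^ R - C (-1 : Fˣ).1) (by convert ro_dvd.1 (a4 b hb).2.dvd using 1; simp; ring)).resolve_left fun c =>
      d1 ((a4 b hb).2 ▸ ro_dvd.2 c)⟩)
  obtain rfl : l = -1 := Units.ext ((sq_eq_one_iff_of_ne_zero_aux (c1.o_scE (by omega) (hl ▸ pow_mem c2 R))).resolve_left
    fun c => d1 (d0 R (by rw [hl, show l = 1 from Units.ext c, map_one])))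
  have d2 : S.spin g = -1 := (Int.units_eq_one_or _).resolve_left fun c => by
    have := c1.spin_pow c2 R
    rw [c, one_pow, hl, show scE A (-1) = LinearEquiv.neg F from LinearEquiv.ext fun v => by simp, c1.spin_neg h2,
      c1.disc_eq_tp h2 a2, a6 h5, a2, pow_mul, Int.units_sq, one_pow] at this
    simp at this
  rcases Int.units_eq_one_or η with rfl | rfl
  · have e1 := exO_of h2 c1 a0 (mul_mem c2 c2) (by rw [c1.dk_mul (.inl (gen_of_two_ne_zero h2)) c2 c2, c3, one_mul])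
    rw [c1.spin_mul c2 c2, d2, neg_mul_neg, one_mul] at e1
    refine ⟨_, by simpa using e1.add h2 b1, by rw [dg0_add, dg0_ed, a2, b2]; ring, fun M c => ?_⟩
    have e2 : N' ∣ M := (b4 y hy).2 ▸ c y (by simp [hy])
    have e3 := d0 (2 * M) (by rw [pow_mul, sq]; exact pow_eq_one_iff_ed.2 fun z hz => ro_dvd.1 (c z (Multiset.mem_add.2 (.inl hz))))
    rw [← two_mul] at e3 ⊢
    exact ⟨(Nat.coprime_two_left.2 (Nat.odd_iff.2 (by omega))).mul_dvd_of_dvd_of_dvd (b5.two_dvd.trans e2)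
      (Nat.dvd_of_mul_dvd_mul_left two_pos e3), e2⟩
  · exact ⟨_, by simpa [d2] using a1.add h2 b1, by rw [dg0_add, dg0_ed, a2, b2]; ring, fun M c =>
      ⟨(a4 x hx).2 ▸ c x (by simp [hx]), (b4 y hy).2 ▸ c y (by simp [hy])⟩⟩

end CfsgH5
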