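import Cfsg.Agent.H5.El23

/-! Orders of fixed-point-free elements of `Ω⁺₈(q)` occur in `V ⋊ Ω⁻₈(q)`. -/

set_option autoImplicit false
open Cfsg Module Polynomial

namespace CfsgH5

universe u

variable {F : Type u} [Field F] [Fintype F] {V : Type*} [AddCommGroup V] [Module F V] [FiniteDimensional F V]
  {r k N : ℕ} {g h : V ≃ₗ[F] V} {A : Submodule F V} {a b : F[X]} {s t : Multiset F[X]} {S : Form (orthParam F) V} {ε δ θ η : ℤˣ}

theorem blk2 (h1 : ∀ a ∈ t, PP a) (h0 : ∀ a ∈ t, a.coeff 0 ≠ 0) (h : t.map (du (RingHom.id F)) = t)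
    (h2 : ∀ a ∈ t, IsCoprime a (X ^ 2 - 1)) (hb : b ∈ t) : ∃ (c : F[X]) (k d : ℕ) (s u : Multiset F[X]), 0 < k ∧ 0 < d ∧
      b = c ^ k ∧ t = s.map (· ^ k) + u ∧ u.map (du (RingHom.id F)) = u ∧ dg0 t = 2 * (k * d) + dg0 u ∧
        (∀ b ∈ s, Irreducible b ∧ ro b = ro c) ∧ c.Monic ∧ Irreducible c ∧ (ro c ∣ Fintype.card F ^ d + 1 ∨
          (s = {c} + ({c} : Multiset F[X]).map (du (RingHom.id F)) ∧ c.natDegree = d ∧ ro c ∣ Fintype.card F ^ d - 1)) := by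
  obtain ⟨a, k, a1, a2, a3, rfl⟩ := h1 b hb
  have a4 := coeff_of_pow a3 (h0 _ hb)
  have c : ¬ a ∣ X ^ 2 - 1 := a2.coprime_iff_not_dvd.1 ((IsCoprime.pow_left_iff a3).1 (h2 _ hb))
  obtain ⟨s, u, rfl, c1, c2, c3, c4, c5, c6⟩ := sd_blk (fun _ => rfl) h a1 a2 a4 a3 hb
  have c7 := a2.natDegree_pos
  rcases c6 with ⟨e1, e2⟩ | ⟨e1, -, e2⟩
  · obtain ⟨j, hj⟩ := (exU_of_self (T := spParam F) (fun x hx => pp_of_irr (c4 x hx).1 (c4 x hx).2.1)
      (fun x hx => coeff_of_pow a3 (h0 _ (Multiset.mem_add.2 (.inl (Multiset.mem_map_of_mem _ hx))))) c1 (.inr fun x hx =>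
        (c4 x hx).2.1.coprime_iff_not_dvd.2 fun e => c (ro_dvd.1 ((c4 x hx).2.2 ▸ ro_dvd.2 e)))).even fun x hx => (c4 x hx).1
    exact ⟨a, k, j, s, u, a3, by omega, rfl, rfl, c2, by rw [c5, hj]; ring, fun x hx => (c4 x hx).2, a1, a2,
      .inl (sd_sp' a1 a2 a4 e1 c (by omega))⟩
  · exact ⟨a, k, _, s, u, a3, c7, rfl, rfl, c2, by rw [c5, e2]; ring, fun x hx => (c4 x hx).2, a1, a2,
      .inr ⟨e1, rfl, ro_dvd_card a1 a2 a4⟩⟩

theorem spin_half (hq : Odd (Fintype.card F)) (hS : S.Nondeg) (hg : g ∈ S.isom) (h : S.spin g = 1) (h1 : a.Monic)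
    (h2 : Irreducible a) (he : ed g.toLinearMap = {a} + ({a} : Multiset F[X]).map (du (RingHom.id F)))
    (h3 : ¬ a ∣ X ^ 2 - 1) : 2 * ro a ∣ Fintype.card F ^ a.natDegree - 1 := by
  have h0 := coeff_ed_ne g a (by simp [he])
  have h4 : ∀ b ∈ ed g.toLinearMap, b.Monic ∧ Irreducible b ∧ ro b = ro a ∧ b.natDegree = a.natDegree := by
    simp [he, h1, h2, monic_du h0, irreducible_du (σ := RingHom.id F) (fun _ => rfl) h1 h0 h2,
      ro_du (σ := RingHom.id F) (fun _ => rfl) h1 h0, natDegree_du h0]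
  obtain ⟨W, W', a1, -, -, a2, -, a3, -⟩ := (hS.rc_core hg (.inr fun v hv => (pr_ed g.toLinearMap).eq_zero
    (fun b hb => (h4 b hb).1) (q := X ^ 2 - 1) (fun b hb => (h4 b hb).2.1.coprime_iff_not_dvd.2 fun e =>
      h3 (ro_dvd.1 ((h4 b hb).2.2.1 ▸ ro_dvd.2 e))) v (by
        rw [map_sub, map_pow, aeval_X, map_one, sq]; exact sub_eq_zero.2 hv))).rt.ts (s := {a}) (t := 0)
          (he.trans (add_zero _).symm) exU_zero
  have a4 := dg0_ed g.toLinearMap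
  rw [he, dg0_add, dg0_du (by simpa)] at a4
  have a5 := Form.IsLag.spin_eq hS (.inl (gen_of_two_ne_zero (two_ne_zero_of_odd hq))) ⟨a1, by omega⟩ hg (mem_stab_of_le a3)
  have a6 : ∀ x : W, (stabRes W ⟨g, mem_stab_of_le a3⟩ x : V) = g x := fun _ => stabRes_apply _ _ _
  generalize stabRes W ⟨g, mem_stab_of_le a3⟩ = y at a5 a6
  replace a2 : finrank F W = a.natDegree := by simpa [dg0] using a2
  have a7 := h2.natDegree_pos
  obtain ⟨x, hx⟩ := Multiset.exists_mem_of_ne_zero (ed_ne_zero (by omega) y.toLinearMap)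
  obtain ⟨u, hu⟩ := Multiset.exists_cons_of_mem hx
  have a8 : aeval y.toLinearMap (ed g.toLinearMap).prod = 0 := LinearMap.ext fun v => Subtype.ext (by
    have : ∀ P : F[X], (aeval y.toLinearMap P v : V) = aeval g.toLinearMap P v := fun P => by
      induction P using Polynomial.induction_on generalizing v with
      | C c => simp
      | add p q hp hq => simp [hp, hq]
      | monomial n c ih => rw [pow_succ, ← mul_assoc, map_mul, map_mul _ (C c * X ^ n), End.mul_apply, End.mul_apply, ih]; simp [a6]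
    rw [this, aeval_eq_zero_iff_ed.2 fun _ => Multiset.dvd_prod]; rfl)
  obtain ⟨c, k, b1, b2, b3, rfl⟩ := pp_ed hx
  obtain ⟨z, b4, b5⟩ := b2.prime.exists_mem_multiset_dvd ((dvd_pow_self c b3.ne').trans (aeval_eq_zero_iff_ed.1 a8 _ hx))
  obtain rfl := irr_eq b1 (h4 z b4).1 b2 (h4 z b4).2.1 b5
  have b6 := dg0_ed y.toLinearMap
  rw [hu, dg0_cons, natDegree_pow, a2, (h4 c b4).2.2.2] at b6
  obtain rfl : k = 1 := by nlinarith
  obtain rfl : u = 0 := eq_zero_of_dg0 (fun x hx => pp_ed (hu ▸ Multiset.mem_cons_of_mem hx)) (by omega)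
  rw [h, det_ed, hu] at a5
  obtain ⟨w, hw⟩ := chi_eq_one_iff.1 a5.symm
  replace hw : nu c = w * w := by simpa using hw
  obtain ⟨m, hm⟩ := hq
  have b7 := dvd_sub_pow (dvd_norm b1 b2 1) m
  have b8 : w ≠ 0 := by rintro rfl; exact coeff_ed_ne g c b4 (by simpa [nu] using hw)
  rw [pow_one, hw, ← sq, ← pow_mul, show 2 * m = Fintype.card F - 1 by omega, FiniteField.pow_card_sub_one_eq_one w b8, C_1,
    ← ro_dvd, (h4 c b4).2.2.1, mul_one, (h4 c b4).2.2.2] at b7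
  rw [← geom_mul, show Fintype.card F - 1 = 2 * m by omega, mul_left_comm]
  exact Nat.mul_dvd_mul_left 2 b7

theorem hard8 {W : Type*} [AddCommGroup W] [Module F W] [FiniteDimensional F W] {S0 : Form (orthParam F) W}
    (hq : Odd (Fintype.card F)) (hS : S.Nondeg) (hV : finrank F V = 8) (hT : S.tp = -1) (h0 : S0.Nondeg) (hW : finrank F W = 8)
    (hT0 : S0.tp = 1) {a : W ≃ₗ[F] W} (ha : a ∈ S0.isom) (h1 : S0.spin a = 1) (h3 : ∀ x ∈ ed a.toLinearMap, ¬ X - 1 ∣ x) :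
    ∃ g ∈ S.om, ∀ M, M ≠ 0 → (∀ x ∈ ed g.toLinearMap, x * (X - 1) ∣ X ^ M - 1) → a ^ M = 1 := by
  obtain ⟨p, _⟩ := CharP.exists F
  haveI hp := Fact.mk (CharP.char_is_prime F p)
  have h2 := two_ne_zero_of_odd hq
  obtain ⟨U, a1, a2, a3, a4⟩ := h0.prim (mul_mem Form.neg_mem_isom ha)
  obtain ⟨b, b1, c, b2, b3, b4, b5⟩ := Form.nd_split ha a1 fun v hv => neg_mem_iff.1 (a2 v hv)
  have c0 := a4 (LinearEquiv.neg F * c) fun x => by simp [b4]
  have c1 : ∀ x ∈ ed b.toLinearMap, IsCoprime x (X ^ 2 - 1) := fun x hx => by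
    rw [show (X ^ 2 - 1 : F[X]) = (X - 1) * (X - C (-1)) by simp; ring]
    exact (cop_one (h3 x (by simp [b5, hx]))).mul_right ((irreducible_X_sub_C _).coprime_iff_not_dvd.2 (no_eig (fun v hv =>
      Subtype.ext (a3 v v.2 (by simp [← b3, hv]))) hx)).symm
  have c2 : (ed b.toLinearMap).map (du (RingHom.id F)) = _ := a1.res.ed_du b1
  have c3 := (dg0_ed b.toLinearMap ▸ a1.finrank_add).trans hW
  obtain ⟨n, hn⟩ := (exU_of_self (T := spParam F) (fun _ => pp_ed) (coeff_ed_ne b) c2 (.inr c1)).even fun _ h => (pp_ed h).monic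
  have c4 : ∀ x ∈ ed b.toLinearMap, PP x ∧ x.coeff 0 ≠ 0 := fun x hx => ⟨pp_ed hx, coeff_ed_ne b x hx⟩
  have c5 : finrank F (S0.perp U) = 0 → ed a.toLinearMap = ed b.toLinearMap := fun e => by
    rw [b5, eq_zero_of_dg0 (fun _ => pp_ed) ((dg0_ed c.toLinearMap).trans e), add_zero]
  suffices ∃ g ∈ S.om, ∀ M, M ≠ 0 → (∀ x ∈ ed g.toLinearMap, x * (X - 1) ∣ X ^ M - 1) →
      (∀ x ∈ ed b.toLinearMap, ro x ∣ M) ∧ 2 ∣ M ∧ ∃ i, p ^ i ∣ M ∧ finrank F (S0.perp U) ≤ p ^ i + 1 by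
    obtain ⟨g, d1, d2⟩ := this
    refine ⟨g, d1, fun M e1 e2 => ?_⟩
    obtain ⟨d3, ⟨m, rfl⟩, i, ⟨l, d4⟩, d5⟩ := d2 M e1 e2
    have d6 : (LinearEquiv.neg F * c) ^ p ^ i = 1 := pow_eq_one_iff_ed.2 fun x hx => by
      obtain ⟨e, he, rfl⟩ := Multiset.mem_map.1 (ed_eq_jt c0 ▸ hx)
      have f1 := jt_sum (LinearEquiv.neg F * c).toLinearMap
      have f2 := f1 ▸ Multiset.single_le_sum (by simp) e he
      refine one_mul (p ^ i) ▸ ro_dvd.1 (ro_pow p (M := 1) (by simp) (by_contra fun f3 => ?_))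
      obtain ⟨j, hj⟩ := (a1.perp h0).res.orth_parity h2 (mul_mem Form.neg_mem_isom b2) c0 (j := e) ⟨4 - n, by omega⟩
      have f4 := Multiset.one_le_count_iff_mem.2 he
      obtain ⟨w, hw⟩ := Multiset.le_iff_exists_add.1 (Multiset.le_count_iff_replicate_le.1 (show 2 ≤ _ by omega) :
        Multiset.replicate 2 e ≤ jt (LinearEquiv.neg F * c).toLinearMap)
      rw [hw] at f1; simp at f1; omega
    have d7 : Commute (LinearEquiv.neg F) c := LinearEquiv.ext fun v => by simp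
    have d8 : (LinearEquiv.neg F : S0.perp U ≃ₗ[F] _) ^ 2 = 1 := LinearEquiv.ext fun v => by simp [sq]
    have d9 : c ^ (2 * m) = 1 := by
      have := d7.mul_pow (2 * m)
      rw [pow_mul (LinearEquiv.neg F), d8, one_pow, one_mul, d4, pow_mul, d6, one_pow] at this
      exact d4 ▸ this.symm
    exact pow_eq_one_iff_ed.2 fun x hx => (Multiset.mem_add.1 (b5 ▸ hx)).elim (fun e => ro_dvd.1 (d3 x e))
      (pow_eq_one_iff_ed.1 d9 x)
  generalize finrank F (S0.perp U) = D at c3 c5 ⊢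
  generalize ed b.toLinearMap = t at c1 c2 c3 hn c4 c5 ⊢
  have UT : ∀ {N j ε N' j' δ} (e : ℕ), TT F N j ε → TT F N' j' δ → (N % 4 = 2 ∨ N' % 4 = 2) → j + j' + e = 4 →
      (e = 0 → ε * δ = -1) → D ≤ 2 * e + 2 → (∀ M, N ∣ M → N' ∣ M → ∀ x ∈ t, ∃ c k, Irreducible c ∧ x = c ^ k ∧ ro c ∣ M ∧
        k ≤ 2 * e + 1) → ∃ g ∈ S.om, ∀ M, M ≠ 0 → (∀ x ∈ ed g.toLinearMap, x * (X - 1) ∣ X ^ M - 1) →
          (∀ x ∈ t, ro x ∣ M) ∧ 2 ∣ M ∧ ∃ i, p ^ i ∣ M ∧ D ≤ p ^ i + 1 := fun e d1 d2 d3 d4 d5 d6 d7 => by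
    obtain ⟨u, e1, e2, e3⟩ := d1.pair h2 d2 d3
    obtain ⟨g, f1, f2⟩ := e1.univ p h2 hS (e := e) (by omega) fun c => (d5 c).trans hT.symm
    refine ⟨g, f1, fun M c c' => ?_⟩
    obtain ⟨f3, i, f4, f5, f6⟩ := f2 M c c'
    obtain ⟨-, -, -, -, -, -, f7, -⟩ := d1
    exact ⟨fun x hx => let ⟨y, k, g1, g2, g3, g4⟩ := d7 M (e3 M f3).1 (e3 M f3).2 x hx
      g2 ▸ f6 y k g1 g3 (g4.trans f5), f7.two_dvd.trans (e3 M f3).1, i, f4, by omega⟩
  have q0 := Nat.odd_iff.1 hq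
  have q1 : Fintype.card F ^ 1 = Fintype.card F := pow_one _
  have q2 : Fintype.card F ^ 2 % 4 = 1 ∧ Fintype.card F ^ 3 % 4 = Fintype.card F % 4 ∧ Fintype.card F ^ 4 % 4 = 1 := by
    rcases (by omega : Fintype.card F % 4 = 1 ∨ Fintype.card F % 4 = 3) with e | e <;> simp [Nat.pow_mod, e]
  have q3 := Nat.one_lt_pow two_ne_zero (Fintype.one_lt_card (α := F))
  have q4 : 0 < Fintype.card F := Fintype.card_pos
  have q5 : Fintype.card F ^ 1 + 1 ∣ Fintype.card F ^ 3 + 1 := by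
    simpa using Odd.nat_add_dvd_pow_add_pow (Fintype.card F) 1 (n := 3) (by decide)
  have D1 := fun i j (h : i ∣ j) => Nat.pow_sub_one_dvd_pow_sub_one (Fintype.card F) h
  have D2 : ∀ i, Fintype.card F ^ (2 * i) - 1 = (Fintype.card F ^ i + 1) * (Fintype.card F ^ i - 1) := fun i => by
    rw [mul_comm, pow_mul]; exact Nat.sq_sub_sq _ 1
  have P0 := tt_plus hq one_pos
  have P1 := tt_plus hq two_pos
  have P2 := tt_plus hq three_pos
  have M1 := tt_minus hq one_pos (.inl rfl)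
  have M2 := tt_minus hq two_pos (.inr (exists_odd_prime (by omega) (by omega) fun c => by
    have := Nat.le_of_dvd two_pos c; omega))
  have M3 := tt_minus hq three_pos (.inr (by
    obtain ⟨r, r1, r2⟩ := Nat.exists_prime_and_dvd (n := Fintype.card F * (Fintype.card F - 1) + 1) (by
      have := Fintype.one_lt_card (α := F); simp; omega)
    refine ⟨r, r1, ?_, r2.trans ⟨Fintype.card F + 1, ?_⟩⟩
    · rintro rfl
      have := Nat.even_iff.1 (Nat.even_mul_pred_self (Fintype.card F)); omega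
    · obtain ⟨k, hk⟩ := Nat.exists_eq_add_of_lt q4
      rw [hk]; simp; ring))
  have BK : ∀ t' : Multiset F[X], (∀ x ∈ t', x ∈ t) → t'.map (du (RingHom.id F)) = t' → ∀ x ∈ t', _ := fun t' d1 d2 x =>
    blk2 (fun y hy => (c4 y (d1 y hy)).1) (fun y hy => (c4 y (d1 y hy)).2) d2 (fun y hy => c1 y (d1 y hy)) (b := x)
  have BL : ∀ t' : Multiset F[X], (∀ x ∈ t', x ∈ t) → t'.map (du (RingHom.id F)) = t' → ∀ x ∈ t', ∃ c k d, Irreducible c ∧
      x = c ^ k ∧ 0 < k ∧ 0 < d ∧ 2 * (k * d) ≤ dg0 t' ∧ (ro c ∣ Fintype.card F ^ d - 1 ∨ ro c ∣ Fintype.card F ^ d + 1) :=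
    fun t' d1 d2 x hx => let ⟨c, k, d, _, _, e1, e2, e3, _, _, e4, _, _, e5, e6⟩ := BK t' d1 d2 x hx
      ⟨c, k, d, e5, e3, e1, e2, by omega, e6.symm.imp_left (·.2.2)⟩
  by_cases e1 : ∀ x ∈ t, ∃ c k, Irreducible c ∧ x = c ^ k ∧ (ro c ∣ Fintype.card F ^ 1 - 1 ∨ ro c ∣ Fintype.card F ^ 1 + 1) ∧ k ≤ 4
  · by_cases e2 : D ≤ 6
    · exact UT 2 P0 M1 (by omega) rfl (by omega) e2 fun M d1 d2 x hx => let ⟨c, k, f1, f2, f3, f4⟩ := e1 x hx
        ⟨c, k, f1, f2, f3.elim (·.trans d1) (·.trans d2), by omega⟩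
    obtain rfl : t = 0 := eq_zero_of_dg0 (fun x hx => (c4 x hx).1) (by omega)
    obtain ⟨S1, d1, d2⟩ := exists_disc h2 (k := 2) 1 fun _ => rfl
    obtain ⟨d3, d4, d5⟩ := (d1.mem_om_iff (.inl (gen_of_two_ne_zero h2))).1 ((d1.neg_mem_om_iff h2).2 ⟨by simp, d2⟩)
    obtain ⟨g, f1, f2⟩ := (d5 ▸ exO_of h2 d1 (by simp) d3 d4).univ p h2 hS (e := 3) (by simp [dg0_ed, hV]) (by omega)
    refine ⟨g, f1, fun M c c' => ?_⟩
    obtain ⟨f3, i, f4, f5, -⟩ := f2 M c c'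
    refine ⟨by simp, by_contra fun f6 => h2 ?_, i, f4, by omega⟩
    obtain ⟨m, rfl⟩ := Nat.odd_iff.2 (show M % 2 = 1 by omega)
    have f7 := pow_eq_one_iff_ed.2 fun x hx => ro_dvd.1 (f3 x hx)
    rw [pow_succ, pow_mul, show (LinearEquiv.neg F : (Fin 2 → F) ≃ₗ[F] _) ^ 2 = 1 from LinearEquiv.ext fun v => by simp [sq],
      one_pow, one_mul] at f7
    have f8 : (-1 : F) = 1 := congrFun (LinearEquiv.congr_fun f7 1) 0
    linear_combination -f8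
  push Not at e1
  obtain ⟨x, hx, e1⟩ := e1
  obtain ⟨c, k, d, s, u, d1, d2, rfl, rfl, d3, d4, d5, d6, d7, d8⟩ := BK _ (fun _ h => h) c2 x hx
  have d9 := BL u (by simp +contextual) d3
  have d10 : ro c ∣ Fintype.card F ^ d - 1 ∨ ro c ∣ Fintype.card F ^ d + 1 := d8.symm.imp_left (·.2.2)
  have K : ∀ M e, ro c ∣ M → k ≤ e → (∀ x ∈ u, ∃ c k, Irreducible c ∧ x = c ^ k ∧ ro c ∣ M ∧ k ≤ e) →
      ∀ x ∈ s.map (· ^ k) + u, ∃ c k, Irreducible c ∧ x = c ^ k ∧ ro c ∣ M ∧ k ≤ e := fun M e f1 f2 f3 x hx =>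
    (Multiset.mem_add.1 hx).elim (fun f => let ⟨y, hy, f4⟩ := Multiset.mem_map.1 f
      ⟨y, k, (d5 y hy).1, f4.symm, (d5 y hy).2 ▸ f1, f2⟩) (f3 x)
  have T3 : D ≤ 2 → k = 1 → (∀ M, Fintype.card F ^ 2 + 1 ∣ M → Fintype.card F ^ 2 - 1 ∣ M → ro c ∣ M) → (∀ x ∈ u, Irreducible x ∧
      (ro x ∣ Fintype.card F ^ 2 - 1 ∨ ro x ∣ Fintype.card F ^ 2 + 1)) → _ := fun f1 f2 f3 f4 =>
    UT 0 M2 P1 (by omega) rfl (by simp) f1 fun M g1 g2 => K M _ (f3 M g1 g2) f2.le fun x hx =>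
      ⟨x, 1, (f4 x hx).1, (pow_one x).symm, (f4 x hx).2.elim (·.trans g2) (·.trans g1), le_rfl⟩
  have d11 := Nat.le_mul_of_pos_left d d1
  obtain rfl | rfl | rfl | rfl : d = 1 ∨ d = 2 ∨ d = 3 ∨ d = 4 := by omega
  · exact absurd (e1 c k d7 rfl d10) (by omega)
  · by_cases e2 : D ≤ 2 ∧ k = 1 ∧ ∀ x ∈ u, Irreducible x ∧ (ro x ∣ Fintype.card F ^ 2 - 1 ∨ ro x ∣ Fintype.card F ^ 2 + 1)
    · exact T3 e2.1 e2.2.1 (fun M f1 f2 => d10.elim (·.trans f2) (·.trans f1)) e2.2.2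
    have e3 : ∃ N, (N = Fintype.card F ^ 1 - 1 ∨ N = Fintype.card F ^ 1 + 1) ∧
        ∀ x ∈ u, ∃ c k, Irreducible c ∧ x = c ^ k ∧ ro c ∣ N ∧ k ≤ 3 := by
      by_cases e3 : dg0 u = 0
      · exact ⟨_, .inl rfl, by simp [eq_zero_of_dg0 (fun x hx => (c4 x (by simp [hx])).1) e3]⟩
      obtain ⟨m, hm⟩ : Even (dg0 u) := ⟨n - k * 2, by omega⟩
      rw [and_iff_right (by omega), and_iff_right (by omega)] at e2
      push Not at e2
      obtain ⟨y, hy, e2⟩ := e2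
      obtain ⟨c', k', d', s', u', f1, f2, rfl, f0, f3, f4, f5, f6, f7, f8⟩ := BK u (by simp +contextual) d3 y hy
      have f9 : ro c' ∣ Fintype.card F ^ d' - 1 ∨ ro c' ∣ Fintype.card F ^ d' + 1 := f8.symm.imp_left (·.2.2)
      have f10 := Nat.le_mul_of_pos_left d' f1
      by_cases e4 : k' = 1
      · subst e4
        rw [pow_one] at e2
        obtain rfl | rfl : d' = 1 ∨ d' = 2 := by omega
        · exact ((e2 f7).1 (f9.elim (·.trans (D1 _ _ (by decide))) (·.trans ⟨_, D2 1⟩))).elim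
        · exact (f9.elim (e2 f7).1 (e2 f7).2).elim
      have f11 := Nat.mul_le_mul_right d' (show 2 ≤ k' by omega)
      obtain rfl : d' = 1 := by omega
      obtain rfl : u' = 0 := eq_zero_of_dg0 (fun x hx => (c4 x (by simp [f0, hx])).1) (by omega)
      obtain ⟨N, g1, g2⟩ : ∃ N, (N = Fintype.card F ^ 1 - 1 ∨ N = Fintype.card F ^ 1 + 1) ∧ ro c' ∣ N :=
        f9.elim (⟨_, .inl rfl, ·⟩) (⟨_, .inr rfl, ·⟩)
      refine ⟨N, g1, fun x hx => ?_⟩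
      obtain ⟨z, hz, rfl⟩ := Multiset.mem_map.1 (by simpa only [f0, add_zero] using hx)
      exact ⟨z, k', (f5 z hz).1, rfl, (f5 z hz).2 ▸ g2, by omega⟩
    obtain ⟨N, e3, e4⟩ := e3
    have e5 : ∀ M, N ∣ M → ∀ x ∈ u, ∃ c k, Irreducible c ∧ x = c ^ k ∧ ro c ∣ M ∧ k ≤ 2 * 1 + 1 := fun M f x hx =>
      let ⟨c, k, f1, f2, f3, f4⟩ := e4 x hx; ⟨c, k, f1, f2, f3.trans f, f4⟩
    rcases d10 with f | f
    · have e6 : N ∣ Fintype.card F ^ 2 - 1 := e3.elim (· ▸ D1 _ _ (by decide)) (· ▸ ⟨_, D2 1⟩)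
      by_cases e7 : Fintype.card F % 4 = 1
      · exact UT 1 P1 M1 (by omega) rfl (by omega) (by omega) fun M g1 _ => K M _ (f.trans g1) (by omega) (e5 M (e6.trans g1))
      · exact UT 1 P1 P0 (by omega) rfl (by omega) (by omega) fun M g1 _ => K M _ (f.trans g1) (by omega) (e5 M (e6.trans g1))
    · rcases e3 with rfl | rfl
      · exact UT 1 M2 P0 (by omega) rfl (by omega) (by omega) fun M g1 g2 => K M _ (f.trans g1) (by omega) (e5 M g2)
      · exact UT 1 M2 M1 (by omega) rfl (by omega) (by omega) fun M g1 g2 => K M _ (f.trans g1) (by omega) (e5 M g2)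
  · have e5 : ∀ M, Fintype.card F ^ 1 - 1 ∣ M → Fintype.card F ^ 1 + 1 ∣ M → ∀ x ∈ u, ∃ c k, Irreducible c ∧ x = c ^ k ∧
        ro c ∣ M ∧ k ≤ 2 * 0 + 1 := fun M f1 f2 x hx => by
      obtain ⟨c', k', d', g1, g2, g3, g4, g5, g6⟩ := d9 x hx
      have := Nat.le_mul_of_pos_left d' g3
      obtain rfl : d' = 1 := by omega
      exact ⟨c', k', g1, g2, g6.elim (·.trans f1) (·.trans f2), by omega⟩
    rcases d10 with f | f
    · exact UT 0 P2 M1 (by omega) rfl (by simp) (by omega) fun M g1 g2 => K M _ (f.trans g1) (by omega)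
        (e5 M ((D1 _ _ (by decide)).trans g1) g2)
    · exact UT 0 M3 P0 (by omega) rfl (by simp) (by omega) fun M g1 g2 => K M _ (f.trans g1) (by omega)
        (e5 M g2 (q5.trans g1))
  obtain rfl : k = 1 := by omega
  obtain rfl : u = 0 := eq_zero_of_dg0 (fun x hx => (c4 x (by simp [hx])).1) (by omega)
  have e2 : ed a.toLinearMap = s := by simpa using c5 (by omega)
  have e3 : ¬ c ∣ X ^ 2 - 1 := d7.coprime_iff_not_dvd.1 (by simpa using c1 _ hx)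
  rcases d8 with f | ⟨f1, f2, f3⟩
  · obtain ⟨r, r1, r2, r3⟩ := exists_odd_prime (R := ro c) (fun e => by simp [e] at f) (fun e => by
      have := e.trans f; omega) (mt ro_dvd.1 e3)
    exact absurd (hT0.symm.trans (tp_irr h0 ha (m := 4) (by omega) hW (e2 ▸ d5) f r1 r2 r3)) (by decide)
  refine T3 (by omega) rfl (fun M g1 g2 => ?_) (by simp)
  have g3 := spin_half hq h0 ha h1 d6 d7 (e2.trans f1) e3
  obtain ⟨y, hy⟩ : 2 ∣ Fintype.card F ^ 2 + 1 := by omega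
  rw [f2, D2 2, hy, mul_assoc] at g3
  refine (Nat.dvd_of_mul_dvd_mul_left two_pos g3).trans (Nat.Coprime.mul_dvd_of_dvd_of_dvd ?_ ((Dvd.intro_left 2 hy.symm).trans g1) g2)
  rw [show Fintype.card F ^ 2 - 1 = 2 * (y - 1) by omega]
  exact (Nat.coprime_two_right.2 (Nat.odd_iff.2 (by omega))).mul_right (by
    obtain ⟨z, rfl⟩ := Nat.exists_eq_add_of_lt (show 0 < y by omega); simp)

end CfsgH5
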