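import Cfsg.Agent.H5.Mx3

/-!
Overgroups of geometric subgroups, part 4: orthogonal decompositions into non-degenerate
subspaces.
-/

set_option autoImplicit false

namespace CfsgH5

open Module

section Dstab

variable {F : Type*} [Field F] {V : Type*} [AddCommGroup V] [Module F V] {ι : Type*}

theorem map_mul_equiv (U : Submodule F V) (g h : V ≃ₗ[F] V) :
    U.map ((g * h : V ≃ₗ[F] V) : V →ₗ[F] V) = (U.map (h : V →ₗ[F] V)).map (g : V →ₗ[F] V) := by
  rw [LinearEquiv.coe_toLinearMap_mul, Module.End.mul_eq_comp, Submodule.map_comp]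

theorem map_one_equiv (U : Submodule F V) : U.map ((1 : V ≃ₗ[F] V) : V →ₗ[F] V) = U :=
  Submodule.map_id U

/-- the stabiliser of a family of subspaces -/
def dstab (D : ι → Submodule F V) : Subgroup (V ≃ₗ[F] V) where
  carrier := {g | ∃ σ : Equiv.Perm ι, ∀ i, (D i).map (g : V →ₗ[F] V) = D (σ i)}
  mul_mem' := by
    rintro a b ⟨σ, h⟩ ⟨τ, h'⟩
    exact ⟨σ * τ, fun i => by rw [map_mul_equiv, h', h]; rfl⟩
  one_mem' := ⟨1, fun i => map_one_equiv _⟩
  inv_mem' := by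
    rintro a ⟨σ, h⟩
    refine ⟨σ⁻¹, fun i => ?_⟩
    have := h (σ⁻¹ i)
    rw [show σ (σ⁻¹ i) = i by simp] at this
    rw [← this, ← map_mul_equiv, inv_mul_cancel, map_one_equiv]

theorem mem_dstab {D : ι → Submodule F V} {g : V ≃ₗ[F] V} :
    g ∈ dstab D ↔ ∃ σ : Equiv.Perm ι, ∀ i, (D i).map (g : V →ₗ[F] V) = D (σ i) := Iff.rfl

theorem mem_dstab_of_stab {D : ι → Submodule F V} {g : V ≃ₗ[F] V}
    (h : ∀ i, g ∈ stab F (D i : Set V)) : g ∈ dstab D := ⟨1, fun i => mem_stab_iff_map.1 (h i)⟩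

theorem mem_dstab_of_le [Finite ι] [FiniteDimensional F V] {D : ι → Submodule F V} {k : ℕ}
    (hk : ∀ i, finrank F (D i) = k) (hinj : Function.Injective D) {g : V ≃ₗ[F] V}
    (h : ∀ i, ∃ j, (D i).map (g : V →ₗ[F] V) ≤ D j) : g ∈ dstab D := by
  choose σ hσ using h
  have h1 : ∀ i, (D i).map (g : V →ₗ[F] V) = D (σ i) := fun i =>
    Submodule.eq_of_le_of_finrank_le (hσ i) (by rw [LinearEquiv.finrank_map_eq, hk, hk])
  have h2 : Function.Injective σ := fun i j hij => hinj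
    (Submodule.map_injective_of_injective g.injective (by rw [h1, h1, hij]))
  exact ⟨Equiv.ofBijective σ (Finite.injective_iff_bijective.1 h2), h1⟩

end Dstab

namespace Form

variable {F : Type*} [Field F] {T : FParam F} {V : Type*} [AddCommGroup V] [Module F V]
  {S : Form T V} {N : Subgroup (V ≃ₗ[F] V)} {ι : Type*} {D : ι → Submodule F V} {k : ℕ}

/-- an orthogonal decomposition into isometric non-degenerate subspaces -/
structure ODec (S : Form T V) (k : ℕ) (D : ι → Submodule F V) : Prop where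
  nd : ∀ i, S.NondegOn (D i)
  orth : ∀ i j, i ≠ j → ∀ x ∈ D i, ∀ y ∈ D j, S.B x y = 0
  top : iSup D = ⊤
  dim : ∀ i, finrank F (D i) = k
  iso : ∀ i j, ∃ e : D i ≃ₗ[F] D j, IsIsom (S.res (D i)) (S.res (D j)) e

theorem ODec.le_perp (h : S.ODec k D) {i j : ι} (hij : i ≠ j) : D i ≤ S.perp (D j) :=
  fun x hx y hy => h.orth i j hij x hx y hy

theorem ODec.eq_zero (h : S.ODec k D) {i j : ι} (hij : i ≠ j) {x : V} (h1 : x ∈ D i) (h2 : x ∈ D j) :
    x = 0 := h.nd i x h1 fun y hy => h.orth i j hij y hy x h2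

theorem ODec.inj (h : S.ODec k D) (hk : 1 ≤ k) : Function.Injective D := by
  intro i j hij
  by_contra hn
  have : D i = ⊥ := eq_bot_iff.2 fun x hx => h.eq_zero hn hx (hij ▸ hx)
  have h1 := h.dim i
  rw [this, finrank_bot] at h1
  omega

theorem ODec.exists_notMem_perp (h : S.ODec k D) (hS : S.Nondeg) {a : V} (ha : a ≠ 0) :
    ∃ i, a ∉ S.perp (D i) := by
  by_contra hc
  push Not at hc
  refine ha (hS a fun y => ?_)
  have : y ∈ S.perp {a} := by
    refine (show ⊤ ≤ S.perp {a} from ?_) trivial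
    rw [← h.top]
    exact iSup_le fun i x hx => S.mem_perp_singleton.2 (perp_symm (hc i x hx))
  exact S.mem_perp_singleton.1 this

variable [FiniteDimensional F V]

theorem ODec.mem_dstab (h : S.ODec k D) (hS : S.Nondeg) {i : ι} {g : V ≃ₗ[F] V} (hg : g ∈ S.isom)
    (h1 : g ∈ fixer F (S.perp (D i) : Set V)) : g ∈ dstab D := by
  refine mem_dstab_of_stab fun j => ?_
  by_cases hij : j = i
  · exact hij ▸ hS.stab_of_fixer_perp hg h1
  · exact fixer_le_stab _ fun v hv => h1 v (h.le_perp hij hv)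

theorem ODec.eich_mem (h : S.ODec k D) (hS : S.Nondeg) (hN : dstab D ⊓ S.EG ≤ N) {i : ι} {u w : V}
    {l : F} (hE : S.IsEich u w l) (hu : u ∈ D i) (hw : w ∈ D i) : eich hE ∈ N :=
  hN ⟨h.mem_dstab hS (Form.eich_mem hE)
    (eich_mem_fixer hE (S.le_perp_perp _ hu) (S.le_perp_perp _ hw)), eich_mem_EG hE⟩

theorem ODec.exists_swap (h : S.ODec k D) (hS : S.Nondeg) {i j : ι} (hij : i ≠ j) :
    ∃ s ∈ S.isom, s ∈ dstab D ∧ (D i).map (s : V →ₗ[F] V) = D j ∧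
      ∀ l, l ≠ i → l ≠ j → s ∈ fixer F (D l : Set V) := by
  classical
  obtain ⟨e, he⟩ := h.iso i j
  let π := (D i).projectionOnto _ (h.nd i).isCompl
  let φ : V →ₗ[F] V := LinearMap.id - (D i).subtype ∘ₗ π + (D j).subtype ∘ₗ e.toLinearMap ∘ₗ π
  have hφ : ∀ (x : D i) p, p ∈ S.perp (D i) → φ (x + p) = e x + p := by
    intro x p hp
    have : π (x + p) = x := by
      rw [map_add, Submodule.projectionOnto_apply_left,
        Submodule.projectionOnto_apply_of_mem_right _ hp, add_zero]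
    simp only [φ, LinearMap.add_apply, LinearMap.sub_apply, LinearMap.comp_apply, this,
      LinearMap.id_apply, Submodule.subtype_apply, LinearEquiv.coe_coe]
    abel
  have hU : ∀ v ∈ D i ⊔ (S.perp (D i) ⊓ S.perp (D j)), ∃ (x : D i) (p : V), p ∈ S.perp (D i) ∧
      p ∈ S.perp (D j) ∧ v = x + p := by
    intro v hv
    obtain ⟨x, hx, p, hp, rfl⟩ := Submodule.mem_sup.1 hv
    exact ⟨⟨x, hx⟩, p, hp.1, hp.2, rfl⟩
  obtain ⟨s, hs, h1⟩ := hS.witt' (D i ⊔ (S.perp (D i) ⊓ S.perp (D j))) φ (by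
      intro v hv h0
      obtain ⟨x, p, h1, h2, rfl⟩ := hU v hv
      rw [hφ x p h1] at h0
      have h3 : (e x : V) = 0 := h.nd j _ (e x).2 fun y hy => by
        rw [eq_neg_of_add_eq_zero_left h0, neg_right, perp_symm (h2 y hy), neg_zero]
      have h4 : x = 0 := by simpa using h3
      simpa [h4] using h0)
    (by
      intro v hv v' hv'
      obtain ⟨x, p, h1, h2, rfl⟩ := hU v hv
      obtain ⟨x', p', h1', h2', rfl⟩ := hU v' hv'
      have := he.B x x'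
      rw [res_B, res_B] at this
      simp only [hφ x p h1, hφ x' p' h1', add_left, add_right, this, h1 _ x'.2, h2 _ (e x').2,
        perp_symm (h1' _ x.2), perp_symm (h2' _ (e x).2)])
    (by
      intro v hv
      obtain ⟨x, p, h1, h2, rfl⟩ := hU v hv
      have := he.q x
      rw [res_q, res_q] at this
      rw [hφ x p h1, q_add, q_add, this, perp_symm (h1 _ x.2), perp_symm (h2 _ (e x).2)])
  have h2 : (D i).map (s : V →ₗ[F] V) = D j := map_eq_of_equiv e fun w => by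
    rw [h1 _ (Submodule.mem_sup_left w.2)]
    simpa using hφ w 0 (zero_mem _)
  have h3 : ∀ p, p ∈ S.perp (D i) → p ∈ S.perp (D j) → s p = p := fun p hp hp' => by
    rw [h1 _ (Submodule.mem_sup_right ⟨hp, hp'⟩)]
    simpa using hφ 0 p hp
  have h4 : ∀ l, l ≠ i → l ≠ j → s ∈ fixer F (D l : Set V) := fun l hl hl' v hv =>
    h3 v (h.le_perp hl hv) (h.le_perp hl' hv)
  have h5 : (D j).map (s : V →ₗ[F] V) = D i := by
    refine Submodule.eq_of_le_of_finrank_le ?_ (by rw [LinearEquiv.finrank_map_eq, h.dim, h.dim])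
    rintro _ ⟨v, hv, rfl⟩
    rw [← hS.perp_perp (D i)]
    intro w hw
    obtain ⟨a, ha, hwa⟩ := (h.nd j).exists_decomp w
    have h6 : w - a ∈ S.perp (D i) := Submodule.sub_mem _ hw (h.le_perp hij.symm ha)
    obtain ⟨b, hb, rfl⟩ := h2.ge ha
    rw [LinearEquiv.coe_coe] at hwa h6
    have : w = s b + s (w - s b) := by rw [h3 _ h6 hwa]; simp
    rw [this, add_right, LinearEquiv.coe_coe, isom_B hs, isom_B hs, h.orth j i hij.symm v hv b hb,
      perp_symm (hwa v hv), add_zero]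
  refine ⟨s, hs, ⟨Equiv.swap i j, fun l => ?_⟩, h2, h4⟩
  by_cases hl : l = i
  · rw [hl, h2, Equiv.swap_apply_left]
  by_cases hl' : l = j
  · rw [hl', h5, Equiv.swap_apply_right]
  · rw [Equiv.swap_apply_of_ne_of_ne hl hl', mem_stab_iff_map.1 (fixer_le_stab _ (h4 l hl hl'))]

theorem ODec.exists_swap' (h : S.ODec k D) (hG : S.Good) (hk : 2 ≤ k) (hN : dstab D ⊓ S.EG ≤ N)
    {i j : ι} (hij : i ≠ j) : ∃ s ∈ N, s ∈ S.isom ∧ (D i).map (s : V →ₗ[F] V) = D j ∧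
      ∀ l, l ≠ i → l ≠ j → s ∈ fixer F (D l : Set V) := by
  obtain ⟨s, hs, h1, h2, h3⟩ := h.exists_swap hG.nd hij
  obtain ⟨c, hc, h4, h5⟩ := hG.comp _ (h.nd i) (by rw [h.dim]; exact hk) s hs
  refine ⟨s * c, hN ⟨(dstab D).mul_mem h1 (h.mem_dstab hG.nd hc h4), h5⟩, EG_le_isom h5, ?_,
    fun l hl hl' => (fixer F _).mul_mem (h3 l hl hl') fun v hv => h4 v (h.le_perp hl hv)⟩
  rw [map_mul_equiv, mem_stab_iff_map.1 (hG.nd.stab_of_fixer_perp hc h4), h2]

/-- the final step for orthogonal decompositions -/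
theorem ODec.EG_le (h : S.ODec k D) (hG : S.Good) (hk : 2 ≤ k) (hN : dstab D ⊓ S.EG ≤ N) {j : ι}
    {y : V} (hy : y ∈ D j) (h0 : y ≠ 0) (hq : S.q y = 0) {z : V} (hz : z ∈ S.EA N hq) (hn : z ∉ D j)
    (hirr : ∀ i, i ≠ j → ∀ a ∈ S.EA N hq, a ∈ S.perp (D j) → a ∉ S.perp (D i) →
      ∀ v ∈ D i, v ∈ S.EA N hq) : S.EG ≤ N := by
  have hS := hG.nd
  have hb : ∀ b ∈ D j, S.B b y = 0 → b ∈ S.EA N hq := fun b hb h1 =>
    mem_EA_of _ h1 fun l e => h.eich_mem hS hN e hy hb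
  obtain ⟨a, ha, hza⟩ := (h.nd j).exists_decomp z
  have h1 : z - a ∈ S.EA N hq := AddSubgroup.sub_mem _ hz (hb a ha (by
    have := hza y hy
    rwa [sub_left, EA_perp hz, zero_sub, neg_eq_zero] at this))
  obtain ⟨i, hi⟩ := h.exists_notMem_perp hS (a := z - a) (by rintro h; exact hn (sub_eq_zero.1 h ▸ ha))
  have hij : i ≠ j := by rintro rfl; exact hi hza
  have h2 := hirr i hij _ h1 hza hi
  have h3 : ∀ l, l ≠ j → ∀ v ∈ D l, v ∈ S.EA N hq := by
    intro l hl v hv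
    by_cases hli : l = i
    · exact h2 v (hli ▸ hv)
    obtain ⟨s, hs, hsi, h4, h5⟩ := h.exists_swap' hG hk hN (Ne.symm hli)
    obtain ⟨w, hw, rfl⟩ := h4.ge hv
    exact EA_conj' hs hsi (h5 j hij.symm (Ne.symm hl) y hy) (h2 w hw)
  have hQ : S.Qu y ≤ N := by
    refine Qu_le_of_EA (hu := hq) (fun w hw => ?_) fun l e => h.eich_mem hS hN e hy (zero_mem _)
    have : ∃ a ∈ D j, ∃ b ∈ S.EA N hq, w = a + b := by
      have hw' : w ∈ iSup D := h.top ▸ trivial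
      clear hw
      induction hw' using Submodule.iSup_induction' with
      | mem l x hx =>
        by_cases hl : l = j
        · exact ⟨x, hl ▸ hx, 0, zero_mem _, by simp⟩
        · exact ⟨0, zero_mem _, x, h3 l hl x hx, by simp⟩
      | zero => exact ⟨0, zero_mem _, 0, zero_mem _, by simp⟩
      | add x y _ _ hx hy =>
        obtain ⟨a, ha, b, hb, rfl⟩ := hx
        obtain ⟨a', ha', b', hb', rfl⟩ := hy
        exact ⟨a + a', add_mem ha ha', b + b', add_mem hb hb', by abel⟩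
    obtain ⟨a, ha, b, hb', rfl⟩ := this
    exact add_mem (hb a ha (by rwa [add_left, EA_perp hb', add_zero] at hw)) hb'
  obtain ⟨f, hf, hh⟩ := (h.nd j).exists_isHyp_of hy h0 hq
  have hp : ∀ x ∈ D j, x ∈ S.perp (S.perp (D j) : Set V) := fun x hx => S.le_perp_perp _ hx
  obtain ⟨g, hg, h4, h5, -⟩ := hS.witt_hyp_fix hh hh.symm (S.perp (D j)) (hp y hy) (hp f hf)
    (hp f hf) (hp _ ((D j).smul_mem _ hy))
  obtain ⟨c, hc, h6, h7⟩ := hG.comp _ (h.nd i) (by rw [h.dim]; exact hk) g hg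
  have h8 := Qu_map_le' (EG_le_isom h7)
    (hN ⟨(dstab D).mul_mem (h.mem_dstab hS hg h4) (h.mem_dstab hS hc h6), h7⟩) hQ
  rw [LinearEquiv.mul_apply, h6 y (h.le_perp hij.symm hy), h5] at h8
  exact hS.EG_le_of_opp hq hh.qf (by simp [hh.fe, T.ε_ne]) hQ h8

theorem ODec.EG_le_three (h : S.ODec k D) (hG : S.Good) (hk : 3 ≤ k) (hN : dstab D ⊓ S.EG ≤ N)
    {j : ι} {y : V} (hy : y ∈ D j) (h0 : y ≠ 0) (hq : S.q y = 0) {z : V} (hz : z ∈ S.EA N hq)
    (hn : z ∉ D j) : S.EG ≤ N := by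
  refine h.EG_le hG (by omega) hN hy h0 hq hz hn fun i hij a ha _ hn v hv => ?_
  exact hG.inv_le (h.nd i) (by rw [h.dim]; exact hk) (fun x hx z hz l hE a ha =>
    EA_conj' (h.eich_mem hG.nd hN hE hx hz) (Form.eich_mem hE)
      (eich_fix hE (h.orth j i hij.symm y hy x hx) (h.orth j i hij.symm y hy z hz)) ha) ha hn hv

theorem NondegOn.le_of_sing {X : Submodule F V} (hX : S.NondegOn X) {A : Submodule F V}
    (H : ∀ a ∈ A, ∀ x ∈ X, S.q x = 0 → S.B a x ≠ 0 → x ∈ A) {e : V} (he : e ∈ X) (h0 : e ≠ 0)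
    (hq : S.q e = 0) (heA : e ∈ A) : X ≤ A := by
  obtain ⟨f, hf, h⟩ := hX.exists_isHyp_of he h0 hq
  have hfA := H e heA f hf h.qf (by simp [h.ef])
  intro x hx
  have hw := h.decomp x
  have hwX : x - (S.B x f • e + (T.ε * S.B x e) • f) ∈ X :=
    X.sub_mem hx (X.add_mem (X.smul_mem _ he) (X.smul_mem _ hf))
  obtain ⟨w, hw'⟩ : ∃ w, w = x - (S.B x f • e + (T.ε * S.B x e) • f) := ⟨_, rfl⟩
  rw [← hw'] at hw hwX
  obtain ⟨l, hl⟩ := S.exists_rep w
  have h1 := H e heA ((-l) • e + (1 : F) • f + w)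
    (X.add_mem (X.add_mem (X.smul_mem _ he) (X.smul_mem _ hf)) hwX)
    (by rw [h.q_coords _ _ hw, hl, ← map_add]; simp)
    (by simp [h.ee, h.ef, perp_symm (S.mem_perp_pair.1 hw).1])
  have h2 : w ∈ A := by
    simpa using A.sub_mem h1 (A.add_mem (A.smul_mem (-l) heA) (A.smul_mem 1 hfA))
  have : x = w + (S.B x f • e + (T.ε * S.B x e) • f) := by rw [hw']; abel
  rw [this]
  exact A.add_mem h2 (A.add_mem (A.smul_mem _ heA) (A.smul_mem _ hfA))

theorem ODec.exists_sing_notMem [Finite ι] (h : S.ODec k D) (hk : 1 ≤ k)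
    (hs : ∀ i, ∃ e ∈ D i, e ≠ 0 ∧ S.q e = 0) {g : V ≃ₗ[F] V} (hg : g ∈ S.isom) (hn : g ∉ dstab D) :
    ∃ i, ∃ x ∈ D i, S.q x = 0 ∧ ∀ j, g x ∉ D j := by
  by_contra hc
  push Not at hc
  refine hn (mem_dstab_of_le h.dim (h.inj hk) fun i => ?_)
  obtain ⟨e, he, h0, hq⟩ := hs i
  obtain ⟨j, hj⟩ := hc i e he hq
  refine ⟨j, ((h.nd i).map hg).le_of_sing ?_ ⟨e, he, rfl⟩ (by simpa using h0)
    (by rw [LinearEquiv.coe_coe, isom_q hg, hq]) hj⟩
  rintro a ha _ ⟨x, hx, rfl⟩ hq hne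
  obtain ⟨l, hl⟩ := hc i x hx (by rwa [LinearEquiv.coe_coe, isom_q hg] at hq)
  by_cases hlj : j = l
  · exact hlj ▸ hl
  · exact absurd (h.orth j l hlj a ha _ hl) hne

theorem NondegOn.witt_vec (hS : S.Nondeg) {U : Submodule F V} (hU : S.NondegOn U) {x y : V}
    (hx : x ∈ U) (hy : y ∈ U) (h0 : x ≠ 0) (h0' : y ≠ 0) (hq : S.q x = S.q y) :
    ∃ g ∈ S.isom, g ∈ fixer F (S.perp U : Set V) ∧ g x = y := by
  obtain ⟨g, hg, h1, h2⟩ := hS.witt_one (S.perp U) (hU.notMem_perp hx h0) (hU.notMem_perp hy h0')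
    (fun v hv => by rw [perp_symm (hv x hx), perp_symm (hv y hy)]) hq
  exact ⟨g, hg, h1, h2⟩

theorem ODec.exists_notMem_dstab [Finite ι] (h : S.ODec k D) (hG : S.Good) (hk : 1 ≤ k)
    (hs : ∀ i, ∃ e ∈ D i, e ≠ 0 ∧ S.q e = 0) {i j : ι} (hij : i ≠ j) :
    ∃ g ∈ S.EG, g ∉ dstab D := by
  obtain ⟨e, he, h0, hq⟩ := hs i
  obtain ⟨f, hf, hh⟩ := (h.nd i).exists_isHyp_of he h0 hq
  obtain ⟨w, hw, hw0⟩ := (Submodule.ne_bot_iff (D j)).1 (by
    intro h1; have := h.dim j; rw [h1, finrank_bot] at this; omega)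
  obtain ⟨l, hl⟩ := S.exists_rep w
  have hE : S.IsEich e w l := ⟨hq, h.orth j i hij.symm w hw e he, hl⟩
  refine ⟨_, eich_mem_EG hE, ?_⟩
  rintro ⟨σ, hσ⟩
  have h1 : σ i = i := by
    by_contra hne
    exact h0 (h.eq_zero hne (hσ i ▸ ⟨e, he, eich_self hE⟩) he)
  have h2 : eich hE f ∈ D i := by
    have := hσ i
    rw [h1] at this
    exact this ▸ ⟨f, hf, rfl⟩
  rw [eich_apply, hh.fe] at h2
  have h3 : T.ε • w ∈ D i := by
    have := (D i).sub_mem ((D i).add_mem h2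
      ((D i).smul_mem (T.ε * (S.B f w + l * T.ε)) he)) hf
    simpa using this
  exact hw0 (h.eq_zero hij ((Submodule.smul_mem_iff _ T.ε_ne).1 h3) hw)

/-- symplectic case -/
theorem ODec.sp_EG_le [Finite ι] {S : Form (spParam F) V} (h : S.ODec k D) (hS : S.Nondeg)
    (hk : 2 ≤ k) (hx : 3 ≤ k ∨ ∃ c : F, c ≠ 0 ∧ c ≠ 1) (hN : dstab D ⊓ S.EG ≤ N) (hNE : N ≤ S.EG)
    {g : V ≃ₗ[F] V} (hg : g ∈ N) (hn : g ∉ dstab D) : S.EG ≤ N := by
  have hG := good_sp hS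
  have hN' : ∀ i, ∀ k ∈ S.isom, k ∈ fixer F (S.perp (D i) : Set V) → k ∈ N := fun i k hk h1 =>
    hN ⟨h.mem_dstab hS hk h1, hS.sp_EG ▸ hk⟩
  have hX : ∀ k ∈ N, ∀ w c, S.tv w c ∈ N → S.tv (k w) c ∈ N := fun k hk w c hw => by
    rw [← S.conj_tv (EG_le_isom (hNE hk))]
    exact N.mul_mem (N.mul_mem hk hw) (N.inv_mem hk)
  have hD : ∀ i, ∀ v ∈ D i, ∀ c, S.tv v c ∈ N := fun i v hv c => hN' i _ (S.tv_mem v c)
    fun x hx => by rw [tv_apply, hx v hv]; simp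
  have hne : ∀ i, ∃ e ∈ D i, e ≠ 0 ∧ S.q e = 0 := fun i => by
    obtain ⟨w, hw, hw0⟩ := (Submodule.ne_bot_iff (D i)).1 (by
      intro h1; have := h.dim i; rw [h1, finrank_bot] at this; omega)
    exact ⟨w, hw, hw0, S.sp_q w⟩
  obtain ⟨i, x, hx', -, hgx⟩ := h.exists_sing_notMem (by omega) hne (EG_le_isom (hNE hg)) hn
  have h1 : ∀ c, S.tv (g x) c ∈ N := fun c => hX g hg x c (hD i x hx' c)
  obtain ⟨j, hj⟩ := h.exists_notMem_perp hS (a := g x) fun h0 => hgx i (h0 ▸ zero_mem _)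
  obtain ⟨a, ha, hxa⟩ := (h.nd j).exists_decomp (g x)
  have ha0 : a ≠ 0 := by rintro rfl; exact hj (by simpa using hxa)
  obtain ⟨y, hy, hy0, hya, hya'⟩ : ∃ y ∈ D j, y ≠ 0 ∧ S.B a y = 0 ∧ y + a ≠ 0 := by
    rcases hx with hx | ⟨c, hc, hc'⟩
    · obtain ⟨y, hy, hy'⟩ := exists_mem_notMem (U := D j ⊓ S.perp {a}) (H := Submodule.span F {a})
        (by
          have := finrank_le_inf_perp (S := S) (D j) a
          have := finrank_span_single_le (F := F) a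
          have := h.dim j
          omega)
      refine ⟨y, hy.1, by rintro rfl; exact hy' (zero_mem _),
        perp_symm (S.mem_perp_singleton.1 hy.2), fun h0 => hy' ?_⟩
      rw [eq_neg_of_add_eq_zero_left h0]
      exact neg_mem (Submodule.mem_span_singleton_self a)
    · refine ⟨(-c) • a, (D j).smul_mem _ ha, smul_ne_zero (neg_ne_zero.2 hc) ha0,
        by simp [sp_self], ?_⟩
      rw [show (-c) • a + a = (1 - c) • a by module]
      exact smul_ne_zero (sub_ne_zero.2 hc'.symm) ha0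
  obtain ⟨m, hm, h2, h3⟩ := (h.nd j).witt_vec hS ha (add_mem hy ha) ha0 hya' (spParam_eq _ _)
  have h4 : m (g x) = y + g x := by
    have : g x = a + (g x - a) := by abel
    rw [this, map_add, h3, h2 _ hxa]; abel
  have h5 : S.B (g x) y = 0 := by
    have := hxa y hy
    rwa [sub_left, hya, sub_zero] at this
  refine h.EG_le hG hk hN hy hy0 (S.sp_q y) (z := g x) (mem_EA_of _ h5 fun l hE => ?_) (hgx j)
    fun i hij a ha _ hn => ?_
  · rw [sp_eich_eq]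
    exact N.mul_mem (N.mul_mem (h4 ▸ hX m (hN' j m hm h2) _ _ (h1 1)) (hD j y hy _)) (h1 _)
  obtain ⟨f, hf, hh⟩ := (h.nd j).exists_isHyp_of hy hy0 (S.sp_q y)
  let A : Submodule F V :=
    { carrier := {a | a ∈ S.perp (D j) ∧ a ∈ S.EA N (S.sp_q y)}
      add_mem' := fun ha hb => ⟨add_mem ha.1 hb.1, add_mem ha.2 hb.2⟩
      zero_mem' := ⟨zero_mem _, zero_mem _⟩
      smul_mem' := by
        rintro c a ⟨ha, ha'⟩
        refine ⟨Submodule.smul_mem _ c ha, ?_⟩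
        rcases eq_or_ne c 0 with rfl | hc
        · rw [zero_smul]; exact zero_mem _
        have h5 : dil hh hc ∈ fixer F (S.perp (D j) : Set V) := fun v hv =>
          dil_fix hh hc (hv y hy) (hv f hf)
        have := EA_conj (hN' j _ (dil_mem hh hc) h5) (dil_mem hh hc) hc (dil_e hh hc) ha'
        rwa [h5 a ha] at this }
  obtain ⟨e, he, he0, hq⟩ := hne i
  exact fun v hv => ((h.nd i).inv_le_Λ (A := A) sp_Λ he he0 hq (fun x hx z hz l hE a ha =>
    ⟨stab_apply (isom_stab_perp (Form.eich_mem hE) (fixer_le_stab _ (eich_mem_fixer hE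
      (h.le_perp hij hx) (h.le_perp hij hz)))) ha.1,
    EA_conj' (h.eich_mem hS hN hE hx hz) (Form.eich_mem hE)
      (eich_fix hE (h.orth j i hij.symm y hy x hx) (h.orth j i hij.symm y hy z hz)) ha.2⟩)
    ⟨by assumption, ha⟩ hn hv).2

section Orth

variable [Finite F] {S : Form (orthParam F) V}

theorem NondegOn.le_of_class {U : Submodule F V} (hU : S.NondegOn U) (h2 : (2 : F) ≠ 0)
    (hd : 3 ≤ finrank F U) (hx : 4 ≤ finrank F U ∨ ∃ a : F, a ≠ 0 ∧ a ^ 2 ≠ 1) {A : Submodule F V}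
    {c : V} (hc : c ∈ U) (hcA : c ∈ A) (hq : S.Q c ≠ 0)
    (H : ∀ x ∈ U, S.Q x = S.Q c → S.B c x ≠ 0 → x ∈ A) (hS : S.Nondeg) : U ≤ A := by
  have hcc : S.B c c ≠ 0 := by rw [orth_self]; exact mul_ne_zero h2 hq
  have hP := hU.perp_inf hc hcc
  have hPd := finrank_inf_perp U hc hcc
  obtain ⟨s, hs, w, hw, hw0, hwq⟩ : ∃ s : F, s ≠ 0 ∧ ∃ w ∈ U ⊓ S.perp {c}, w ≠ 0 ∧
      S.Q w = (1 - s ^ 2) * S.Q c := by
    rcases hx with hx | ⟨s, hs, hs'⟩
    · obtain ⟨w, hw, h0, hq⟩ := exists_sing_of_three S (U ⊓ S.perp {c}) (by omega)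
      exact ⟨1, one_ne_zero, w, hw, h0, by simp [hq]⟩
    · obtain ⟨w, hw, hq'⟩ := hP.exists_Q_eq (by omega) ((1 - s ^ 2) * S.Q c)
      exact ⟨s, hs, w, hw, ne_zero_of_Q (by
        rw [hq']; exact mul_ne_zero (sub_ne_zero.2 hs'.symm) hq), hq'⟩
  have h1 : U ⊓ S.perp {c} ≤ Submodule.span F
      {w | w ∈ U ⊓ S.perp {c} ∧ S.Q w = (1 - s ^ 2) * S.Q c} := by
    refine hP.irr_orth (fun h3 _ => hx.resolve_left (by omega)) _
      (Submodule.span_le.2 fun w hw => hw.1) (fun h3 => hw0 ?_) fun k hk h3 a ha => ?_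
    · rw [← Submodule.mem_bot F, ← h3]
      exact Submodule.subset_span ⟨hw, hwq⟩
    · refine (Submodule.map_span_le (k : V →ₗ[F] V) _ _).2 (fun w hw => Submodule.subset_span
        (show _ ∧ _ from ⟨stab_apply (hS.stab_of_fixer_perp hk h3) hw.1, ?_⟩)) ⟨a, ha, rfl⟩
      rw [LinearEquiv.coe_coe, isom_Q hk, hw.2]
  have h3 : U ⊓ S.perp {c} ≤ A := h1.trans (Submodule.span_le.2 fun w hw => by
    have h4 := S.mem_perp_singleton.1 hw.1.2
    have := H (w + s • c) (add_mem hw.1.1 (U.smul_mem _ hc))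
      (by rw [Q_add_smul, hw.2, h4]; ring)
      (by rw [add_right, perp_symm h4, orth_smul_right, zero_add]; exact mul_ne_zero hs hcc)
    simpa using A.sub_mem this (A.smul_mem s hcA))
  intro x hx
  have := h3 (x := x - (S.B x c / S.B c c) • c) ⟨U.sub_mem hx (U.smul_mem _ hc), by
    rw [SetLike.mem_coe, mem_perp_singleton, sub_left, smul_left]; field_simp; ring⟩
  simpa using A.add_mem this (A.smul_mem (S.B x c / S.B c c) hcA)

theorem mem_EA_of_rf {y a : V} (hq : S.q y = 0) (hay : S.B a y = 0) (ha : S.Q a ≠ 0) {κ : F}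
    (hκ : κ ≠ 0) (h : S.rf (a + κ • y) * S.rf a ∈ N) : (-κ / S.Q a) • a ∈ S.EA N hq := by
  have hl : -κ / S.Q a ≠ 0 := div_ne_zero (neg_ne_zero.2 hκ) ha
  have hE := orth_isEich (S := S) (u := y) (w := (-κ / S.Q a) • a) (S.q_eq_zero_iff.1 hq)
    (by rw [smul_left, hay, mul_zero])
  refine ⟨_, hE, ?_⟩
  rw [eich_eq_rf hE (by rw [Q_smul]; exact mul_ne_zero (pow_ne_zero _ hl) ha), rf_smul _ hl,
    show (-κ / S.Q a) • a - S.Q ((-κ / S.Q a) • a) • y = (-κ / S.Q a) • (a + κ • y) by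
      rw [Q_smul, smul_add, smul_smul, sub_eq_add_neg, ← neg_smul]
      congr 2
      field_simp, rf_smul _ hl]
  exact h

theorem ODec.orth_EG_le [Finite ι] (h : S.ODec k D) (hS : S.Nondeg) (h2 : (2 : F) ≠ 0)
    (hd : 5 ≤ finrank F V) (hk : 3 ≤ k) (hx : 5 ≤ k ∨ (k = 3 ∧ ∃ a : F, a ≠ 0 ∧ a ^ 2 ≠ 1))
    (hN : dstab D ⊓ S.EG ≤ N) (hNE : N ≤ S.EG) {g : V ≃ₗ[F] V} (hg : g ∈ N) (hn : g ∉ dstab D) :
    S.EG ≤ N := by
  have hG := good_orth hS hd
  have hgi := EG_le_isom (hNE hg)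
  have hsing : ∀ i, ∃ e ∈ D i, e ≠ 0 ∧ S.q e = 0 := fun i => hG.sing _ (by rw [h.dim]; exact hk)
  by_contra hcon
  have hE0 : ∀ j, ∀ y ∈ D j, y ≠ 0 → ∀ hq : S.q y = 0, ∀ z ∈ S.EA N hq, z ∈ D j := by
    intro j y hy h0 hq z hz
    by_contra hn
    exact hcon (h.EG_le_three hG hk hN hy h0 hq hz hn)
  -- an element of small rank outside the stabiliser
  obtain ⟨x, z, l, hE, hEN, hEn⟩ : ∃ x z l, ∃ hE : S.IsEich x z l,
      eich hE ∈ N ∧ eich hE ∉ dstab D := by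
    by_contra hc
    push Not at hc
    refine hn ((dstab D).inv_mem_iff.1 (mem_dstab_of_le h.dim (h.inj (by omega)) fun i => ?_))
    obtain ⟨a, ha, ha0, -⟩ := hsing i
    obtain ⟨j, hj⟩ := h.exists_notMem_perp hS (a := g⁻¹ a) (by simpa using ha0)
    have h1 : (D j).map (g : V →ₗ[F] V) ≤ D i := by
      intro z hz
      refine hG.inv_le (A := (D i).toAddSubgroup) ((h.nd j).map hgi)
        (by rw [LinearEquiv.finrank_map_eq, h.dim]; exact hk) ?_ ha ?_ hz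
      · rintro _ ⟨x, hx, rfl⟩ _ ⟨z, hz, rfl⟩ l hE a ha
        have hE' : S.IsEich x z l := ⟨by rw [← isom_q hgi]; exact hE.sing,
          by rw [← isom_B hgi]; exact hE.perp, by rw [← isom_q hgi]; exact hE.rep⟩
        obtain ⟨σ, hσ⟩ := hc _ _ _ hE (conj_eich_mem hE' (h.eich_mem hS hN hE' hx hz) hg hgi)
        obtain ⟨v, hv, hv0⟩ := (Submodule.ne_bot_iff (D i ⊓ S.perp {d | d ∈ [g x, g z]})).1 (by
          intro h0
          have := finrank_le_inf_perp_list (S := S) [g x, g z] (D i)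
          rw [h0, finrank_bot, h.dim] at this
          simp at this
          omega)
        have h3 : σ i = i := by
          by_contra hne
          exact hv0 (h.eq_zero hne (hσ i ▸ ⟨v, hv.1,
            eich_fix hE (hv.2 _ (by simp)) (hv.2 _ (by simp))⟩) hv.1)
        have := hσ i
        rw [h3] at this
        exact this.le ⟨a, ha, rfl⟩
      · intro h3
        refine hj fun w hw => ?_
        rw [← isom_B hgi, apply_inv_apply]
        exact h3 _ ⟨w, hw, rfl⟩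
    refine ⟨j, ?_⟩
    rw [← Submodule.eq_of_le_of_finrank_le h1 (by rw [LinearEquiv.finrank_map_eq, h.dim, h.dim]),
      ← map_mul_equiv, inv_mul_cancel, map_one_equiv]
  obtain ⟨t, ht, htn, j, c, hc, hcq, htc⟩ : ∃ t ∈ N, t ∉ dstab D ∧ ∃ j, ∃ c ∈ D j, S.Q c ≠ 0 ∧
      t c ∈ D j := by
    refine ⟨_, hEN, hEn, ?_⟩
    obtain ⟨j, -⟩ := h.exists_notMem_perp hS (a := x) (by
      rintro rfl; exact hEn (by rw [eich_of_eq_zero hE rfl]; exact one_mem _))
    obtain ⟨y, hy, hy0⟩ := (Submodule.ne_bot_iff (D j ⊓ S.perp {d | d ∈ [x, z]})).1 (by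
      intro h0
      have := finrank_le_inf_perp_list (S := S) [x, z] (D j)
      rw [h0, finrank_bot, h.dim] at this
      simp at this
      omega)
    have h1 : eich hE y = y := eich_fix hE (hy.2 _ (by simp)) (hy.2 _ (by simp))
    by_cases hq : S.Q y = 0
    swap
    · exact ⟨j, y, hy.1, hq, h1.symm ▸ hy.1⟩
    have hq' := S.q_eq_zero_iff.2 hq
    obtain ⟨f, hf, hh⟩ := (h.nd j).exists_isHyp_of hy.1 hy0 hq'
    have h3 := hh.finrank_inf hy.1 hf
    obtain ⟨c, hc, hcq⟩ := (hh.nondegOn_inf (h.nd j) hy.1 hf).exists_Q_ne (by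
      intro h0; rw [h0, finrank_bot, h.dim] at h3; omega)
    exact ⟨j, c, hc.1, hcq, hE0 j y hy.1 hy0 hq' _ (EA_conj' hEN (Form.eich_mem hE) h1
      (mem_EA_of _ (S.mem_perp_pair.1 hc.2).1 fun l e => h.eich_mem hS hN e hy.1 hc.1))⟩
  have hti := EG_le_isom (hNE ht)
  -- the class of `c`
  have hR0 : ∀ i, ∀ a ∈ D i, S.Q a = S.Q c → S.rf a * S.rf c ∈ N := by
    intro i a ha hq
    refine hN ⟨(dstab D).mul_mem (h.mem_dstab hS (rf_mem a) (rf_mem_fixer (S.le_perp_perp _ ha)))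
      (h.mem_dstab hS (rf_mem c) (rf_mem_fixer (S.le_perp_perp _ hc))), ?_⟩
    change _ ∈ S.EG
    rw [← hS.om_eq_EG_of_five hd, hS.rf_mul_rf_mem_om_iff (by rwa [hq]) hcq, hq]
  have hR1 : ∀ a b, S.rf a * S.rf c ∈ N → S.rf b * S.rf c ∈ N → S.rf a * S.rf b ∈ N := by
    intro a b ha hb
    have := N.mul_mem ha (N.inv_mem hb)
    rwa [mul_inv_rev, rf_inv, rf_inv, mul_assoc, ← mul_assoc (S.rf c), rf_mul_self, one_mul] at this
  have hR2 : ∀ m ∈ N, S.rf (m c) * S.rf c ∈ N → ∀ a, S.rf a * S.rf c ∈ N →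
      S.rf (m a) * S.rf c ∈ N := by
    intro m hm hmc a ha
    have hmi := EG_le_isom (hNE hm)
    have := N.mul_mem (N.mul_mem (N.mul_mem hm ha) (N.inv_mem hm)) hmc
    rw [← conj_rf hmi a]
    rw [← conj_rf hmi c] at this
    convert this using 1
    simp only [mul_assoc, inv_mul_cancel_left]
    rw [← mul_assoc (S.rf c) (S.rf c), rf_mul_self, one_mul]
  have hR3 : ∀ i, ∀ m ∈ S.EG, m ∈ fixer F (S.perp (D i) : Set V) → ∀ a, S.rf a * S.rf c ∈ N →
      S.rf (m a) * S.rf c ∈ N := by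
    intro i m hm h1
    have h3 := h.mem_dstab hS (EG_le_isom hm) h1
    refine hR2 m (hN ⟨h3, hm⟩) ?_
    obtain ⟨σ, hσ⟩ := h3
    exact hR0 (σ j) _ (hσ j ▸ ⟨c, hc, rfl⟩) (isom_Q (EG_le_isom hm) c)
  have hR4 : ∀ a b, S.rf a * S.rf c ∈ N → S.rf b * S.rf c ∈ N →
      S.rf (S.rf b a) * S.rf c ∈ N := by
    intro a b ha hb
    rw [← conj_rf (rf_mem b), rf_inv, mul_assoc]
    exact N.mul_mem (hR1 b a hb ha) hb
  -- a vector of the class outside the summands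
  obtain ⟨a, haq, haR, han⟩ : ∃ a, S.Q a = S.Q c ∧ S.rf a * S.rf c ∈ N ∧ ∀ j, a ∉ D j := by
    by_contra hcon'
    push Not at hcon'
    refine htn (mem_dstab_of_le h.dim (h.inj (by omega)) fun i => ?_)
    have h1 : ∀ x ∈ (D i).map (t : V →ₗ[F] V), S.Q x = S.Q c → ∃ j, x ∈ D j := by
      rintro _ ⟨x, hx, rfl⟩ hq
      exact hcon' _ hq (hR2 t ht (hR0 j _ htc (isom_Q hti c)) x
        (hR0 i x hx (by rwa [LinearEquiv.coe_coe, isom_Q hti] at hq)))
    have hU := (h.nd i).map hti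
    have hUd : finrank F ((D i).map (t : V →ₗ[F] V)) = k := by
      rw [LinearEquiv.finrank_map_eq, h.dim]
    obtain ⟨c', hc', hq'⟩ := hU.exists_Q_eq (by omega) (S.Q c)
    obtain ⟨l, hl⟩ := h1 c' hc' hq'
    refine ⟨l, hU.le_of_class h2 (by omega) (hx.imp (by omega) (·.2)) hc' hl (by rwa [hq'])
      (fun x hx hq hne => ?_) hS⟩
    obtain ⟨m, hm⟩ := h1 x hx (hq.trans hq')
    by_cases hlm : l = m
    · exact hlm ▸ hm
    · exact absurd (h.orth l m hlm _ hl _ hm) hne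
  -- the final contradiction for good components
  have fin : ∀ a, S.Q a = S.Q c → S.rf a * S.rf c ∈ N → ∀ j, a ∉ D j → ∀ y ∈ D j, y ≠ 0 →
      S.Q y = 0 → S.B a y = 0 → ∀ m ∈ S.EG, m ∈ fixer F (S.perp (D j) : Set V) → ∀ κ : F, κ ≠ 0 →
      m a = a + κ • y → False := by
    intro a haq haR j han y hy h0 hq hay m hm h1 κ hκ h3
    have h4 := hE0 j y hy h0 (S.q_eq_zero_iff.2 hq) _ (mem_EA_of_rf _ hay (by rwa [haq]) hκ
      (hR1 _ _ (h3 ▸ hR3 j m hm h1 a haR) haR))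
    exact han ((Submodule.smul_mem_iff _ (div_ne_zero (neg_ne_zero.2 hκ) (by rwa [haq]))).1 h4)
  have fin' : ∀ a, S.Q a = S.Q c → S.rf a * S.rf c ∈ N → ∀ j, a ∉ D j → ∀ y ∈ D j, y ≠ 0 →
      S.Q y = 0 → S.B a y = 0 → ∀ f ∈ D j, S.B f y = 0 → S.B a f ≠ 0 → False := by
    intro a haq haR j han y hy h0 hq hay f hf h1 h3
    have hE := orth_isEich hq h1
    exact fin a haq haR j han y hy h0 hq hay _ (eich_mem_EG hE)
      (eich_mem_fixer hE (S.le_perp_perp _ hy) (S.le_perp_perp _ hf)) (-S.B a f) (neg_ne_zero.2 h3)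
      (by rw [orth_eich_of_perp hE hay, neg_smul, sub_eq_add_neg])
  have ha0 : a ≠ 0 := ne_zero_of_Q (by rwa [haq])
  obtain ⟨i, hi⟩ := h.exists_notMem_perp hS ha0
  rcases hx with hx | ⟨rfl, μ, hμ, hμ'⟩
  · rw [mem_perp] at hi
    push Not at hi
    obtain ⟨f, hf, h1⟩ := hi
    obtain ⟨y, hy, h0, hq, h3⟩ := hG.sing_perp (D i) [a, f] (by rw [h.dim]; simpa using hx)
    exact fin' a haq haR i (han i) y hy h0 (S.q_eq_zero_iff.1 hq) (perp_symm (h3 a (by simp))) f hf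
      (perp_symm (h3 f (by simp))) h1
  -- three-dimensional summands
  have good : ∀ a, S.Q a = S.Q c → S.rf a * S.rf c ∈ N → ∀ j, a ∉ D j → ∀ b ∈ D j, b ≠ 0 →
      a - b ∈ S.perp (D j) → (∃ y ∈ D j, y ≠ 0 ∧ S.Q y = 0 ∧ S.B b y = 0) → False := by
    rintro a haq haR j han b hb hb0 hab ⟨y, hy, h0, hq, hby⟩
    have h1 : ∀ v ∈ D j, S.B a v = S.B b v := fun v hv => by
      have := hab v hv
      rwa [sub_left, sub_eq_zero] at this
    by_cases hbq : S.Q b = 0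
    · obtain ⟨f, hf, hh⟩ := (h.nd j).exists_isHyp_of hb hb0 (S.q_eq_zero_iff.2 hbq)
      refine fin a haq haR j han b hb hb0 hbq (by rw [h1 b hb, hh.ee]) _
        (hS.dil_sq_mem_EG hh (by omega) hμ) (fun v hv => dil_fix hh _ (hv b hb) (hv f hf))
        (μ ^ 2 - 1) (sub_ne_zero.2 hμ') ?_
      rw [orth_dil_apply, h1 b hb, h1 f hf, hh.ee, hh.ef]
      simp
    · exact fin' a haq haR j han y hy h0 hq (by rw [h1 y hy, hby]) b hb hby
        (by rw [h1 b hb, orth_self]; exact mul_ne_zero h2 hbq)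
  obtain ⟨b, hb, hab⟩ := (h.nd i).exists_decomp a
  have hb0 : b ≠ 0 := by rintro rfl; exact hi (by simpa using hab)
  have hbq : S.Q b ≠ 0 := fun hq => good a haq haR i (han i) b hb hb0 hab
    ⟨b, hb, hb0, hq, self_of_Q hq⟩
  obtain ⟨i', hi'⟩ := h.exists_notMem_perp hS (a := a - b) (by
    intro h0; exact han i (sub_eq_zero.1 h0 ▸ hb))
  have hii : i' ≠ i := by rintro rfl; exact hi' hab
  obtain ⟨b', hb', hab'⟩ := (h.nd i').exists_decomp a
  have hb0' : b' ≠ 0 := by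
    rintro rfl
    exact hi' (Submodule.sub_mem _ (by simpa using hab') (h.le_perp hii.symm hb))
  have hbq' : S.Q b' ≠ 0 := fun hq => good a haq haR i' (han i') b' hb' hb0' hab'
    ⟨b', hb', hb0', hq, self_of_Q hq⟩
  have move : ∀ j, ∀ b ∈ D j, S.Q b ≠ 0 → ∀ u : F, ∃ m ∈ S.EG,
      m ∈ fixer F (S.perp (D j) : Set V) ∧ S.Q (b - m b) = u := by
    intro j b hb hbq u
    have hbb : S.B b b ≠ 0 := by rw [orth_self]; exact mul_ne_zero h2 hbq
    have hP := (h.nd j).perp_inf hb hbb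
    have hPd := finrank_inf_perp (D j) hb hbb
    rw [h.dim] at hPd
    obtain ⟨s, hs⟩ : ∃ s : F, 2 * (1 - s) * S.Q b = u := ⟨1 - u / (2 * S.Q b), by field_simp; ring⟩
    obtain ⟨w, hw, hwq⟩ := hP.exists_Q_eq (by omega) ((1 - s ^ 2) * S.Q b)
    have hwb := S.mem_perp_singleton.1 hw.2
    have h1 : S.Q (w + s • b) = S.Q b := by rw [Q_add_smul, hwq, hwb]; ring
    obtain ⟨m, hm, h3, h4⟩ := (h.nd j).witt_vec hS hb (add_mem hw.1 ((D j).smul_mem s hb))
      (ne_zero_of_Q hbq) (ne_zero_of_Q (by rwa [h1])) ((S.q_eq_iff S).2 h1.symm)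
    obtain ⟨m', hm', h5, h6⟩ := hG.comp _ hP (by omega) m hm
    refine ⟨_, h6, (fixer F _).mul_mem h3 fun v hv => h5 v fun w hw => hv w hw.1, ?_⟩
    rw [LinearEquiv.mul_apply, h5 b fun w hw => perp_symm (S.mem_perp_singleton.1 hw.2), h4, Q_sub,
      h1, add_right, perp_symm hwb, orth_smul_right, orth_self, ← hs]
    ring
  obtain ⟨e, he, he0, heq⟩ := hsing i
  obtain ⟨f, hf, hh⟩ := (h.nd i).exists_isHyp_of he he0 heq
  have h3 := hh.finrank_inf he hf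
  obtain ⟨w, hw, hwq⟩ := (hh.nondegOn_inf (h.nd i) he hf).exists_Q_ne (by
    intro h0; rw [h0, finrank_bot, h.dim] at h3; omega)
  obtain ⟨ν, hν, hν'⟩ : ∃ ν : F, ν ≠ 0 ∧ ν ^ 2 * S.Q w ≠ S.Q c := by
    by_cases h4 : S.Q w = S.Q c
    · exact ⟨μ, hμ, fun h5 => hμ' (mul_right_cancel₀ hcq (by rw [← h4, one_mul, h5, h4]))⟩
    · exact ⟨1, one_ne_zero, by simpa using h4⟩
  obtain ⟨m, hm, h4, h5⟩ := move i b hb hbq (ν ^ 2 * S.Q w)
  obtain ⟨m', hm', h4', h5'⟩ := move i' b' hb' hbq' (S.Q c - ν ^ 2 * S.Q w)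
  have hmb : b - m b ∈ D i :=
    sub_mem hb (stab_apply (hS.stab_of_fixer_perp (EG_le_isom hm) h4) hb)
  have hmb' : b' - m' b' ∈ D i' :=
    sub_mem hb' (stab_apply (hS.stab_of_fixer_perp (EG_le_isom hm') h4') hb')
  have h6 : m a = a - (b - m b) := by
    rw [show a = b + (a - b) by abel, map_add, h4 _ hab]; abel
  have h6' : m' a = a - (b' - m' b') := by
    rw [show a = b' + (a - b') by abel, map_add, h4' _ hab']; abel
  have h7 : m' (m a) = a - ((b - m b) + (b' - m' b')) := by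
    rw [h6, map_sub, h6', h4' _ (h.le_perp hii.symm hmb)]; abel
  have h8 : S.Q ((b - m b) + (b' - m' b')) = S.Q c := by
    rw [Q_add, h5, h5', h.orth i i' hii.symm _ hmb _ hmb']; ring
  have h9 : S.Q (m' (m a)) = S.Q c := by rw [isom_Q (EG_le_isom hm'), isom_Q (EG_le_isom hm), haq]
  have h10 := hR4 a _ haR (hR3 i' m' hm' h4' _ (hR3 i m hm h4 a haR))
  have h11 : S.rf (m' (m a)) a = (b - m b) + (b' - m' b') := by
    have := rf_map_eq (S := S) (x := a) (y := (b - m b) + (b' - m' b')) (by rw [haq, h8])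
      (by rw [← h7, h9]; exact hcq)
    rwa [← h7] at this
  rw [h11] at h10
  have h12 : S.Q (b - m b) ≠ 0 := by rw [h5]; exact mul_ne_zero (pow_ne_zero _ hν) hwq
  refine good _ h8 h10 i (fun h0 => ?_) _ hmb (ne_zero_of_Q h12)
    (by simpa using h.le_perp hii hmb') ?_
  · have : b' - m' b' = 0 := h.eq_zero hii hmb' (by simpa using sub_mem h0 hmb)
    rw [this, Q_zero] at h5'
    exact hν' (by linear_combination h5')
  · obtain ⟨r, hr, h13, h14⟩ := (h.nd i).witt_vec hS ((D i).smul_mem ν hw.1) hmb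
      (smul_ne_zero hν (ne_zero_of_Q hwq)) (ne_zero_of_Q h12)
      ((S.q_eq_iff S).2 (by rw [Q_smul, h5]))
    refine ⟨r e, stab_apply (hS.stab_of_fixer_perp hr h13) he, by simpa using he0,
      by rw [isom_Q hr, hh.Qe], ?_⟩
    rw [← h14, isom_B hr, smul_left, (S.mem_perp_pair.1 hw.2).1, mul_zero]

end Orth

end Form

open Cfsg Cfsg.Geo in
theorem isMaximalIn_dstab {F : Type*} [Field F] {κ : Type} [Fintype κ] [DecidableEq κ]
    {T : FParam F} {S : Form T (κ → F)} (hG : S.Good) {K : Subgroup (GL κ F)}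
    (hK : K = S.EG.comap (glEquiv κ F).toMonoidHom) {k t : ℕ} {D : Fin t → Submodule F (κ → F)}
    (hD : S.ODec k D) (ht : 2 ≤ t) (hk : 1 ≤ k) (hs : ∀ i, ∃ e ∈ D i, e ≠ 0 ∧ S.q e = 0)
    (h : ∀ N : Subgroup ((κ → F) ≃ₗ[F] (κ → F)), dstab D ⊓ S.EG ≤ N → N ≤ S.EG →
      ∀ g ∈ N, g ∉ dstab D → S.EG ≤ N) : IsMaximalIn K (decompositionStabilizer D ⊓ K) :=
  isMaximalIn_gl hK (· ∈ dstab D) mem_decompositionStabilizer_iff
    (hD.exists_notMem_dstab hG hk hs (i := ⟨0, by omega⟩) (j := ⟨1, by omega⟩) (by simp))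
    fun N h1 => h N fun k hk => h1 k hk.2 hk.1

end CfsgH5
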