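import Cfsg.Agent.H5.Mx3

/-!
Group theoretic lemmas for the maximality of subfield subgroups.
-/

set_option autoImplicit false

namespace CfsgH5

open Module

theorem card_modEq_fixed {G α : Type*} [Group G] [MulAction G α] [Finite α] {Ω : Set α} {g : G}
    (hΩ : ∀ x ∈ Ω, g • x ∈ Ω) {p : ℕ} (hp : p.Prime) (hg : g ^ p = 1) :
    Nat.card Ω ≡ Nat.card {x // x ∈ Ω ∧ g • x = x} [MOD p] := by
  classical
  haveI := Fact.mk hp
  haveI := Fintype.ofFinite Ω
  let f : Function.End Ω := fun x => ⟨g • x, hΩ _ x.2⟩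
  have h1 : ∀ n (x : Ω), ((f ^ n) x : α) = g ^ n • (x : α) := fun n => by
    induction n with
    | zero => intro x; simp; rfl
    | succ n ih => intro x; rw [pow_succ, pow_succ, mul_smul]; exact ih (f x)
  have h2 := Equiv.Perm.card_fixedPoints_modEq (f := f) (p := p) (n := 1) (by
    funext x; exact Subtype.ext (by rw [pow_one, h1, hg, one_smul]; rfl))
  rw [← Nat.card_eq_fintype_card, ← Nat.card_eq_fintype_card] at h2
  exact h2.trans (by rw [Nat.card_congr (show f.fixedPoints ≃ {x // x ∈ Ω ∧ g • x = x} from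
    ⟨fun x => ⟨x.1.1, x.1.2, congrArg Subtype.val x.2⟩, fun x => ⟨⟨x.1, x.2.1⟩, Subtype.ext x.2.2⟩,
      fun _ => rfl, fun _ => rfl⟩)])

open Matrix OnePoint in
/-- two non-commuting transvections of `SL₂` in odd characteristic generate a group containing `-1` -/
theorem neg_one_mem_closure {F : Type*} [Field F] [Finite F] (h2 : (2 : F) ≠ 0) {δ : F} (hδ : δ ≠ 0)
    {a b : GL (Fin 2) F} (ha : a.1 = !![1, 1; 0, 1]) (hb : b.1 = !![1, 0; δ, 1]) :
    -1 ∈ Subgroup.closure {a, b} := by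
  classical
  haveI := Fintype.ofFinite F
  obtain ⟨p, _, k, hp, -⟩ := FiniteField.card' F
  have hp0 : (p : F) = 0 := CharP.cast_eq_zero F p
  set X := Subgroup.closure {a, b} with hX
  have haX : a ∈ X := Subgroup.subset_closure (by simp)
  have hbX : b ∈ X := Subgroup.subset_closure (by simp)
  let d : GL (Fin 2) F := GeneralLinearGroup.mkOfDetNeZero !![-1, 0; 0, 1] (by simp)
  have hd : d.1 = !![-1, 0; 0, 1] := rfl
  have hdd : d ^ 2 = 1 := Units.ext (by rw [sq, Units.val_mul, hd]; simp [one_fin_two])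
  have hdi : d⁻¹ = d := inv_eq_of_mul_eq_one_right (by rw [← sq, hdd])
  have hpa : a ^ p = 1 := Units.ext (by
    have : ∀ n : ℕ, a.1 ^ n = !![1, (n : F); 0, 1] := fun n => by
      induction n with
      | zero => simp [one_fin_two]
      | succ n ih => rw [pow_succ, ih, ha]; simp [add_comm]
    rw [Units.val_pow_eq_pow_val, this, hp0]; simp [one_fin_two])
  have hpb : b ^ p = 1 := Units.ext (by
    have : ∀ n : ℕ, b.1 ^ n = !![1, 0; n * δ, 1] := fun n => by
      induction n with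
      | zero => simp [one_fin_two]
      | succ n ih => rw [pow_succ, ih, hb]; simp [add_mul]
    rw [Units.val_pow_eq_pow_val, this, hp0]; simp [one_fin_two])
  have hda : a⁻¹ = d * a * d := inv_eq_of_mul_eq_one_right (Units.ext (by simp [ha, hd, one_fin_two]))
  have hdb : b⁻¹ = d * b * d := inv_eq_of_mul_eq_one_right (Units.ext (by simp [hb, hd, one_fin_two]))
  have hn : ∀ x ∈ X, d * x * d⁻¹ ∈ X := fun x hx => conj_mem_closure (s := {a, b}) (fun y hy => by
    rw [hdi]
    rcases hy with h | h <;> rw [h]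
    exacts [hda ▸ inv_mem haX, hdb ▸ inv_mem hbX]) hx
  let Ω := MulAction.orbit X (∞ : OnePoint F)
  have hΩ : ∀ g ∈ X, ∀ x ∈ Ω, g • x ∈ Ω := by
    rintro g hg _ ⟨y, rfl⟩
    exact ⟨⟨g, hg⟩ * y, mul_smul _ _ _⟩
  have h0 : ∞ ∈ Ω := MulAction.mem_orbit_self _
  have e1 : ∀ x : OnePoint F, a • x = x ↔ x = ∞ := fun x => by
    cases x <;> simp [smul_infty_eq_ite, smul_some_eq_ite, ha]
  have e2 : ∀ x : OnePoint F, b • x = x → x = (0 : F) := fun x => by
    cases x with
    | infty => simp [smul_infty_eq_ite, hb, hδ]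
    | coe x =>
      rw [smul_some_eq_ite, hb]
      split_ifs with h
      · simp
      · simp only [of_apply, cons_val', cons_val_zero, cons_val_one, cons_val_fin_one, OnePoint.coe_eq_coe] at h ⊢
        rw [div_eq_iff h]
        exact fun e => pow_eq_zero_iff two_ne_zero |>.1 (mul_left_cancel₀ hδ (by linear_combination -e))
  have e3 : ∀ x : OnePoint F, d • x = x ↔ x = ∞ ∨ x = (0 : F) := fun x => by
    cases x with
    | infty => simp [smul_infty_eq_ite, hd]
    | coe x => simpa [smul_some_eq_ite, hd] using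
        ⟨fun e => mul_left_cancel₀ h2 (by linear_combination -e), fun e => by simp [e]⟩
  have h1 := card_modEq_fixed (hΩ a haX) hp hpa
  rw [Nat.card_congr (Equiv.subtypeEquivRight (p := fun x => x ∈ Ω ∧ a • x = x) (q := (· = ∞)) fun x => by
    rw [e1]; exact ⟨And.right, fun e => ⟨e ▸ h0, e⟩⟩), Nat.card_unique (α := {x // x = ∞})] at h1
  have h3 : ((0 : F) : OnePoint F) ∈ Ω := by_contra fun h => by
    have h4 := card_modEq_fixed (hΩ b hbX) hp hpb
    haveI : IsEmpty {x // x ∈ Ω ∧ b • x = x} := ⟨fun x => h (e2 _ x.2.2 ▸ x.2.1)⟩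
    rw [Nat.card_of_isEmpty (α := {x // x ∈ Ω ∧ b • x = x})] at h4
    exact hp.one_lt.ne' (Nat.dvd_one.1 (Nat.modEq_zero_iff_dvd.1 (h1.symm.trans h4)))
  have h4 := card_modEq_fixed (g := d) (Ω := Ω) (by
    rintro _ ⟨y, rfl⟩
    exact ⟨⟨_, hn _ y.2⟩, by
      change (d * y * d⁻¹) • (∞ : OnePoint F) = d • y.1 • (∞ : OnePoint F)
      rw [mul_smul, mul_smul, hdi, (e3 _).2 (.inl rfl)]⟩) Nat.prime_two hdd
  rw [Nat.card_congr (Equiv.subtypeEquivRight (p := fun x => x ∈ Ω ∧ d • x = x)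
    (q := (· ∈ ({∞, ((0 : F) : OnePoint F)} : Set _))) fun x => by
    rw [e3]; exact ⟨And.right, fun e => ⟨by rcases e with rfl | rfl <;> assumption, e⟩⟩)] at h4
  have h5 : 2 ∣ Nat.card X := ((Nat.modEq_zero_iff_dvd.1 (h4.trans (by
      erw [Nat.card_coe_set_eq, Set.ncard_pair (by simp)]; decide))).trans
    ⟨_, (Nat.card_congr (MulAction.orbitProdStabilizerEquivGroup X (∞ : OnePoint F))).symm.trans (Nat.card_prod _ _)⟩)
  haveI := Fact.mk Nat.prime_two
  obtain ⟨⟨z, hz⟩, h6⟩ := exists_prime_orderOf_dvd_card' 2 h5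
  have h7 : z.1.det = 1 := by
    have : X ≤ (GeneralLinearGroup.det : GL (Fin 2) F →* Fˣ).ker := (Subgroup.closure_le _).2 (by
      rintro _ (rfl | rfl) <;> exact Units.ext (by simp [ha, hb]))
    simpa using congrArg Units.val (this hz)
  rw [Subgroup.orderOf_mk, orderOf_eq_prime_iff] at h6
  have h8 : z.1 * z.1 = 1 := by rw [← Units.val_mul, ← sq, h6.1, Units.val_one]
  have h9 : z.1.adjugate = z.1 := by
    rw [← mul_one z.1.adjugate, ← h8, ← mul_assoc, adjugate_mul, h7, one_smul, one_mul]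
  rw [adjugate_fin_two] at h9
  have a1 := congrFun₂ h9 0 0
  have a2 := congrFun₂ h9 0 1
  have a3 := congrFun₂ h9 1 0
  simp only [of_apply, cons_val', cons_val_zero, cons_val_one, cons_val_fin_one] at a1 a2 a3
  have b2 : z.1 0 1 = 0 := mul_left_cancel₀ h2 (by linear_combination -a2)
  have b3 : z.1 1 0 = 0 := mul_left_cancel₀ h2 (by linear_combination -a3)
  rw [det_fin_two, a1, b2, zero_mul, sub_zero, mul_self_eq_one_iff] at h7
  rcases h7 with h | h
  · exact absurd (Units.ext (by rw [eta_fin_two z.1, a1, b2, b3, h]; simp [one_fin_two])) h6.2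
  · exact (show z = -1 from Units.ext (by
      rw [eta_fin_two z.1, a1, b2, b3, h]; ext i j; fin_cases i <;> fin_cases j <;> simp)) ▸ hz

open Matrix in
theorem exists_neg_of_pair {F V : Type*} [Field F] [Finite F] [AddCommGroup V] [Module F V]
    (h2 : (2 : F) ≠ 0) {H : Subgroup (V ≃ₗ[F] V)} {a b : V ≃ₗ[F] V} (ha : a ∈ H) (hb : b ∈ H)
    {A B : V →ₗ[F] V} (hA : ∀ v, a v = v + A v) (hB : ∀ v, b v = v + B v) (hAA : ∀ v, A (A v) = 0)
    (hBB : ∀ v, B (B v) = 0) {δ : F} (hδ : δ ≠ 0) (h1 : ∀ v, A (B (A v)) = δ • A v)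
    (h3 : ∀ v, B (A (B v)) = δ • B v) :
    ∃ z ∈ H, ∀ v, z v = v - (2 / δ) • (A (B v) + B (A v)) := by
  let Φ : Matrix (Fin 2) (Fin 2) F → V → V := fun M v => v + ((M 0 0 - 1) / δ) • A (B v) + M 0 1 • A v +
    (M 1 0 / δ) • B v + ((M 1 1 - 1) / δ) • B (A v)
  have hΦ : ∀ M N v, Φ M (Φ N v) = Φ (M * N) v := fun M N v => by
    simp only [Φ, map_add, map_smul, hAA, hBB, h1, h3, map_zero, mul_apply, Fin.sum_univ_two]
    match_scalars <;> field_simp <;> ring
  have h4 : ∀ v, Φ 1 v = v := fun v => by simp [Φ]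
  have key : ∀ M ∈ Subgroup.closure {GeneralLinearGroup.mkOfDetNeZero !![1, 1; 0, (1 : F)] (by simp),
      GeneralLinearGroup.mkOfDetNeZero !![1, 0; δ, (1 : F)] (by simp)}, ∃ h ∈ H, ∀ v, h v = Φ M.1 v := by
    intro M hM
    induction hM using Subgroup.closure_induction with
    | mem x hx =>
      rcases hx with rfl | rfl
      · exact ⟨a, ha, fun v => by simp [Φ, hA]⟩
      · exact ⟨b, hb, fun v => by simp [Φ, hB, hδ]⟩
    | one => exact ⟨1, one_mem _, fun v => (h4 v).symm⟩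
    | mul x y _ _ hx hy =>
      obtain ⟨g, h5, h6⟩ := hx
      obtain ⟨h, h7, h8⟩ := hy
      exact ⟨g * h, mul_mem h5 h7, fun v => by rw [Units.val_mul, ← hΦ, ← h8, ← h6]; rfl⟩
    | inv x _ hx =>
      obtain ⟨g, h5, h6⟩ := hx
      exact ⟨g⁻¹, inv_mem h5, fun v => g.injective (by
        rw [h6 (Φ _ v), hΦ, Units.mul_inv, h4]; exact g.apply_symm_apply v)⟩
  obtain ⟨z, h5, h6⟩ := key _ (neg_one_mem_closure h2 hδ rfl rfl)
  exact ⟨z, h5, fun v => by
    rw [h6]; simp only [Φ, Units.val_neg, Units.val_one, Matrix.neg_apply, one_apply_eq,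
      one_apply_ne (zero_ne_one' (Fin 2)), one_apply_ne (zero_ne_one' (Fin 2)).symm]
    match_scalars <;> ring⟩

/-- two non-conjugate involutions commute with a common involution -/
theorem exists_central_invol {G : Type*} [Group G] [Finite G] {s t : G} (hs : s * s = 1) (ht : t * t = 1)
    (h : ¬ IsConj s t) : ∃ k : ℕ, (s * t) ^ k ≠ 1 ∧ (s * t) ^ k * (s * t) ^ k = 1 ∧
      (s * t) ^ k * s = s * (s * t) ^ k ∧ (s * t) ^ k * t = t * (s * t) ^ k := by
  have h1 : ∀ k : ℕ, (s * t) ^ k * s * (s * t) ^ k = s := fun k => by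
    induction k with
    | zero => simp
    | succ k ih =>
      nth_rewrite 2 [pow_succ]
      rw [pow_succ']
      calc _ = s * t * ((s * t) ^ k * s * (s * t) ^ k) * (s * t) := by simp only [mul_assoc]
        _ = s * t * (s * s) * t := by rw [ih]; simp only [mul_assoc]
        _ = s := by rw [hs, mul_one, mul_assoc, ht, mul_one]
  have h2 : ∀ y : G, y * y = 1 → y * s * y = s → y * s = s * y := fun y h3 h4 => by
    calc y * s = y * (y * s * y) := by rw [h4]
      _ = s * y := by rw [← mul_assoc, ← mul_assoc, h3, one_mul]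
  obtain ⟨k, hk | hk⟩ := Nat.even_or_odd' (orderOf (s * t))
  · have h3 : (s * t) ^ k * (s * t) ^ k = 1 := by rw [← pow_add, ← two_mul, ← hk, pow_orderOf_eq_one]
    have h4 := orderOf_pos (s * t)
    have h5 := h2 _ h3 (h1 k)
    refine ⟨k, pow_ne_one_of_lt_orderOf (by omega) (by omega), h3, h5, mul_left_cancel (a := s) ?_⟩
    rw [← mul_assoc, ← h5, mul_assoc, ← mul_assoc s t, ← pow_succ, ← pow_succ']
  · refine absurd (isConj_iff.2 ⟨(s * t) ^ k, mul_inv_eq_iff_eq_mul.2 (mul_right_cancel (b := (s * t) ^ k * (s * t)) ?_)⟩) h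
    have h3 : (s * t) ^ k * (s * t) ^ k * (s * t) = 1 := by
      rw [← pow_add, ← two_mul, ← pow_succ, ← hk, pow_orderOf_eq_one]
    rw [← mul_assoc, h1, mul_assoc t, ← mul_assoc _ _ (s * t), h3, ← mul_assoc, hs, one_mul, mul_one]

end CfsgH5
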