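import Cfsg.Agent.H5.Sf1

/-!
Overgroups of subfield subgroups of classical groups: the engine.
-/

set_option autoImplicit false

namespace CfsgH5

open Module

namespace Form

section E0

variable {F : Type*} [Field F] {T : FParam F} {V : Type*} [AddCommGroup V] [Module F V] {S : Form T V}
  {H : Subgroup (V ≃ₗ[F] V)}

/-- the Eichler transformation of a totally singular pair lies in `H` -/
def E0 (S : Form T V) (H : Subgroup (V ≃ₗ[F] V)) (u w : V) : Prop := ∃ h : S.IsEich u w 0, eich h ∈ H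

theorem isEich0 {u w : V} (hu : S.q u = 0) (hw : S.q w = 0) (h : S.B w u = 0) (c : F) :
    S.IsEich u (c • w) 0 := ⟨hu, by simp [h], by rw [S.q_smul_zero c hw, map_zero]⟩

theorem E0.add {u w w' : V} (h : S.E0 H u w) (h' : S.E0 H u w') (h0 : S.B w' w = 0) : S.E0 H u (w + w') := by
  obtain ⟨h, h1⟩ := h
  obtain ⟨h', h2⟩ := h'
  have := mul_mem h1 h2
  rw [eich_mul] at this
  exact ⟨by simpa [h0] using h.add h', by convert this using 2; simp [h0]⟩

theorem E0.neg {u w : V} (h : S.E0 H u w) : S.E0 H u (-w) := by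
  obtain ⟨h, h1⟩ := h
  have := inv_mem h1
  rw [eich_inv] at this
  exact ⟨by simpa using h.neg, by convert this using 2; simp⟩

theorem E0.zero {u : V} (hu : S.q u = 0) : S.E0 H u 0 := ⟨.zero hu, by rw [eich_zero]; exact one_mem _⟩

theorem E0.swap {u w : V} (h : S.E0 H u w) : S.E0 H w (-T.ε • u) := by
  obtain ⟨h, h1⟩ := h
  refine ⟨isEich0 (by simpa using h.rep) h.sing h.uw _, ?_⟩
  convert h1 using 1
  ext x
  simp only [eich_apply, smul_right, map_neg, FParam.σε]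
  match_scalars <;> [ring; ring; linear_combination S.B x u * T.εε]

theorem E0.smul {u w : V} {c : F} (hc : c ≠ 0) (h : S.E0 H (c • u) w) : S.E0 H u (T.σ c • w) := by
  obtain ⟨h, h1⟩ := h
  rw [eich_smul c h hc] at h1
  exact ⟨by simpa using h.smul c hc, by convert h1 using 2; simp⟩

theorem E0.conj {u w : V} (h : S.E0 H u w) {k : V ≃ₗ[F] V} (hk : k ∈ H) (hi : k ∈ S.isom) :
    S.E0 H (k u) (k w) := ⟨h.1.map hi, conj_eich_mem h.1 h.2 hk hi⟩

theorem E0.EA {u w : V} (h : S.E0 H u w) (hu : S.q u = 0) : w ∈ S.EA H hu := mem_EA.2 ⟨0, h⟩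

theorem E0.of_move {u y : V} {hu : S.q u = 0} (hy : y ∈ S.EA H hu) {k : V ≃ₗ[F] V} (hk : k ∈ H)
    (hi : k ∈ S.isom) (hku : k u = u) (h0 : S.B y (k y - y) = 0) : S.E0 H u (k y - y) := by
  obtain ⟨l, h, h1⟩ := mem_EA.1 hy
  have h2 := conj_eich_mem h h1 hk hi
  have h3 : S.IsEich u (k y) l := hku ▸ h.map hi
  have h4 : eich h3 ∈ H := by convert h2 using 2; exact hku.symm
  have := mul_mem h4 (inv_mem h1)
  rw [eich_inv, eich_mul] at this
  have h5 : l + T.ε * T.σ l + S.B (-y) (k y) = 0 := by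
    rw [← h.ww, neg_left]; rw [sub_right] at h0; linear_combination -h0
  exact ⟨by simpa only [h5, sub_eq_add_neg] using h3.add h.neg, by
    convert this using 2; exacts [sub_eq_add_neg _ _, h5.symm]⟩

theorem EA_map {u u' w : V} {hu : S.q u = 0} (hu' : S.q u' = 0) {k : V ≃ₗ[F] V} (hk : k ∈ H)
    (hi : k ∈ S.isom) {c : F} (hc : c ≠ 0) (hku : k u = c • u') (hw : w ∈ S.EA H hu) :
    T.σ c • k w ∈ S.EA H hu' := by
  obtain ⟨l, h, h1⟩ := mem_EA.1 hw
  have h3 : S.IsEich (c • u') (k w) l := hku ▸ h.map hi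
  have h4 : eich h3 ∈ H := by convert conj_eich_mem h h1 hk hi using 2; exact hku.symm
  exact mem_EA.2 ⟨_, _, eich_smul c h3 hc ▸ h4⟩

end E0

variable {K F : Type*} [Field K] [Field F] {φ : K →+* F} {T0 : FParam K} {T : FParam F}
  {V0 V : Type*} [AddCommGroup V0] [Module K V0] [AddCommGroup V] [Module F V]
  {S0 : Form T0 V0} {S : Form T V} {j : V0 →ₛₗ[φ] V} {ζ : F} {H : Subgroup (V ≃ₗ[F] V)}

/-- a rational structure -/
structure RS (S0 : Form T0 V0) (S : Form T V) (j : V0 →ₛₗ[φ] V) (ζ : F) : Prop where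
  nd0 : S0.Nondeg
  nd : S.Nondeg
  sing : ∀ U : Submodule K V0, 3 ≤ finrank K U → ∃ x ∈ U, x ≠ 0 ∧ S0.q x = 0
  ne : ζ ≠ 0
  B : ∀ u v, S.B (j u) (j v) = ζ⁻¹ * φ (S0.B u v)
  σ : ∀ c, T.σ (φ c) = φ (T0.σ c)
  q : ∀ v, S.q (j v) = 0 ↔ S0.q v = 0
  span : Submodule.span F (Set.range j) = ⊤
  dim : 9 ≤ finrank K V0

/-- normalises the rational structure up to the scalar `c` -/
def Rat (j : V0 →ₛₗ[φ] V) (c : F) (g : V ≃ₗ[F] V) : Prop := ∀ a, ∃ a', g (j a) = c • j a'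

namespace RS

variable (h : RS S0 S j ζ)
include h

theorem fd : FiniteDimensional K V0 := Module.finite_of_finrank_pos (by have := h.dim; omega)

theorem ind {U : Submodule F V} (hU : ∀ a, j a ∈ U) (v : V) : v ∈ U :=
  (Submodule.span_le.2 (by rintro _ ⟨a, rfl⟩; exact hU a) : _ ≤ U) (h.span.ge trivial)

theorem exists_ne {x : V} (hx : x ≠ 0) : ∃ a, S.B (j a) x ≠ 0 := by
  by_contra! h1
  exact hx (h.nd x fun y => h.ind (U := LinearMap.ker (S.lin x)) h1 y)

theorem ne_zero {v : V0} (hv : v ≠ 0) : j v ≠ 0 := fun e => hv (h.nd0 v fun y => by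
  simpa [e, h.ne] using (h.B y v).symm)

theorem inj {u v : V0} (e : j u = j v) : u = v :=
  sub_eq_zero.1 (by_contra fun h1 => h.ne_zero h1 (by rw [map_sub, e, sub_self]))

theorem mem_range {u v : V0} (hu : u ≠ 0) {c : F} (e : c • j u = j v) : ∃ d, φ d = c := by
  obtain ⟨y, hy⟩ := h.nd0.exists_ne hu
  have := congrArg (S.B · (j y)) e
  simp only [smul_left, h.B] at this
  refine ⟨S0.B v y / S0.B u y, ?_⟩
  rw [map_div₀, div_eq_iff ((map_ne_zero φ).2 (ne_symm hy))]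
  exact mul_left_cancel₀ (inv_ne_zero h.ne) (by linear_combination -this)

theorem hyp (x y z : V0) : ∃ b b', S0.IsHyp b b' ∧ (S0.B b x = 0 ∧ S0.B b y = 0 ∧ S0.B b z = 0) ∧
    S0.B b' x = 0 ∧ S0.B b' y = 0 ∧ S0.B b' z = 0 := by
  classical
  haveI := h.fd
  set W := Submodule.span K {x, y, z}
  have h1 : finrank K W ≤ 3 := (finrank_span_le_card _).trans (by
    simpa using Finset.card_le_three (a := x) (b := y) (c := z))
  obtain ⟨C, hC⟩ := W.exists_isCompl
  have h2 := Submodule.finrank_add_eq_of_isCompl hC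
  have h3 := h.nd0.finrank_perp W
  have h4 := Submodule.finrank_sup_add_finrank_inf_eq C (S0.perp W)
  have h5 := (C ⊔ S0.perp W).finrank_le
  have h6 := h.dim
  obtain ⟨b, ⟨h7, h8⟩, h9, h10⟩ := h.sing (C ⊓ S0.perp W) (by omega)
  obtain ⟨f, a1, a2, a3⟩ := h.nd0.exists_hyp W h10 (fun e => h9 (Submodule.disjoint_def.1 hC.disjoint b e h7))
    (mem_perp'.1 h8)
  have hs : ∀ w ∈ ({x, y, z} : Set V0), w ∈ W := fun w h => Submodule.subset_span h
  exact ⟨b, f, ⟨h10, a1, a2⟩, ⟨h8 _ (hs _ (by simp)), h8 _ (hs _ (by simp)), h8 _ (hs _ (by simp))⟩,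
    perp_symm (a3 _ (hs _ (by simp))), perp_symm (a3 _ (hs _ (by simp))), perp_symm (a3 _ (hs _ (by simp)))⟩

theorem εσζ : T.ε * T.σ ζ = φ T0.ε * ζ := by
  obtain ⟨b, b', h1, -⟩ := h.hyp 0 0 0
  have := S.herm (j b) (j b')
  rw [h.B, h.B, h1.ef, h1.fe, map_one, mul_one, map_inv₀] at this
  have h2 := T.σ_ne h.ne
  have h3 := congrArg φ T0.εε
  have h4 := h.ne
  field_simp at this
  rw [map_mul, map_one] at h3
  linear_combination (T.ε * φ T0.ε) * this - T.ε * T.σ ζ * h3 + ζ * φ T0.ε * T.εε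

theorem exists_ε : ∃ e, φ e = T.ε := by
  rcases T.hε with e | e; exacts [⟨1, by simp [e]⟩, ⟨-1, by simp [e]⟩]

theorem σ_range {a : F} (ha : ∃ d, φ d = a) : ∃ d, φ d = T.σ a := by
  obtain ⟨d, rfl⟩ := ha; exact ⟨_, (h.σ d).symm⟩

theorem isEich {u w : V0} (hu : S0.q u = 0) (hw : S0.q w = 0) (h0 : S0.B w u = 0) (c : F) :
    S.IsEich (j u) (c • j w) 0 := isEich0 ((h.q u).2 hu) ((h.q w).2 hw) (by simp [h.B, h0]) c

theorem eich_rat {u w : V0} (hE : S.IsEich (j u) (ζ • j w) 0) (a : V0) :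
    eich hE (j a) = j (a + S0.B a u • w - (T0.ε * S0.B a w) • u) := by
  have := h.ne
  simp only [eich_apply, map_sub, map_add, map_smulₛₗ, smul_right, h.B, zero_mul, add_zero, ← mul_assoc,
    h.εσζ, map_mul]
  match_scalars <;> field_simp

theorem sing_span {e : V0} (he : S0.q e = 0) (h0 : e ≠ 0) {U : Submodule K V0}
    (hU : ∀ c, S0.q c = 0 → S0.B c e = 0 → c ∈ U) {v : V0} (hv : S0.B v e = 0) : v ∈ U := by
  haveI := h.fd
  by_contra hn
  obtain ⟨y, h1, h2⟩ := h.nd0.exists_sep U hn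
  obtain ⟨f, hf⟩ := h.nd0.exists_hyp' he h0
  obtain ⟨b, b', h3, ⟨h4, h5, -⟩, -⟩ := h.hyp e f f
  by_cases h6 : y ∈ S0.perp (S0.perp {e, f})
  · rw [← S0.perp_span {e, f}, h.nd0.perp_perp] at h6
    obtain ⟨α, β, rfl⟩ := Submodule.mem_span_pair.1 h6
    have h7 := h1 e (hU e he hf.ee)
    simp only [add_right, smul_right, hf.ee, hf.ef, mul_zero, zero_add, mul_one, map_eq_zero] at h7
    simp [h7, hv] at h2
  · obtain ⟨x, h7, h8, h9⟩ := (h.nd0.nondegOn_perp_hyp hf).exists_sing_ne (S0.mem_perp_pair.2 ⟨h4, h5⟩)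
      h3.ne_left h3.qe h6
    exact h9 (perp_symm (h1 x (hU x h8 (S0.mem_perp_pair.1 h7).1)))

theorem all_of_perp {e f : V0} (hf : S0.IsHyp e f) {U : Submodule K V0}
    (hU : ∀ c, S0.q c = 0 → S0.B c e = 0 → c ∈ U) (h1 : f ∈ U) (v : V0) : v ∈ U := by
  have := U.add_mem (h.sing_span hf.qe hf.ne_left hU (v := v - (T0.ε * S0.B v e) • f) (by
    rw [sub_left, smul_left, hf.fe]; linear_combination -S0.B v e * T0.εε)) (U.smul_mem (T0.ε * S0.B v e) h1)
  simpa using this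

theorem finrank_le {U : Submodule K V0} {W : Submodule F V} [FiniteDimensional F W]
    (hU : ∀ a ∈ U, j a ∈ W) : finrank K U ≤ finrank F W := by
  classical
  haveI := h.fd
  let b := finBasis K U
  obtain ⟨g, hg⟩ := h.nd0.exists_dual_fam (b.linearIndependent.map' U.subtype U.ker_subtype)
  have : LinearIndependent F fun i => (⟨j (b i), hU _ (b i).2⟩ : W) := by
    refine Fintype.linearIndependent_iff.2 fun c hc i => ?_
    have := congrArg (fun x : W => S.B x (j (g i))) hc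
    simp only [Function.comp_apply, Submodule.subtype_apply] at hg
    simpa [sum_left, h.B, hg, h.ne, apply_ite φ] using this
  simpa using this.fintype_card_le_finrank

theorem exists_lin {A : V →ₗ[F] V} (hA : ∀ a, ∃ a', A (j a) = j a') :
    ∃ A0 : V0 →ₗ[K] V0, ∀ a, A (j a) = j (A0 a) := by
  choose f hf using hA
  exact ⟨⟨⟨f, fun a b => h.inj (by simp [← hf])⟩, fun c a => h.inj (by simp [← hf, map_smulₛₗ])⟩, hf⟩

variable [FiniteDimensional F V]

theorem dual_aux {e : V0} (he : S0.q e = 0) (h0 : e ≠ 0) (P : AddSubgroup F)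
    (hP : ∀ c, ∀ a ∈ P, φ c * a ∈ P) {x : V} (hx : ∀ c, S0.q c = 0 → S0.B c e = 0 → S.B (j c) x ∈ P) :
    ∃ μ : F, ∀ c, S.B (j c) (x - μ • j e) ∈ P := by
  haveI := h.fd
  obtain ⟨f, hf⟩ := h.nd0.exists_hyp' he h0
  have h1 : S.B (j f) (j e) ≠ 0 := by simp [h.B, hf.fe, h.ne, T0.ε_ne]
  refine ⟨T.σ (S.B (j f) x / S.B (j f) (j e)), h.all_of_perp hf (U := ⟨⟨⟨{c | S.B (j c) (x - _ • j e) ∈ P},
    fun a b => ?_⟩, ?_⟩, fun c a b => ?_⟩) (fun c h2 h3 => ?_) ?_⟩
  · simpa only [Set.mem_ofPred_eq, map_add, add_left] using P.add_mem a b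
  · simp
  · simpa only [Set.mem_ofPred_eq, map_smulₛₗ, smul_left] using hP c _ b
  · simpa [h.B, h3] using hx c h2 h3
  · simp [h1]

theorem exists_of_dual {x : V} (hx : ∀ c, ∃ d, φ d = ζ * S.B (j c) x) : ∃ v, x = j v := by
  haveI := h.fd
  choose ψ hψ using hx
  obtain ⟨w, hw⟩ := h.nd0.exists_dual ⟨⟨ψ, fun a b => φ.injective (by simp [hψ, mul_add])⟩,
    fun c a => φ.injective (by simp [hψ, map_smulₛₗ]; ring)⟩
  refine ⟨w, sub_eq_zero.1 (by_contra fun e => ?_)⟩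
  obtain ⟨a, ha⟩ := h.exists_ne e
  have h1 : ψ a = _ := hw a
  exact ha (by rw [sub_right, h.B, ← h1, hψ, inv_mul_cancel_left₀ h.ne, sub_self])

end RS

/-- `H` is a group of isometries containing the rational root elements -/
structure Ov (S0 : Form T0 V0) (S : Form T V) (j : V0 →ₛₗ[φ] V) (ζ : F) (H : Subgroup (V ≃ₗ[F] V)) : Prop
    extends RS S0 S j ζ where
  le : H ≤ S.isom
  mem : ∀ u w, S0.q u = 0 → S0.q w = 0 → S0.B w u = 0 → S.E0 H (j u) (ζ • j w)

/-- the level at a point -/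
def Lv (S0 : Form T0 V0) (S : Form T V) (j : V0 →ₛₗ[φ] V) (ζ : F) (H : Subgroup (V ≃ₗ[F] V)) (u : V0)
    (α : F) : Prop := ∀ c, S0.q c = 0 → S0.B c u = 0 → S.E0 H (j u) ((α * ζ) • j c)

namespace Ov

variable (h : Ov S0 S j ζ H)
include h

theorem move {u a c : V0} {hu : S.q (j u) = 0} {x : V} (hx : x ∈ S.EA H hu) (ha : S0.q a = 0)
    (hc : S0.q c = 0) (h1 : S0.B a u = 0) (h2 : S0.B c u = 0) (h3 : S0.B c a = 0) :
    S.E0 H (j u) ((S.B x (j a) * ζ) • j c) := by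
  obtain ⟨b, b', h4, ⟨b1, b2, b3⟩, c1, c2, c3⟩ := h.hyp u a c
  obtain ⟨e, h5⟩ := h.mem a b ha h4.qe b2
  obtain ⟨e', h6⟩ := h.mem b' c h4.qf hc (perp_symm c3)
  have h7 := sub_mem (EA_conj' h5 (eich_mem e) (eich_fix e (by simp [h.B, perp_symm h1])
    (by simp [h.B, perp_symm b1])) hx) hx
  have h8 : eich e' (eich e x - x) - (eich e x - x) = (S.B x (j a) * ζ) • j c := by
    have := h.ne
    simp only [eich_apply, add_left, sub_left, smul_left, smul_right, h.B, h4.ef, b3, perp_symm c2,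
      perp_symm h3, map_zero, map_one]
    match_scalars <;> field_simp <;> ring
  rw [← h8]
  refine E0.of_move h7 h6 (eich_mem e') (eich_fix e' (by simp [h.B, perp_symm c1])
    (by simp [h.B, perp_symm h2])) ?_
  rw [h8]
  simp [eich_apply, h.B, b3, perp_symm h3]

theorem lv_of {u c : V0} (hu : S0.q u = 0) (hc : S0.q c = 0) (h1 : S0.B c u = 0)
    (h2 : c ∉ Submodule.span K {u}) {α : F} (hE : S.E0 H (j u) ((α * ζ) • j c)) : Lv S0 S j ζ H u α := by
  haveI := h.fd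
  intro c' h3 h4
  obtain ⟨f, a1, a2, a3⟩ := h.nd0.exists_hyp _ hc h2 fun w hw => by
    obtain ⟨t, rfl⟩ := Submodule.mem_span_singleton.1 hw
    simp [perp_symm h1]
  obtain ⟨b, b', h5, ⟨b1, b2, -⟩, c1, -, c3⟩ := h.hyp u f c'
  have h6 := h.move (hE.EA ((h.q u).2 hu)) a1 h5.qe (perp_symm (a3 _ (Submodule.mem_span_singleton_self u))) b1 b2
  simp only [smul_left, h.B, a2, map_one, mul_one, mul_inv_cancel_right₀ h.ne] at h6
  simpa only [smul_left, h.B, h5.ef, map_one, mul_one, mul_inv_cancel_right₀ h.ne] using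
    h.move (h6.EA ((h.q u).2 hu)) h5.qf h3 c1 h4 (perp_symm c3)

theorem lv_swap {u c : V0} (hu : S0.q u = 0) (hc : S0.q c = 0) (h1 : S0.B c u = 0)
    (h2 : u ∉ Submodule.span K {c}) {α : F} (hE : Lv S0 S j ζ H u α) : Lv S0 S j ζ H c (T.σ α) := by
  by_cases h0 : α = 0
  · intro d _ _
    simpa [h0] using E0.zero ((h.q c).2 hc)
  refine h.lv_of (c := -T0.ε • u) hc (S0.q_smul_zero _ hu) (by simp [perp_symm h1])
    (mt (Submodule.smul_mem_iff _ (neg_ne_zero.2 T0.ε_ne)).1 h2) ?_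
  convert (hE c hc h1).swap.smul (mul_ne_zero h0 h.ne) using 1
  rw [map_smulₛₗ, smul_smul, smul_smul, map_mul, map_neg]
  congr 1
  linear_combination T.σ α * h.εσζ

theorem lv_all {u : V0} (hu : S0.q u = 0) (h0 : u ≠ 0) {α : F} (hE : Lv S0 S j ζ H u α) {v : V0}
    (hv : S0.q v = 0) : Lv S0 S j ζ H v α := by
  obtain ⟨b, b', h5, ⟨b1, b2, -⟩, c1, c2, -⟩ := h.hyp u v v
  rw [← T.σσ α]
  refine h.lv_swap h5.qe hv (perp_symm b2) (fun e => ?_) (h.lv_swap hu h5.qe b1 (fun e => ?_) hE) <;>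
    obtain ⟨t, e⟩ := Submodule.mem_span_singleton.1 e
  · simpa [← e, perp_symm c2] using h5.ef
  · have := perp_symm c1
    rw [← e, smul_left, h5.ef, mul_one] at this
    exact h0 (by rw [← e, this, zero_smul])

/-- the level -/
def lev : Subring F where
  carrier := {α | ∀ u, S0.q u = 0 → Lv S0 S j ζ H u α}
  add_mem' a b u hu c hc h1 := by
    simpa only [add_mul, add_smul] using (a u hu c hc h1).add (b u hu c hc h1) (by simp [h.B, self_zero hc])
  zero_mem' u hu c _ _ := by simpa using E0.zero ((h.q u).2 hu)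
  neg_mem' a u hu c hc h1 := by simpa using (a u hu c hc h1).neg
  one_mem' u hu c hc h1 := by simpa using h.mem u c hu hc h1
  mul_mem' {α β} a b u hu c hc h1 := by
    obtain ⟨d, d', h5, ⟨b1, b2, -⟩, c1, c2, -⟩ := h.hyp u c c
    obtain ⟨e, h6⟩ := b d' h5.qf c hc (perp_symm c2)
    have h8 : eich e ((α * ζ) • j d) - (α * ζ) • j d = (α * β * ζ) • j c := by
      have := h.ne
      simp only [eich_apply, smul_left, smul_right, h.B, h5.ef, b2, map_zero, map_one]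
      match_scalars <;> field_simp <;> ring
    rw [← h8]
    refine E0.of_move ((a u hu d h5.qe b1).EA ((h.q u).2 hu)) h6 (eich_mem e)
      (eich_fix e (by simp [h.B, perp_symm c1]) (by simp [h.B, perp_symm h1])) ?_
    rw [h8]
    simp [h.B, b2]

theorem φ_mem_lev (c : K) : φ c ∈ h.lev := fun u hu d hd h1 => by
  simpa only [map_smulₛₗ, smul_smul, mul_comm ζ] using h.mem u (c • d) hu (S0.q_smul_zero c hd) (by simp [h1])

variable [FiniteDimensional F V]

theorem EG_le (hR : h.lev = ⊤) (hΛ : ∀ l ∈ T.Λ, (∃ c, l = c - T.ε * T.σ c) ∨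
    ((∀ v, S0.q v = 0) ∧ ∃ a, l = a * T.σ (a * ζ))) : S.EG ≤ H := by
  have h1 : ∀ α u c, S0.q u = 0 → S0.q c = 0 → S0.B c u = 0 → S.E0 H (j u) (α • j c) := fun α u c a b d => by
    simpa [h.ne] using (hR.ge trivial : α / ζ ∈ h.lev) u a c b d
  have key : ∀ e, S0.q e = 0 → e ≠ 0 → S.Qu (j e) ≤ H := fun e he h0 => by
    have he' := (h.q e).2 he
    refine Qu_le_of_EA (hu := he') (fun w hw => ?_) fun l hl => ?_
    · let X := Submodule.span F {x | ∃ c, S0.q c = 0 ∧ S0.B c e = 0 ∧ x = j c}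
      have h2 : ∀ x ∈ X, ∀ a : F, a • x ∈ S.EA H he' := fun x hx => by
        induction hx using Submodule.span_induction with
        | mem x hx => obtain ⟨c, a, b, rfl⟩ := hx; exact fun α => (h1 α e c he a b).EA _
        | zero => simp
        | add x y _ _ a b => exact fun α => smul_add α x y ▸ add_mem (a α) (b α)
        | smul c x _ a => exact fun α => smul_smul α c x ▸ a _
      refine one_smul F w ▸ h2 w (by_contra fun hn => ?_) 1
      obtain ⟨y, h3, h4⟩ := h.nd.exists_sep X hn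
      obtain ⟨μ, h5⟩ := h.dual_aux he h0 ⊥ (by simp +contextual) fun c a b =>
        h3 _ (Submodule.subset_span ⟨c, a, b, rfl⟩)
      have h6 : y = μ • j e := sub_eq_zero.1 (by_contra fun e => let ⟨a, ha⟩ := h.exists_ne e; ha (h5 a))
      simp [h6, hw] at h4
    · obtain ⟨b, b', h5, ⟨b1, -⟩, c1, -⟩ := h.hyp e e e
      rcases hΛ l (T.π_eq_zero_iff.1 (hl.rep.symm.trans S.q_zero)) with ⟨c, rfl⟩ | ⟨h2, a, rfl⟩
      · obtain ⟨x, hx⟩ := h1 1 e b' he h5.qf c1
        obtain ⟨y, hy⟩ := h1 (c * ζ) e b he h5.qe b1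
        obtain ⟨z, hz⟩ := commutator_eich x y
        convert hz ▸ (mul_mem (mul_mem (mul_mem hx hy) (inv_mem hx)) (inv_mem hy) : ⁅eich x, eich y⁆ ∈ H) using 2
        rw [S.herm ((c * ζ) • j b)]
        simp [h.B, h5.ef, h.ne]
      · obtain ⟨x, hx⟩ := h1 (a * ζ) e b' he h5.qf c1
        obtain ⟨y, hy⟩ := h1 (a * ζ) e b he h5.qe b1
        obtain ⟨z, hz⟩ := (h1 (a * ζ) e (b' + b) he (h2 _) (by simp [b1, c1])).neg
        have := mul_mem (mul_mem hx hy) hz
        rw [eich_mul, eich_mul] at this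
        have h3 := self_zero ((h.q _).2 (h2 (b' + b)))
        convert this using 2
        · simp
        · rw [← smul_add, ← map_add, neg_left, smul_left _ _ (j (b' + b)), smul_right _ _ (j (b' + b)), h3]
          simp [h.B, h5.ef, h.ne]; field_simp
  obtain ⟨b, b', h5, -⟩ := h.hyp 0 0 0
  exact h.nd.EG_le_of_opp ((h.q _).2 h5.qe) ((h.q _).2 h5.qf) (by simp [h.B, h5.fe, h.ne, T0.ε_ne])
    (key _ h5.qe h5.ne_left) (key _ h5.qf h5.ne_right)

variable (hR : ∀ α ∈ h.lev, ∃ d, φ d = α)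
include hR

theorem range_of_EA {e a : V0} {he : S.q (j e) = 0} (h0 : e ≠ 0) {x : V} (hx : x ∈ S.EA H he)
    (ha : S0.q a = 0) (h1 : S0.B a e = 0) : ∃ d, φ d = S.B x (j a) := by
  obtain ⟨b, b', h5, ⟨b1, b2, -⟩, c1, -⟩ := h.hyp e a a
  refine hR _ fun u hu => h.lv_all ((h.q e).1 he) h0 (h.lv_of ((h.q e).1 he) h5.qe b1 (fun e => ?_)
    (h.move hx ha h5.qe h1 b1 b2)) hu
  obtain ⟨t, e⟩ := Submodule.mem_span_singleton.1 e
  simpa [← e, perp_symm c1] using h5.ef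

theorem rat_of_EA {e : V0} {he : S.q (j e) = 0} (h0 : e ≠ 0) {x : V} (hx : ζ • x ∈ S.EA H he) :
    ∃ v, ∃ μ : F, x = j v + μ • j e := by
  obtain ⟨μ, h1⟩ := h.dual_aux ((h.q e).1 he) h0 (φ.range.toAddSubgroup.comap (AddMonoidHom.mulLeft ζ))
    (fun c a ⟨d, ha⟩ => ⟨c * d, by rw [map_mul, ha]; simp; ring⟩) (x := x) fun c a b => by
      obtain ⟨d, hd⟩ := h.σ_range (h.range_of_EA hR h0 hx a b)
      refine ⟨T0.ε * d, ?_⟩
      have := congrArg φ T0.εε
      rw [map_mul, map_one] at this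
      rw [map_mul, hd, smul_left, map_mul, AddMonoidHom.coe_mulLeft, S.herm x]
      linear_combination (φ T0.ε * T.ε * T.σ (S.B x (j c))) * h.εσζ -
        φ T0.ε * T.σ ζ * T.σ (S.B x (j c)) * T.εε + T.ε * ζ * T.σ (S.B x (j c)) * this
  obtain ⟨v, hv⟩ := h.exists_of_dual h1
  exact ⟨v, μ, by rw [← hv, sub_add_cancel]⟩

theorem map_perp {e e' : V0} (he : S0.q e = 0) (he' : S0.q e' = 0) (h0 : e' ≠ 0) {k : V ≃ₗ[F] V}
    (hk : k ∈ H) {c : F} (hc : c ≠ 0) (h1 : k (j e) = c • j e') {a : V0} (ha : S0.q a = 0)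
    (h2 : S0.B a e = 0) : ∃ v, ∃ μ : F, T.σ c • k (j a) = j v + μ • j e' :=
  h.rat_of_EA hR (he := (h.q e').2 he') h0 (by
    simpa only [map_smul, smul_comm ζ] using
      EA_map _ hk (h.le hk) hc h1 ((h.mem e a he ha h2).EA ((h.q e).2 he)))

theorem point {e e' : V0} (he : S0.q e = 0) (h0 : e ≠ 0) {k : V ≃ₗ[F] V} (hk : k ∈ H) {c : F}
    (h1 : k (j e) = c • j e') : Rat j c k := by
  haveI := h.fd
  have hi := h.le hk
  have sg : ∀ {a a'}, S0.q a = 0 → a ≠ 0 → k (j a) = c • j a' → c ≠ 0 ∧ S0.q a' = 0 ∧ a' ≠ 0 := by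
    intro a a' h1 h2 h3
    have h4 : c • j a' ≠ 0 := h3 ▸ k.map_ne_zero_iff.2 (h.ne_zero h2)
    have hc := left_ne_zero_of_smul h4
    exact ⟨hc, (h.q _).1 ((S.q_smul_eq_zero_iff hc).1 (by rw [← h3, isom_q hi, (h.q a).2 h1])),
      fun e => h4 (by simp [e])⟩
  obtain ⟨hc, he', h0'⟩ := sg he h0 h1
  have hz := h.ne
  have hσ := T.σ_ne hc
  obtain ⟨f, hf⟩ := h.nd0.exists_hyp' he h0
  obtain ⟨f', hf'⟩ := h.nd0.exists_hyp' he' h0'
  obtain ⟨s, hs, c', hc', h2⟩ := exists_Qu_map_sing ((h.q _).2 he') (x := j f') (y := k (j f))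
    (by simp [h.B, hf'.fe, h.ne, T0.ε_ne]) (fun e1 => by
      have := isom_B hi (j f) (j e)
      rw [h1, smul_right, e1] at this
      simp [h.B, hf.fe, h.ne, T0.ε_ne] at this) ((h.q _).2 hf'.qf) (by rw [isom_q hi, (h.q _).2 hf.qf])
  obtain ⟨z, l, hE, rfl⟩ := (mem_Qu ((h.q _).2 he')).1 hs
  have hs := eich_mem hE
  have b1 : ∀ a, S0.q a = 0 → S0.B a e = 0 → S0.B a f = 0 →
      ∃ a', T.σ c • k (j a) = eich hE (j a') ∧ S0.B a' e' = 0 ∧ S0.q a' = 0 := fun a q1 q2 q3 => by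
    obtain ⟨v, μ, h3⟩ := h.map_perp hR he he' h0' hk hc h1 q1 q2
    have h4 : S.B (j v) (j e') = 0 := by
      have := isom_B hi (j a) (j e)
      rw [h1, smul_right, ← smul_left, h3] at this
      simpa [h.B, q2, hf'.ee] using this
    have h5 : eich hE (j v + (μ + T.ε * S.B (j v) z) • j e') = T.σ c • k (j a) := by
      rw [map_add, map_smul, eich_self, eich_of_perp hE h4, h3]; module
    have h6 := isom_B hs (j v + (μ + T.ε * S.B (j v) z) • j e') (j f')
    rw [h5, h2, smul_left, smul_right, isom_B hi] at h6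
    simp only [h.B, q3, add_left, smul_left, hf'.ef, map_zero, map_one, mul_zero] at h6
    have h7 : μ + T.ε * S.B (j v) z = φ (-S0.B v f') := by
      rw [map_neg]; exact mul_left_cancel₀ (inv_ne_zero hz) (by linear_combination -h6)
    rw [h7, ← map_smulₛₗ, ← map_add] at h5
    refine ⟨_, h5.symm, ?_, (h.q _).1 ?_⟩
    · simpa [h.B, hz, hf'.ee] using h4
    · rw [← isom_q hs, h5, S.q_smul_eq_zero_iff hσ, isom_q hi, (h.q _).2 q1]
  have b2 : ∀ {a a' b b'}, T.σ c • k (j a) = eich hE (j a') → T.σ c • k (j b) = eich hE (j b') →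
      φ (S0.B a' b') = c * T.σ c * φ (S0.B a b) := fun {a a' b b'} e1 e2 => by
    have := isom_B hs (j a') (j b')
    rw [← e1, ← e2, smul_left, smul_right, isom_B hi, h.B, h.B, T.σσ] at this
    exact mul_left_cancel₀ (inv_ne_zero hz) (by linear_combination -this)
  have b3 : ∀ a, S0.q a = 0 → S0.B a e = 0 → S0.B a f = 0 → ∃ a', k (j a) = c • j a' := fun a q1 q2 q3 => by
    obtain ⟨b, b', h5, ⟨c1, c2, c3⟩, d1, d2, d3⟩ := h.hyp e f a
    obtain ⟨a', e1, e2, e3⟩ := b1 a q1 q2 q3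
    obtain ⟨x, x1, x2, x3⟩ := b1 b h5.qe c1 c2
    obtain ⟨y, y1, y2, y3⟩ := b1 b' h5.qf d1 d2
    have n1 := b2 x1 y1
    rw [h5.ef, map_one, mul_one] at n1
    have n2 : S0.B x a' = 0 := by simpa [c3] using b2 x1 e1
    have n3 : S0.B a' y = 0 := by simpa [perp_symm d3] using b2 e1 y1
    obtain ⟨t, ht⟩ := h.mem a' ((S0.B x y)⁻¹ • x) e3 (S0.q_smul_zero _ x3) (by simp [n2])
    have h6 : eich hE * eich t * (eich hE)⁻¹ ∈ H := by
      obtain ⟨t', h6⟩ := (h.mem a b q1 h5.qe c3).conj hk hi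
      rw [conj_eich t hs, eich_congr' _ (e1 ▸ t.map hs) e1.symm rfl rfl, eich_smul _ _ hσ]
      convert h6 using 2
      · rw [j.map_smulₛₗ, map_smul, map_smul, map_smul, ← x1, map_inv₀, n1, T.σσ]
        match_scalars; field_simp
      · simp
    have h7 : z + -eich t z ∈ S.EA H ((h.q _).2 he') := by
      have h8 := mul_mem h6 (inv_mem ht)
      have h9 : eich t (j e') = j e' := eich_fix t (by simp [h.B, perp_symm e2]) (by simp [h.B, perp_symm x2])
      rw [mul_assoc (eich hE), mul_assoc (eich hE), eich_inv hE, conj_eich _ (eich_mem t),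
        eich_congr' _ (h9 ▸ hE.neg.map (eich_mem t)) h9 rfl rfl, eich_mul] at h8
      exact map_neg (eich t) z ▸ ⟨_, _, h8⟩
    obtain ⟨d, hd⟩ := h.range_of_EA hR h0' h7 y3 y2
    obtain ⟨d, hd⟩ := h.σ_range (a := S.B z (j a')) ⟨-d, by
      rw [map_neg, hd]
      simp only [eich_apply, add_left, neg_left, sub_left, smul_left, map_smulₛₗ, h.B, n3, n1, map_inv₀, map_zero]
      field_simp; ring⟩
    refine ⟨(S0.B x y)⁻¹ • (a' - d • e'), smul_right_injective V hσ ?_⟩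
    simp only
    rw [e1, eich_of_perp hE (by simp [h.B, e2]), map_smulₛₗ, map_sub, map_smulₛₗ, hd, S.herm z, map_inv₀, n1]
    match_scalars
    · field_simp
    · field_simp; linear_combination -T.σ (S.B z (j a')) * T.εε
  obtain ⟨N, hN⟩ : ∃ N, φ N = c * T.σ c := by
    obtain ⟨b, b', h5, ⟨c1, c2, c3⟩, d1, d2, d3⟩ := h.hyp e f f
    obtain ⟨x, x1, -⟩ := b1 b h5.qe c1 c2
    obtain ⟨y, y1, -⟩ := b1 b' h5.qf d1 d2
    exact ⟨_, by simpa [h5.ef] using b2 x1 y1⟩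
  have b4 : ∀ a, S0.q a = 0 → ∃ a', k (j a) = c • j a' := fun a q1 => by
    obtain ⟨b, b', h5, ⟨c1, c2, c3⟩, d1, d2, d3⟩ := h.hyp e f a
    obtain ⟨x, x1⟩ := b3 b h5.qe c1 c2
    obtain ⟨y, y1⟩ := b3 b' h5.qf d1 d2
    obtain ⟨-, x2, x3⟩ := sg h5.qe h5.ne_left x1
    obtain ⟨v, μ, h3⟩ := h.map_perp hR h5.qe x2 x3 hk hc x1 q1 (perp_symm c3)
    have h6 := isom_B hi (j a) (j b')
    have h7 := isom_B hi (j b) (j b')
    rw [y1, smul_right, ← smul_left, h3] at h6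
    rw [x1, y1] at h7
    simp only [h.B, add_left, smul_left, smul_right, perp_symm d3, h5.ef, map_zero, map_one] at h6 h7
    have h8 : φ (S0.B x y) ≠ 0 := fun e => by simp [e, hz.symm] at h7
    refine ⟨N⁻¹ • (v - (S0.B v y / S0.B x y) • x), smul_right_injective V hσ ?_⟩
    simp only
    rw [h3, map_smulₛₗ, map_sub, map_smulₛₗ, map_inv₀, hN, map_div₀]
    match_scalars
    · field_simp
    · field_simp at h6 ⊢; linear_combination h6
  exact h.all_of_perp hf (U := ⟨⟨⟨{a | ∃ a', k (j a) = c • j a'}, fun ⟨a, ha⟩ ⟨b, hb⟩ =>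
    ⟨a + b, by simp [ha, hb]⟩⟩, ⟨0, by simp⟩⟩, fun t _ ⟨a, ha⟩ => ⟨t • a, by
      simp [map_smulₛₗ, ha, smul_comm c]⟩⟩) (fun a q1 _ => b4 a q1) (b4 f hf.qf)

theorem plane {v w z : V0} (hv : S0.q v = 0) (h0 : v ≠ 0) (hw : S0.q w = 0) (h1 : S0.B w v = 0)
    {g : V ≃ₗ[F] V} (hg : g ∈ H) (hz : z ≠ 0) (h2 : j z ∈ Submodule.span F {g (j v), g (j w)}) :
    ∃ c, Rat j c g := by
  have hi := h.le hg
  have hn := h.ne
  obtain ⟨α, β, h2⟩ := Submodule.mem_span_pair.1 h2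
  have h3 : S0.q z = 0 := (h.q z).1 (by
    rw [← h2, ← map_smul g, ← map_smul g, ← map_add, isom_q hi, q_add, S.q_smul_zero _ ((h.q v).2 hv),
      S.q_smul_zero _ ((h.q w).2 hw)]
    simp [h.B, perp_symm h1])
  obtain ⟨b, b', h5, ⟨b1, b2, -⟩, c1, c2, -⟩ := h.hyp v w w
  have key : ∀ b, S0.q b = 0 → S0.B b v = 0 → S0.B b w = 0 → ∀ a, ∃ a', j a' =
      (S.B (j a) (g (j v)) * ζ) • g (j b) - (T.ε * T.σ ζ * S.B (j a) (g (j b))) • g (j v) := fun b q1 q2 q3 a => by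
    obtain ⟨t, ht⟩ := (h.mem v b hv q1 q2).conj hg hi
    obtain ⟨a', h6⟩ := h.point hR h3 hz ht (c := 1) (e' := z) (by
      rw [one_smul]
      exact eich_fix t (by simp [← h2, isom_B hi, h.B, self_zero hv, h1])
        (by simp [← h2, isom_B hi, h.B, perp_symm q2, perp_symm q3])) a
    refine ⟨a' - a, ?_⟩
    rw [map_sub, ← one_smul F (j a'), ← h6, eich_apply, map_smul, smul_right]
    module
  obtain ⟨a, ha⟩ := h.exists_ne (g.map_ne_zero_iff.2 (h.ne_zero h0))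
  obtain ⟨x, hx⟩ := key b h5.qe b1 b2 a
  obtain ⟨y, hy⟩ := key b' h5.qf c1 c2 x
  simp only [hx, sub_left, smul_left, isom_B hi, h.B, b1, self_zero hv, h5.ef, perp_symm c1, map_zero,
    map_one] at hy
  have h6 := T.σ_ne hn
  have h7 := T.ε_ne
  exact ⟨-(T.ε * T.σ ζ * S.B (j a) (g (j v)))⁻¹, h.point hR hv h0 hg (e' := y) (by
    rw [hy]; match_scalars <;> field_simp <;> ring)⟩

theorem plane' {v w : V0} (hv : S0.q v = 0) (h0 : v ≠ 0) (hw : S0.q w = 0) (h1 : S0.B w v = 0)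
    (h2 : w ∉ Submodule.span K {v}) {g : V ≃ₗ[F] V} (hg : g ∈ H) {t : S.IsEich (g (j v)) (g (ζ • j w)) 0}
    (ht : Rat j 1 (eich t)) : ∃ c, Rat j c g := by
  obtain ⟨a, ha⟩ := h.exists_ne (g.map_ne_zero_iff.2 (h.ne_zero h0))
  obtain ⟨a', h3⟩ := ht a
  have h4 : j (a' - a) = (S.B (j a) (g (j v)) * ζ) • g (j w) - (T.ε * S.B (j a) (g (ζ • j w))) • g (j v) := by
    rw [map_sub, ← one_smul F (j a'), ← h3, eich_apply, map_smul]; module
  refine h.plane hR hv h0 hw h1 hg (z := a' - a) (fun e => h2 ?_) (Submodule.mem_span_pair.2 ⟨-_, _, by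
    rw [h4, neg_smul, neg_add_eq_sub]⟩)
  rw [e, map_zero, eq_comm, sub_eq_zero, ← map_smul g, ← map_smul g, g.injective.eq_iff] at h4
  have h5 := (inv_smul_eq_iff₀ (mul_ne_zero ha h.ne)).2 h4.symm
  rw [smul_smul] at h5
  obtain ⟨d, hd⟩ := h.mem_range h0 h5
  exact Submodule.mem_span_singleton.2 ⟨d, h.inj (by rw [map_smulₛₗ, hd, h5])⟩

theorem line {v w e : V0} (hv : S0.q v = 0) (h0 : v ≠ 0) (hw : S0.q w = 0) (h1 : S0.B w v = 0)
    (h2 : w ∉ Submodule.span K {v}) {g : V ≃ₗ[F] V} (hg : g ∈ H) (he : S0.q e = 0) (he0 : e ≠ 0)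
    (h3 : S.B (j e) (g (j v)) = 0) (h4 : S.B (j e) (g (j w)) = 0) : ∃ c, Rat j c g := by
  obtain ⟨t, ht⟩ := (h.mem v w hv hw h1).conj hg (h.le hg)
  exact h.plane' hR hv h0 hw h1 h2 hg (h.point hR he he0 ht (e' := e) (by
    rw [one_smul]; exact eich_fix t h3 (by simp [h4])))

omit hR [FiniteDimensional F V] in
theorem exists_pair : ∃ v w, S0.q v = 0 ∧ v ≠ 0 ∧ S0.q w = 0 ∧ S0.B w v = 0 ∧ w ∉ Submodule.span K {v} := by
  obtain ⟨v, _, h1, -⟩ := h.hyp 0 0 0
  obtain ⟨w, w', h2, ⟨h3, -⟩, h4, -⟩ := h.hyp v v v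
  refine ⟨v, w, h1.qe, h1.ne_left, h2.qe, h3, fun e => ?_⟩
  obtain ⟨t, e⟩ := Submodule.mem_span_singleton.1 e
  simpa [← e, perp_symm h4] using h2.ef

theorem rat_of_two (h2 : ∀ x y, ∃ u, u ≠ 0 ∧ S0.q u = 0 ∧ S.B (j u) x = 0 ∧ S.B (j u) y = 0)
    {g : V ≃ₗ[F] V} (hg : g ∈ H) : ∃ c, Rat j c g := by
  obtain ⟨v, w, a1, a2, a3, a4, a5⟩ := h.exists_pair
  obtain ⟨u, b1, b2, b3, b4⟩ := h2 (g (j v)) (g (j w))
  exact h.line hR a1 a2 a3 a4 a5 hg b2 b1 b3 b4

omit hR in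
theorem exists_fix {z : V ≃ₗ[F] V} {c : K} (hz : Rat j (φ c) z) {W : Submodule F V} (hW : finrank F W ≤ 6)
    (h1 : ∀ v, z v - v ∈ W) : ∃ u, u ≠ 0 ∧ S0.q u = 0 ∧ ∀ v, S.B (z v - v) (j u) = 0 := by
  haveI := h.fd
  obtain ⟨A, hA⟩ := h.exists_lin (A := z.toLinearMap - 1) fun a => by
    obtain ⟨a', h2⟩ := hz a
    exact ⟨c • a' - a, by simp [h2, map_smulₛₗ]⟩
  have h2 := h.finrank_le (U := LinearMap.range A) (W := W) (by rintro _ ⟨a, rfl⟩; exact hA a ▸ h1 _)
  have h3 := h.nd0.finrank_perp (LinearMap.range A)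
  have h4 := h.dim
  obtain ⟨u, h5, h6, h7⟩ := h.sing (S0.perp (LinearMap.range A)) (by omega)
  refine ⟨u, h6, h7, h.ind (U := LinearMap.ker (S.lin (j u) ∘ₗ (z.toLinearMap - 1))) fun a => ?_⟩
  rw [LinearMap.mem_ker, LinearMap.comp_apply, hA, lin_apply, h.B, perp_symm (h5 _ ⟨a, rfl⟩), map_zero, mul_zero]

theorem rat_of_tv [Finite F] (h2 : (2 : F) ≠ 0) {l : F} (hl : l ≠ 0)
    (hT : ∀ u, S0.q u = 0 → ∃ t : S.IsEich (j u) 0 l, eich t ∈ H) {g : V ≃ₗ[F] V} (hg : g ∈ H) :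
    ∃ c, Rat j c g := by
  have hi := h.le hg
  obtain ⟨u, _, h1, -⟩ := h.hyp 0 0 0
  obtain ⟨t, ht⟩ := hT u h1.qe
  have hb := conj_eich_mem t ht hg hi
  have hε := T.ε_ne
  have key : ∀ u', u' ≠ 0 → S0.q u' = 0 → S.B (j u') (g (j u)) = 0 → ∃ c, Rat j c g := fun u' a1 a2 a3 => by
    obtain ⟨a, ha⟩ := h.exists_ne (g.map_ne_zero_iff.2 (h.ne_zero h1.ne_left))
    obtain ⟨a', h3⟩ := h.point hR a2 a1 hb (c := 1) (e' := u') (by
      rw [one_smul]; exact eich_fix _ a3 (by simp)) a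
    refine ⟨-(T.ε * l * S.B (j a) (g (j u)))⁻¹, h.point hR h1.qe h1.ne_left hg (e' := a' - a) ?_⟩
    rw [map_sub, ← one_smul F (j a'), ← h3, eich_apply, map_zero, zero_right]
    match_scalars <;> field_simp <;> ring
  by_cases h3 : S.B (j u) (g (j u)) = 0
  · exact key u h1.ne_left h1.qe h3
  have h4 := t.uu
  have h5 := (t.map hi).uu
  have h6 := ne_symm h3
  obtain ⟨z, hz, h7⟩ := exists_neg_of_pair h2 ht hb (A := (-(T.ε * l) • S.lin (j u)).smulRight (j u))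
    (B := (-(T.ε * l) • S.lin (g (j u))).smulRight (g (j u)))
    (δ := (T.ε * l) ^ 2 * S.B (j u) (g (j u)) * S.B (g (j u)) (j u))
    (fun v => by simp [eich_apply, sub_eq_add_neg, mul_assoc])
    (fun v => by simp [eich_apply, sub_eq_add_neg, mul_assoc]) (by simp [h4]) (by simp [h5])
    (by positivity) (fun v => by simp; module) (fun v => by simp; module)
  obtain ⟨u', a1, a2, a3⟩ := h.exists_fix (c := -1) (h.point hR h1.qe h1.ne_left hz (e' := u) (by
    simp [h7, h4]; match_scalars; field_simp; ring)) (W := Submodule.span F {j u, g (j u)})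
    ((finrank_span_pair_le _ _).trans (by omega)) fun v => by
      rw [h7, sub_sub_cancel_left]
      exact neg_mem (Submodule.smul_mem _ _ (add_mem (Submodule.smul_mem _ _ (Submodule.subset_span (by simp)))
        (Submodule.smul_mem _ _ (Submodule.subset_span (by simp)))))
  have h8 : z (g (j u)) - g (j u) = (-2 : F) • g (j u) := by
    simp [h7, h5]; match_scalars; field_simp
  exact key u' a1 a2 (perp_symm (by simpa [h8, h2] using a3 (g (j u))))

omit hR [FiniteDimensional F V] in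
theorem rat_of_pow {p : ℕ} (hp : ∀ c : F, (∃ d, φ d = c ^ p) → ∃ d, φ d = c) {g : V ≃ₗ[F] V} {c : F}
    (hg : Rat j c g) (h1 : g ^ p = 1) : Rat j 1 g := by
  have h2 : ∀ n, Rat j (c ^ n) (g ^ n) := fun n a => by
    induction n with
    | zero => exact ⟨a, by simp⟩
    | succ n ih =>
      obtain ⟨x, hx⟩ := ih
      obtain ⟨y, hy⟩ := hg x
      exact ⟨y, by rw [pow_succ', LinearEquiv.mul_apply, hx, map_smul, hy, smul_smul, pow_succ]⟩
  obtain ⟨u, _, h3, -⟩ := h.hyp 0 0 0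
  obtain ⟨x, hx⟩ := h2 p u
  rw [h1] at hx
  obtain ⟨d, rfl⟩ := hp c (h.mem_range (fun e => h.ne_zero h3.ne_left (by simpa [e] using hx)) hx.symm)
  exact fun a => let ⟨y, hy⟩ := hg a; ⟨d • y, by rw [hy, map_smulₛₗ, one_smul]⟩

theorem rat_of_comm (h2 : (2 : F) = 0) {y : V ≃ₗ[F] V} (hy : y ∈ S.isom) (h1 : Rat j 1 y) (h3 : y * y = 1)
    {u : V0} (hu : S0.q u = 0) (h0 : u ≠ 0) {x : V} (h4 : j u = y x - x) {g : V ≃ₗ[F] V} (hg : g ∈ H)
    (h5 : y * g = g * y) : ∃ c, Rat j c g := by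
  haveI := h.fd
  obtain ⟨A, hA⟩ := h.exists_lin (A := y.toLinearMap - 1) fun a => by
    obtain ⟨a', h2⟩ := h1 a
    exact ⟨a' - a, by simp [h2]⟩
  have h6 : LinearMap.range A ≤ LinearMap.ker A := by
    rintro _ ⟨a, rfl⟩
    refine h.inj ?_
    have := LinearEquiv.congr_fun h3 (j a)
    simp only [← hA, LinearMap.sub_apply, map_sub, map_zero, LinearEquiv.coe_coe, Module.End.one_apply]
    rw [show y (y (j a)) = j a from this]
    linear_combination (norm := module) h2 • (j a - y (j a))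
  have h7 := Submodule.finrank_mono h6
  have h8 := A.finrank_range_add_finrank_ker
  have h9 := h.dim
  obtain ⟨v, a1, a2, a3⟩ := h.sing (LinearMap.ker A) (by omega)
  obtain ⟨f, hf⟩ := h.nd0.exists_hyp' a3 a2
  have h10 := finrank_le_inf_perp_list (S := S0) [v, f] (LinearMap.ker A)
  obtain ⟨w, ⟨b1, b2⟩, b3, b4⟩ := h.sing (LinearMap.ker A ⊓ S0.perp {d | d ∈ [v, f]}) (by
    simp only [List.length_cons, List.length_nil] at h10; omega)
  have key : ∀ a ∈ LinearMap.ker A, S.B (j u) (g (j a)) = 0 := fun a ha => by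
    have e1 : y (j a) = j a := sub_eq_zero.1 ((hA a).trans (by rw [ha, map_zero]))
    have e2 : y (g (j a)) = g (j a) := (LinearEquiv.congr_fun h5 (j a)).trans (congrArg g e1)
    rw [h4, sub_left, ← e2, isom_B hy, e2, sub_self]
  refine h.line hR a3 a2 b4 (b2 v (by simp)) (fun e => ?_) hg hu h0 (key v a1) (key w b1)
  obtain ⟨t, rfl⟩ := Submodule.mem_span_singleton.1 e
  have := b2 f (by simp)
  rw [smul_left, hf.ef, mul_one] at this
  simp [this] at b3

theorem rat_of_char_two [Finite F] (h2 : (2 : F) = 0) (hp : ∀ c : F, (∃ d, φ d = c ^ 2) → ∃ d, φ d = c)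
    (hy : ∀ y ∈ H, Rat j 1 y → y * y = 1 → y ≠ 1 → ∃ u x, S0.q u = 0 ∧ u ≠ 0 ∧ j u = y x - x)
    {g : V ≃ₗ[F] V} (hg : g ∈ H) : ∃ c, Rat j c g := by
  haveI := h.fd
  haveI := Module.finite_of_finite F (M := V)
  haveI : Finite (V ≃ₗ[F] V) := Finite.of_injective _ DFunLike.coe_injective
  have hn := h.ne
  obtain ⟨k, e, f, h1, -, h3⟩ := h.nd0.exists_witt_decomp
  have h4 : 4 ≤ k := by
    have := h1.finrank_perp
    have := h.dim
    by_contra
    obtain ⟨x, a, b, c⟩ := h.sing (S0.perp (Set.range e ∪ Set.range f)) (by simp at *; omega)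
    exact b (h3 x a c)
  replace h1 := h1.comp (Fin.castLE_injective h4)
  generalize e ∘ _ = e at h1
  generalize f ∘ _ = f at h1
  have sq : ∀ {u w} (t : S.IsEich u w 0), eich t * eich t = 1 := fun {u w} t => by
    rw [eich_mul, eich_congr _ (.zero t.sing) (by rw [← two_smul F, h2, zero_smul]) (by simp [t.ww]), eich_zero]
  obtain ⟨t1, a1⟩ := h.mem (e 0) (e 1) (h1.qe _) (h1.qe _) (h1.ee _ _)
  obtain ⟨t2, a2⟩ := h.mem (e 2) (e 3) (h1.qe _) (h1.qe _) (h1.ee _ _)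
  have hi := h.le hg
  have c1 : eich t1 * eich t2 = eich t2 * eich t1 := by
    rw [← mul_inv_eq_iff_eq_mul, conj_eich t2 (eich_mem t1)]
    exact eich_congr' _ _ (eich_fix _ (by simp [h.B, h1.ee]) (by simp [h.B, h1.ee]))
      (eich_fix _ (by simp [h.B, h1.ee]) (by simp [h.B, h1.ee])) rfl
  have c2 : eich t1 * eich t2 * (eich t1 * eich t2) = 1 := by
    rw [mul_assoc, ← mul_assoc (eich t2), ← c1, mul_assoc, sq, mul_one, sq]
  have c3 : ∀ a, (eich t1 * eich t2) (j a) = j (a + S0.B a (e 0) • e 1 - (T0.ε * S0.B a (e 1)) • e 0 +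
      S0.B a (e 2) • e 3 - (T0.ε * S0.B a (e 3)) • e 2) := fun a => by
    rw [LinearEquiv.mul_apply, h.eich_rat, h.eich_rat]
    simp only [add_left, sub_left, smul_left, h1.ee, mul_zero, add_zero, sub_zero]
    congr 1; abel
  obtain ⟨n, b1, b2, b3, b4⟩ := exists_central_invol c2 (sq (t1.map hi)) fun hc => by
    obtain ⟨s, hs⟩ := isConj_iff.1 hc.symm
    have h5 := h.finrank_le (U := Submodule.span K (Set.range e))
      (W := Submodule.span F {s (g (j (e 0))), s (g (j (e 1)))}) fun a ha => by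
        have h6 : ∀ a, (eich t1 * eich t2) (j a) - j a ∈ Submodule.span F {s (g (j (e 0))), s (g (j (e 1)))} :=
          fun a => Submodule.mem_span_pair.2 ⟨-(T.ε * S.B (s⁻¹ (j a)) (g (ζ • j (e 1)))),
            S.B (s⁻¹ (j a)) (g (j (e 0))) * ζ, by
              simp only [← hs, LinearEquiv.mul_apply, eich_apply, map_sub, map_add, map_smul]
              rw [show s (s⁻¹ (j a)) = j a from s.apply_symm_apply _]
              module⟩
        have h7 : ∀ i, j (e i) ∈ Submodule.span F {s (g (j (e 0))), s (g (j (e 1)))} := fun i => by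
          have h8 := (map_ne_zero φ).2 T0.ε_ne
          fin_cases i
          · simpa [c3, h1.fe, T0.εε] using h6 (f 1)
          · simpa [c3, h1.fe, map_smulₛₗ, Submodule.smul_mem_iff _ h8] using h6 (f 0)
          · simpa [c3, h1.fe, T0.εε] using h6 (f 3)
          · simpa [c3, h1.fe, map_smulₛₗ, Submodule.smul_mem_iff _ h8] using h6 (f 2)
        induction ha using Submodule.span_induction with
        | mem x hx => obtain ⟨i, rfl⟩ := hx; exact h7 i
        | zero => simp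
        | add x y _ _ a b => exact map_add j x y ▸ add_mem a b
        | smul c x _ a => exact map_smulₛₗ j c x ▸ Submodule.smul_mem _ _ a
    have := finrank_span_pair_le (F := F) (s (g (j (e 0)))) (s (g (j (e 1))))
    rw [h1.finrank_left, Fintype.card_fin] at h5
    omega
  have hb := conj_eich_mem t1 a1 hg hi
  have hyH := pow_mem (mul_mem (mul_mem a1 a2) hb) n
  obtain ⟨c, h5⟩ := h.rat_of_comm hR h2 (mul_mem (eich_mem t1) (eich_mem t2)) (fun a => ⟨_, by rw [c3, one_smul]⟩)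
    c2 (u := T0.ε • e 1) (S0.q_smul_zero _ (h1.qe _)) (smul_ne_zero T0.ε_ne (h1.isHyp 1).ne_left)
    (x := j (f 0)) (by simp [c3, h1.fe]) hyH b3.symm
  have h6 := h.rat_of_pow hp h5 ((_root_.sq _).trans b2)
  obtain ⟨u, x, d1, d2, d3⟩ := hy _ hyH h6 b2 b1
  obtain ⟨c, h7⟩ := h.rat_of_comm hR h2 (h.le hyH) h6 b2 d1 d2 d3 hb b4
  refine h.plane' hR (h1.qe 0) (h1.isHyp 0).ne_left (h1.qe 1) (h1.ee _ _) (fun e' => ?_) hg
    (h.rat_of_pow hp h7 ((_root_.sq _).trans (sq _)))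
  obtain ⟨t, e'⟩ := Submodule.mem_span_singleton.1 e'
  simpa [← e', h1.ef] using h1.ef 1 1

end Ov

theorem Ov.rat_of_orth [Finite F] [FiniteDimensional F V] {S : Form (orthParam F) V} (h : Ov S0 S j ζ H)
    (hR : ∀ α ∈ h.lev, ∃ d, φ d = α) (h2 : (2 : F) ≠ 0) {p : ℕ} (h0 : (p : F) = 0)
    (hp : ∀ c : F, (∃ d, φ d = c ^ p) → ∃ d, φ d = c) {g : V ≃ₗ[F] V} (hg : g ∈ H) : ∃ c, Rat j c g := by
  classical
  obtain ⟨u, w, a1, a2, a3, a4, a5⟩ := h.exists_pair
  have hi := h.le hg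
  have hn := h.ne
  obtain ⟨t, ht⟩ := h.mem u w a1 a3 a4
  have hb := conj_eich_mem t ht hg hi
  obtain ⟨A, hA⟩ : ∃ A : V → V → V →ₗ[F] V, ∀ x y v, A x y v = (ζ * S.B v x) • y - (ζ * S.B v y) • x :=
    ⟨fun x y => (ζ • S.lin x).smulRight y - (ζ • S.lin y).smulRight x, fun _ _ _ => rfl⟩
  have e1 : S.B (j u) (j u) = 0 := t.uu
  have e2 : S.B (j w) (j w) = 0 := by simp [h.B, self_zero a3]
  have e3 : S.B (j w) (j u) = 0 := by simp [h.B, a4]
  have e4 := perp_symm e3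
  have f1 := isom_B hi (j u) (j u)
  have f2 := isom_B hi (j w) (j w)
  have f3 := isom_B hi (j w) (j u)
  have f4 := isom_B hi (j u) (j w)
  rw [e1] at f1; rw [e2] at f2; rw [e3] at f3; rw [e4] at f4
  have h3 : ∀ v, eich (t.map hi) v = v + A (g (j u)) (g (j w)) v := fun v => by
    simp [eich_apply, hA]; module
  have h4 : ∀ v, A (g (j u)) (g (j w)) (A (g (j u)) (g (j w)) v) = 0 := fun v => by simp [hA, f1, f2, f3, f4]
  have s1 := S.orth_symm (j u) (g (j u))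
  have s2 := S.orth_symm (j u) (g (j w))
  have s3 := S.orth_symm (j w) (g (j u))
  have s4 := S.orth_symm (j w) (g (j w))
  by_cases hD : S.B (j u) (g (j w)) * S.B (j w) (g (j u)) - S.B (j u) (g (j u)) * S.B (j w) (g (j w)) = 0
  · obtain ⟨c, h5⟩ := h.line hR a1 a2 a3 a4 a5 hb a1 a2 (by rw [h3]; simp [hA, e1]; ring)
      (by rw [h3]; simp [hA, e4]; linear_combination ζ * hD)
    refine h.plane' hR a1 a2 a3 a4 a5 hg (h.rat_of_pow hp h5 ?_)
    have : ∀ n : ℕ, ∀ v, (eich (t.map hi) ^ n) v = v + (n : F) • A (g (j u)) (g (j w)) v := fun n v => by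
      induction n with
      | zero => simp
      | succ n ih => rw [pow_succ', LinearEquiv.mul_apply, ih, h3, map_add, map_smul, h4]; push_cast; module
    exact LinearEquiv.ext fun v => by rw [this, h0, zero_smul, add_zero]; rfl
  obtain ⟨z, hz, h7⟩ := exists_neg_of_pair h2 ht hb (A := A (j u) (j w)) (fun v => by simp [eich_apply, hA]; module)
    h3 (fun v => by simp [hA, e1, e2, e3, e4]) h4 (mul_ne_zero (pow_ne_zero 2 hn) hD)
    (fun v => by simp only [hA, sub_left, smul_left, s1, s2, s3, s4]; module)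
    (fun v => by simp only [hA, sub_left, smul_left, s1, s2, s3, s4]; module)
  obtain ⟨u', b1, b2, b3⟩ := h.exists_fix (c := -1) (h.point hR a1 a2 hz (e' := u) (by
    simp only [h7, hA, sub_left, smul_left, s1, s2, s3, s4, e1, e4, map_neg, map_one]
    match_scalars <;> field_simp <;> ring)) (W := Submodule.span F {j u, j w} ⊔ Submodule.span F {g (j u), g (j w)})
    ((Submodule.finrank_add_le_finrank_add_finrank _ _).trans
      ((add_le_add (finrank_span_pair_le _ _) (finrank_span_pair_le _ _)).trans (by omega))) fun v => by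
      rw [h7, sub_sub_cancel_left, hA (j u), hA (g (j u)) _ (A _ _ _)]
      refine neg_mem (Submodule.smul_mem _ _ (Submodule.add_mem_sup (sub_mem ?_ ?_) (sub_mem ?_ ?_))) <;>
        exact Submodule.smul_mem _ _ (Submodule.subset_span (by simp))
  have h8 : z (g (j u)) - g (j u) = (-2 : F) • g (j u) := by
    simp only [h7, hA, sub_left, smul_left, s1, s2, s3, s4, f1, f4]
    match_scalars <;> field_simp <;> ring
  have h9 : z (g (j w)) - g (j w) = (-2 : F) • g (j w) := by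
    simp only [h7, hA, sub_left, smul_left, s1, s2, s3, s4, f2, f3]
    match_scalars <;> field_simp <;> ring
  exact h.line hR a1 a2 a3 a4 a5 hg b2 b1 (perp_symm (by simpa [h8, h2] using b3 (g (j u))))
    (perp_symm (by simpa [h9, h2] using b3 (g (j w))))

end Form

end CfsgH5
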