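import Cfsg.Agent.H5.Sf2
import Cfsg.Agent.H5.As13

/-!
Maximality of subfield subgroups of classical groups.
-/

set_option autoImplicit false

namespace CfsgH5

open Module Matrix Cfsg Cfsg.Geo Form

variable {F : Type*} [Field F] {ι : Type} [Fintype ι] [DecidableEq ι] {F₀ : Subfield F} {P : GL ι F}

/-- the rational structure attached to a subfield and a frame -/
def jP (F₀ : Subfield F) (P : GL ι F) : (ι → F₀) →ₛₗ[F₀.subtype] (ι → F) where
  toFun v := P.1 *ᵥ fun i => v i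
  map_add' u v := by rw [← mulVec_add]; rfl
  map_smul' c v := by rw [← mulVec_smul]; rfl

theorem jP_apply (v : ι → F₀) : jP F₀ P v = P.1 *ᵥ fun i => v i := rfl

theorem jP_ne {v : ι → F₀} (h : v ≠ 0) : jP F₀ P v ≠ 0 := fun e =>
  h (funext fun i => Subtype.ext (congrFun ((gl_mulVec_eq_zero P).1 e) i))

theorem jP_span : Submodule.span F (Set.range (jP F₀ P)) = ⊤ := eq_top_iff.2 fun v _ => by
  rw [← gl_mulVec_inv P v, pi_eq_sum_univ' (P⁻¹.1 *ᵥ v), mulVec_sum]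
  refine Submodule.sum_mem _ fun i _ => ?_
  rw [mulVec_smul]
  refine Submodule.smul_mem _ _ (Submodule.subset_span ⟨Pi.single i 1, ?_⟩)
  rw [jP_apply]; congr 1; ext k; simp [Pi.single_apply, apply_ite Subtype.val]

theorem mem_subfield_rat {g : GL ι F} :
    g ∈ subfieldSubgroup F₀ P ↔ ∃ c, c ≠ 0 ∧ Rat (jP F₀ P) c (glEquiv ι F g) := by
  rw [mem_subfieldSubgroup]
  refine ⟨fun ⟨c, h1, h2⟩ => ⟨c⁻¹, inv_ne_zero h1, fun a =>
    ⟨fun i => ⟨_, h2.mulVec (fun i => (a i).2) i⟩, ?_⟩⟩, fun ⟨c, h1, h2⟩ => ⟨c⁻¹, inv_ne_zero h1, fun i k => ?_⟩⟩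
  · change _ = c⁻¹ • P.1 *ᵥ ((c • cjA P⁻¹ g.1) *ᵥ fun i => (a i : F))
    simp [jP_apply, cjA_apply, smul_mulVec, mulVec_smul, smul_smul, h1, ← mul_assoc]
  · obtain ⟨a, ha⟩ := h2 (Pi.single k 1)
    have h3 : (fun i => ((Pi.single k 1 : ι → F₀) i : F)) = Pi.single k 1 := by
      ext; simp [Pi.single_apply, apply_ite Subtype.val]
    have := congrFun (congrArg (fun v => c⁻¹ • P⁻¹.1 *ᵥ v) ha) i
    simp only [jP_apply, h3, glEquiv_apply, mulVec_smul, gl_inv_mulVec, inv_smul_smul₀ h1] at this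
    convert (a i).2 using 1
    rw [← this, mulVec_mulVec, mulVec_mulVec]
    simp [cjA_apply]

theorem subring_cases [Fintype F] {r : ℕ} (hr : r.Prime) (hc : Fintype.card F = Nat.card F₀ ^ r)
    {R : Subring F} (h : ∀ c : F₀, F₀.subtype c ∈ R) : (∀ α ∈ R, ∃ d, F₀.subtype d = α) ∨ R = ⊤ := by
  have h1 : finrank F₀ F = r := Nat.pow_right_injective (Finite.one_lt_card (α := F₀))
    ((Module.natCard_eq_pow_finrank (K := F₀) (V := F)).symm.trans (Nat.card_eq_fintype_card.trans hc))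
  haveI := Subalgebra.isSimpleOrder_of_finrank_prime F₀ F (h1 ▸ hr)
  exact (eq_bot_or_eq_top (⟨R.toSubsemiring, h⟩ : Subalgebra F₀ F)).imp
    (fun e α hα => Algebra.mem_bot.1 (e.le hα)) fun e => eq_top_iff.2 fun x _ => e.ge trivial

theorem pow_mem_subfield [Finite F] {p : ℕ} (hp : p.Prime) (h0 : (p : F) = 0) (c : F)
    (h : ∃ d, F₀.subtype d = c ^ p) : ∃ d, F₀.subtype d = c := by
  haveI := Fact.mk hp
  haveI : CharP F p := (CharP.charP_iff_prime_eq_zero hp).2 h0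
  obtain ⟨d, hd⟩ := h
  obtain ⟨e, rfl⟩ := surjective_frobenius F₀ p d
  exact ⟨e, frobenius_inj F p (by simpa [frobenius_def] using hd)⟩

theorem isMaximalIn_subfield [Fintype F] {T0 : FParam F₀} {T : FParam F} {S0 : Form T0 (ι → F₀)}
    {S : Form T (ι → F)} {ζ : F} (h : RS S0 S (jP F₀ P) ζ) {G : Subgroup (GL ι F)}
    (hG : G = S.EG.comap (glEquiv ι F).toMonoidHom) {r : ℕ} (hr : r.Prime)
    (hc : Fintype.card F = Nat.card F₀ ^ r) (hΛ : ∀ l ∈ T.Λ, (∃ c, l = c - T.ε * T.σ c) ∨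
      ((∀ v, S0.q v = 0) ∧ ∃ a, l = a * T.σ (a * ζ)))
    (hB : ∀ H (h : Ov S0 S (jP F₀ P) ζ H), H ≤ S.EG → (∀ g ∈ S.EG, Rat (jP F₀ P) 1 g → g ∈ H) →
      (∀ α ∈ h.lev, ∃ d, F₀.subtype d = α) → ∀ g ∈ H, ∃ c, Rat (jP F₀ P) c g) :
    IsMaximalIn G (subfieldSubgroup F₀ P ⊓ G) := by
  obtain ⟨e, f, h1, -⟩ := h.hyp 0 0 0
  refine isMaximalIn_gl hG (fun g => ∃ c, c ≠ 0 ∧ Rat (jP F₀ P) c g) (fun _ => mem_subfield_rat) ?_
    fun H h2 h3 g hg hn => ?_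
  · obtain ⟨a, ha⟩ : ∃ a, a ∉ F₀ := by
      by_contra! h2
      rw [← Nat.card_eq_fintype_card, ← Nat.card_congr (Equiv.subtypeUnivEquiv h2)] at hc
      exact (lt_self_pow₀ Finite.one_lt_card hr.one_lt).ne hc
    obtain ⟨b, b', h2, ⟨h3, h4, -⟩, -⟩ := h.hyp e f f
    refine ⟨_, eich_mem_EG (h.isEich h1.qe h2.qe h3 (a * ζ)), fun ⟨c, h5, h6⟩ => ha ?_⟩
    obtain ⟨x, hx⟩ := h6 e
    obtain ⟨y, hy⟩ := h6 f
    rw [eich_self] at hx
    obtain ⟨d, rfl⟩ := h.mem_range (fun e => h.ne_zero h1.ne_left (by simpa [e] using hx)) hx.symm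
    obtain ⟨d', rfl⟩ := h.mem_range (u := T0.ε • b) (v := d • y - f) (c := a) (smul_ne_zero T0.ε_ne h2.ne_left) (by
      have := h.ne
      rw [map_sub, map_smulₛₗ, map_smulₛₗ, ← hy, eich_apply]
      simp only [smul_right, h.B, h1.fe, perp_symm h4, map_zero]
      match_scalars <;> field_simp <;> ring)
    exact d'.2
  · have h4 : ∀ g ∈ S.EG, Rat (jP F₀ P) 1 g → g ∈ H := fun g a b => h2 g a ⟨1, one_ne_zero, b⟩
    have h5 : Ov S0 S (jP F₀ P) ζ H := ⟨h, h3.trans EG_le_isom, fun u w a b c =>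
      ⟨h.isEich a b c ζ, h4 _ (eich_mem_EG _) fun a => ⟨_, by rw [h.eich_rat, one_smul]⟩⟩⟩
    refine h5.EG_le ((subring_cases hr hc h5.φ_mem_lev).resolve_left fun h6 => hn ?_) hΛ
    obtain ⟨c, h7⟩ := hB H h5 h3 h4 h6 g hg
    obtain ⟨x, hx⟩ := h7 e
    exact ⟨c, left_ne_zero_of_smul (hx ▸ g.map_ne_zero_iff.2 (h.ne_zero h1.ne_left)), h7⟩

section Build

variable {T0 : FParam F₀} {T : FParam F} {S0 : Form T0 (ι → F₀)} {S : Form T (ι → F)} {ζ : F}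

theorem rs_of (hS : S.Nondeg) (hζ : ζ ≠ 0) (hB : ∀ u v, (S0.B u v : F) = ζ * S.B (jP F₀ P u) (jP F₀ P v))
    (hG : S0.Nondeg → S0.Good) (hσ : ∀ c : F₀, T.σ c = T0.σ c) (hq : ∀ v, S.q (jP F₀ P v) = 0 ↔ S0.q v = 0)
    (hn : 9 ≤ Fintype.card ι) : RS S0 S (jP F₀ P) ζ := by
  have h0 : S0.Nondeg := fun x hx => by_contra fun e => jP_ne (P := P) e (hS _ fun y =>
    (Submodule.span_le.2 (by
      rintro _ ⟨a, rfl⟩
      simpa [hx, hζ] using hB a x) : _ ≤ LinearMap.ker (S.lin (jP F₀ P x))) (jP_span.ge (Submodule.mem_top (x := y))))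
  exact ⟨h0, hS, (hG h0).sing, hζ, fun u v => by simp [hB, hζ], hσ, hq, jP_span, by simpa⟩

theorem Form.RS.two [Fintype F] (h : RS S0 S (jP F₀ P) ζ) (hc : Fintype.card F = Nat.card F₀ ^ 2) (x y : ι → F) :
    ∃ u, u ≠ 0 ∧ S0.q u = 0 ∧ S.B (jP F₀ P u) x = 0 ∧ S.B (jP F₀ P u) y = 0 := by
  have h1 : finrank F₀ F = 2 := Nat.pow_right_injective (Finite.one_lt_card (α := F₀))
    ((Module.natCard_eq_pow_finrank (K := F₀) (V := F)).symm.trans (Nat.card_eq_fintype_card.trans hc))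
  let A : (ι → F₀) →ₗ[F₀] F × F := ⟨⟨fun u => (S.B (jP F₀ P u) x, S.B (jP F₀ P u) y), by simp⟩,
    fun c u => by simp [map_smulₛₗ]; exact ⟨rfl, rfl⟩⟩
  have h2 := A.finrank_range_add_finrank_ker
  have h3 := (LinearMap.range A).finrank_le
  have h4 := h.dim
  rw [finrank_prod, h1] at h3
  obtain ⟨u, a, b, c⟩ := h.sing (LinearMap.ker A) (by omega)
  exact ⟨u, b, c, Prod.mk_eq_zero.1 a⟩

end Build

section Branch

variable {K : Type*} [Field K] {φ : K →+* F} {T0 : FParam K} {T : FParam F}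
  {V0 V : Type*} [AddCommGroup V0] [Module K V0] [AddCommGroup V] [Module F V]
  {S0 : Form T0 V0} {S : Form T V} {j : V0 →ₛₗ[φ] V} {ζ : F} {H : Subgroup (V ≃ₗ[F] V)}

theorem Form.B_mov_invol (h2 : (2 : F) = 0) {y : V ≃ₗ[F] V} (hy : y ∈ S.isom) (h1 : y * y = 1) (a b : V) :
    S.B (y a - a) (y b - b) = 0 := by
  have := isom_B hy (y a) b
  rw [show y (y a) = a from LinearEquiv.congr_fun h1 a] at this
  simp only [sub_left, sub_right, isom_B hy, this]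
  linear_combination (S.B a b - S.B (y a) b) * h2

theorem Form.RS.exists_mov (h : RS S0 S j ζ) {y : V ≃ₗ[F] V} (h1 : Rat j 1 y) (h2 : y ≠ 1) :
    ∃ u a, u ≠ 0 ∧ j u = y (j a) - j a := by
  by_contra! h3
  refine h2 (LinearEquiv.ext fun v => sub_eq_zero.1 (LinearMap.mem_ker.1
    (h.ind (U := LinearMap.ker (y.toLinearMap - 1)) (fun a => ?_) v)))
  obtain ⟨a', h4⟩ := h1 a
  by_contra e
  exact h3 (a' - a) a (fun e' => e (by simp [h4, sub_eq_zero.1 e'])) (by simp [h4])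

/-- forms with rational transvections -/
theorem Form.Ov.rat_of_isMax [Finite F] [FiniteDimensional F V] (h : Ov S0 S j ζ H) (hT : T.IsMax)
    (hR : ∀ α ∈ h.lev, ∃ d, φ d = α) (hp : (2 : F) = 0 → ∀ c : F, (∃ d, φ d = c ^ 2) → ∃ d, φ d = c)
    (hH : ∀ g ∈ S.EG, Rat j 1 g → g ∈ H) {l : K} (hl : l ≠ 0) (hΛ : ζ * φ l ∈ T.Λ) {g : V ≃ₗ[F] V}
    (hg : g ∈ H) : ∃ c, Rat j c g := by
  by_cases h2 : (2 : F) = 0
  · refine h.rat_of_char_two hR h2 (hp h2) (fun y a b c d => ?_) hg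
    obtain ⟨u, x, h3, h4⟩ := h.exists_mov b d
    exact ⟨u, _, (h.q u).1 (hT.q_eq_zero S (h4 ▸ B_mov_invol h2 (h.le a) c _ _)), h3, h4⟩
  refine h.rat_of_tv hR h2 (mul_ne_zero h.ne ((map_ne_zero φ).2 hl)) (fun u hu =>
    ⟨⟨(h.q u).2 hu, by simp, by rw [q_zero, T.π_eq_zero_iff.2 hΛ]⟩, hH _ (eich_mem_EG _) fun a => ?_⟩) hg
  obtain ⟨e, he⟩ := h.exists_ε
  have := h.ne
  exact ⟨a - (e * l * S0.B a u) • u, by
    simp only [eich_apply, map_sub, map_smulₛₗ, map_mul, he, h.B, zero_right]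
    match_scalars <;> field_simp; ring⟩

theorem Form.Ov.rat_orth [Finite F] [Finite K] [FiniteDimensional F V] {S0 : Form (orthParam K) V0}
    {S : Form (orthParam F) V} (h : Ov S0 S j ζ H) (hd : 5 ≤ finrank F V) (hH : H ≤ S.EG)
    (hR : ∀ α ∈ h.lev, ∃ d, φ d = α)
    (hp : ∀ p : ℕ, p.Prime → (p : F) = 0 → ∀ c : F, (∃ d, φ d = c ^ p) → ∃ d, φ d = c) {g : V ≃ₗ[F] V}
    (hg : g ∈ H) : ∃ c, Rat j c g := by
  by_cases h2 : (2 : F) = 0
  swap
  · haveI := Fintype.ofFinite F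
    obtain ⟨p, _, k, h1, -⟩ := FiniteField.card' F
    exact h.rat_of_orth hR h2 (CharP.cast_eq_zero F p) (hp p h1 (CharP.cast_eq_zero F p)) hg
  refine h.rat_of_char_two hR h2 (hp 2 Nat.prime_two h2) (fun y a b c d => ?_) hg
  obtain ⟨u, x, h3, h4⟩ := h.exists_mov b d
  by_cases h5 : S0.Q u = 0
  · exact ⟨u, _, S0.q_eq_zero_iff.2 h5, h3, h4⟩
  obtain ⟨x', h6⟩ : ∃ x', y (j x') - j x' ∉ Submodule.span F {j u} := by
    by_contra! h6
    have h7 : mov y ≤ Submodule.span F {j u} := by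
      rintro _ ⟨v, rfl⟩
      exact h.ind (U := (Submodule.span F {j u}).comap (y.toLinearMap - LinearMap.id)) (fun a => Submodule.mem_comap.2 (h6 a)) v
    have h8 := (Submodule.finrank_mono h7).trans (finrank_span_single_le _)
    obtain ⟨k, hk⟩ := dk_eq_one_iff.1 (h.nd.dk_om (.inr (by omega)) (h.nd.om_eq_EG_of_five hd ▸ hH a))
    exact d (mov_eq_bot_iff.1 (Submodule.finrank_eq_zero.1 (by omega)))
  obtain ⟨w, hw⟩ := b x'
  have h7 : (2 : K) = 0 := φ.injective (by rw [map_ofNat, h2, map_zero])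
  obtain ⟨t, ht⟩ := exists_sq_of_two_eq_zero h7 (S0.Q (w - x') / S0.Q u)
  have h8 : j (w - x') = y (j x') - j x' := by simp [hw]
  have h9 : S0.B (w - x') u = 0 := by
    simpa [← h8, ← h4, h.B, h.ne, -map_sub] using B_mov_invol h2 (h.le a) c (j x') (j x)
  refine ⟨w - x' + t • u, j (x' + t • x), S0.q_eq_zero_iff.2 ?_, fun e => h6 ?_, ?_⟩
  · rw [Q_add, Q_smul, smul_right, h9, ht, div_mul_cancel₀ _ h5]
    linear_combination S0.Q (w - x') * h7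
  · rw [← h8, eq_neg_of_add_eq_zero_left e, map_neg, map_smulₛₗ]
    exact neg_mem (Submodule.smul_mem _ _ (Submodule.mem_span_singleton_self _))
  · simp only [map_add, map_smulₛₗ, h8, h4, map_smul, RingHom.id_apply]; module

end Branch

theorem isMaximalIn_subfield_orth [Fintype F] {S : Form (orthParam F) (ι → F)} {Q : (ι → F) → F}
    (hQ : ∀ v, S.Q v = Q v) (hS : S.Nondeg) (hn : 9 ≤ Fintype.card ι) {r : ℕ} (hr : r.Prime)
    (hc : Fintype.card F = Nat.card F₀ ^ r) {ζ : F} (hζ : ζ ≠ 0)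
    (hP : IsQuadFormRationalStructure (fun v => ζ * Q v) F₀ P) :
    IsMaximalIn (omegaGL Q) (subfieldSubgroup F₀ P ⊓ omegaGL Q) := by
  let Q0 : (ι → F₀) → F₀ := fun v => ⟨ζ * S.Q (jP F₀ P v), hQ _ ▸ hP _ fun i => (v i).2⟩
  have h1 : ∀ u v, (QuadraticMap.polar Q0 u v : F₀) = ζ * S.B (jP F₀ P u) (jP F₀ P v) := fun u v => by
    simp [QuadraticMap.polar, Q0, Q_add]; ring
  let S0 := ofQuad Q0 (fun c x => Subtype.ext (by simp [Q0, map_smulₛₗ, Q_smul]; ring))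
    (fun x y z => Subtype.ext (by simp [h1, mul_add])) fun c x z => Subtype.ext (by simp [h1, map_smulₛₗ]; ring)
  exact isMaximalIn_subfield (rs_of (S0 := S0) hS hζ h1 (fun h => good_orth h (by simp; omega)) (fun _ => rfl)
    (fun v => by simp [q_eq_zero_iff, S0, ofQuad_Q, Q0, Subtype.ext_iff, hζ]) hn)
    (omegaGL_eq' hQ hS (by omega)) hr hc (fun l hl => .inl ⟨0, by simpa using orthParam_π_zero.1 (FParam.π_eq_zero_iff _ |>.2 hl)⟩)
    fun H h a _ b g => h.rat_orth (by simp; omega) a b fun p => pow_mem_subfield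

theorem isMaximalIn_subfield_unit [Fintype F] {q n : ℕ} (hF : Fintype.card F = q ^ 2) (hn : 3 ≤ n)
    {P : GL (Fin n) F} {T0 : FParam F₀} {S0 : Form T0 (Fin n → F₀)} {ζ : F}
    (h : RS S0 (uForm hF n) (jP F₀ P) ζ) {r : ℕ} (hr : r.Prime) (hc : Fintype.card F = Nat.card F₀ ^ r)
    (hB : r = 2 ∨ ∃ l : F₀, l ≠ 0 ∧ ζ * l ∈ (uParam hF).Λ) :
    IsMaximalIn (GU n F q ⊓ specialLinear (Fin n) F)
      (subfieldSubgroup F₀ P ⊓ (GU n F q ⊓ specialLinear (Fin n) F)) := by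
  refine isMaximalIn_subfield h (SU_gl_eq' hF hn) hr hc (fun l hl => .inl ?_) fun H h _ a b g => ?_
  · obtain ⟨θ, hθ⟩ := exists_trace_one _ (frobQ_invol hF) (frobQ_ne hF)
    rw [unitParam_mem] at hl
    refine ⟨θ * l, ?_⟩
    simp only [unitParam_σ, unitParam_ε, map_mul]
    linear_combination (-l) * hθ + frobQ hF θ * hl
  · rcases hB with rfl | ⟨l, h1, h2⟩
    · exact h.rat_of_two b (h.two hc)
    · exact h.rat_of_isMax (unitParam_isMax _ _) b (pow_mem_subfield Nat.prime_two) a h1 h2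

end CfsgH5
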