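import Cfsg.Agent.H5.Sf3

/-!
Maximality of subfield subgroups of special linear groups.
-/

set_option autoImplicit false

namespace CfsgH5

open Module Form

theorem exists_vec_pair {K V : Type*} [Field K] [AddCommGroup V] [Module K V] [FiniteDimensional K V]
    {ψ χ : Dual K V} (h : ψ ∉ Submodule.span K {χ}) : ∃ u, ψ u = 1 ∧ χ u = 0 := by
  obtain ⟨f, hf⟩ := exists_dual_pair h
  obtain ⟨u, rfl⟩ := (evalEquiv K V).surjective f
  exact ⟨u, hf⟩

theorem exists_notMem_ker {K V : Type*} [Field K] [AddCommGroup V] [Module K V] [FiniteDimensional K V]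
    (hd : 3 ≤ finrank K V) (ψ : Dual K V) (v : V) : ∃ w, ψ w = 0 ∧ w ∉ Submodule.span K {v} := by
  have h1 := ψ.finrank_range_add_finrank_ker
  have h2 := (LinearMap.range ψ).finrank_le
  have h3 := finrank_span_single_le (F := K) v
  rw [finrank_self] at h2
  exact exists_mem_notMem (U := LinearMap.ker ψ) (by omega)

theorem exists_ker_two {K V : Type*} [Field K] [AddCommGroup V] [Module K V] [FiniteDimensional K V]
    (hd : 3 ≤ finrank K V) (ψ χ : Dual K V) : ∃ w, w ≠ 0 ∧ ψ w = 0 ∧ χ w = 0 := by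
  have h1 := (ψ.prod χ).finrank_range_add_finrank_ker
  have h2 := (LinearMap.range (ψ.prod χ)).finrank_le
  rw [finrank_prod, finrank_self] at h2
  obtain ⟨w, h3, h4⟩ := (LinearMap.ker (ψ.prod χ)).exists_mem_ne_zero_of_ne_bot fun e => by
    rw [e, finrank_bot] at h1; omega
  exact ⟨w, h4, Prod.mk_eq_zero.1 h3⟩

variable {K F : Type*} [Field K] [Field F] {φ : K →+* F}
  {V0 V : Type*} [AddCommGroup V0] [Module K V0] [AddCommGroup V] [Module F V]
  {j : V0 →ₛₗ[φ] V} {x : Dual K V0 →ₛₗ[φ] Dual F V} {H : Subgroup (V ≃ₗ[F] V)}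

/-- an overgroup of the group generated by the rational transvections -/
structure OL (j : V0 →ₛₗ[φ] V) (x : Dual K V0 →ₛₗ[φ] Dual F V) (H : Subgroup (V ≃ₗ[F] V)) : Prop where
  ex : ∀ ψ v, x ψ (j v) = φ (ψ v)
  span : Submodule.span F (Set.range j) = ⊤
  dim : 5 ≤ finrank K V0
  mem : ∀ ψ v, ψ v = 0 → tr (x ψ) (j v) ∈ H

namespace OL

variable (h : OL j x H)
include h

theorem fd : FiniteDimensional K V0 := Module.finite_of_finrank_pos (by have := h.dim; omega)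

theorem d3 : 3 ≤ finrank K V0 := by have := h.dim; omega

theorem d3' : 3 ≤ finrank K (Dual K V0) := Subspace.dual_finrank_eq (K := K) (V := V0) ▸ h.d3

theorem ind {U : Submodule F V} (hU : ∀ a, j a ∈ U) (v : V) : v ∈ U :=
  (Submodule.span_le.2 (by rintro _ ⟨a, rfl⟩; exact hU a) : _ ≤ U) (h.span.ge trivial)

theorem exists_ne {θ : Dual F V} (hx : θ ≠ 0) : ∃ a, θ (j a) ≠ 0 := by
  by_contra! h1
  exact hx (LinearMap.ext fun y => h.ind (U := LinearMap.ker θ) h1 y)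

theorem ne_zero {v : V0} (hv : v ≠ 0) : j v ≠ 0 := fun e => by
  obtain ⟨ψ, h1⟩ := exists_dual_one (F := K) hv
  simpa [e, h1] using h.ex ψ v

theorem ne_zero' {ψ : Dual K V0} (hv : ψ ≠ 0) : x ψ ≠ 0 := fun e => by
  obtain ⟨v, h1⟩ := exists_apply_one hv
  simpa [e, h1] using h.ex ψ v

theorem inj {u v : V0} (e : j u = j v) : u = v :=
  sub_eq_zero.1 (by_contra fun h1 => h.ne_zero h1 (by rw [map_sub, e, sub_self]))

theorem mem_range {u v : V0} (hu : u ≠ 0) {c : F} (e : c • j u = j v) : ∃ d, φ d = c := by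
  obtain ⟨ψ, h1⟩ := exists_dual_one (F := K) hu
  exact ⟨ψ v, by simpa [h.ex, h1] using (congrArg (x ψ) e).symm⟩

theorem exists_of_dual {y : V} (hy : ∀ ψ, ∃ d, φ d = x ψ y) : ∃ v, y = j v := by
  haveI := h.fd
  let b := finBasis K V0
  choose d hd using fun i => hy (b.coord i)
  refine ⟨∑ i, d i • b i, ?_⟩
  have := h.ind (U := LinearMap.eqLocus LinearMap.id (∑ i, (x (b.coord i)).smulRight (j (b i)))) (fun a => by
    refine (congrArg j (b.sum_repr a).symm).trans ?_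
    simp [h.ex, map_smulₛₗ, -Module.Basis.sum_repr]) y
  simpa [map_smulₛₗ, hd] using this

theorem mem_line {v : V0} (hv : v ≠ 0) {y : V} (hy : ∀ ψ, ψ v = 0 → x ψ y = 0) :
    y ∈ Submodule.span F {j v} := by
  obtain ⟨χ, h1⟩ := exists_dual_one (F := K) hv
  have key : ∀ a : F, ∃ w, a • (y - x χ y • j v) = j w := fun a => h.exists_of_dual fun ψ => ⟨0, by
    have := hy (ψ - ψ v • χ) (by simp [h1])
    simp only [map_sub, map_smulₛₗ, LinearMap.sub_apply, LinearMap.smul_apply, smul_eq_mul, h.ex,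
      RingHom.id_apply, map_zero] at this ⊢
    linear_combination -a * this⟩
  obtain ⟨w, hw⟩ := key 1
  have h2 : w = 0 := by_contra fun e => by
    obtain ⟨ψ, h3⟩ := exists_dual_one (F := K) e
    have := hy (ψ - ψ v • χ) (by simp [h1])
    have h4 := congrArg (x ψ) hw
    simp only [map_sub, map_smulₛₗ, LinearMap.sub_apply, LinearMap.smul_apply, smul_eq_mul, h.ex,
      RingHom.id_apply, h3, map_one] at this h4
    exact one_ne_zero (by linear_combination this - h4 : (1 : F) = 0)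
  exact Submodule.mem_span_singleton.2 ⟨_, (sub_eq_zero.1 (by simpa [h2] using hw)).symm⟩

theorem exists_ex {θ : Dual F V} (hy : ∀ v, ∃ d, φ d = θ (j v)) : ∃ ψ, θ = x ψ := by
  choose ψ hψ using hy
  exact ⟨⟨⟨ψ, fun a b => φ.injective (by simp [hψ])⟩, fun c a => φ.injective (by simp [hψ, map_smulₛₗ])⟩,
    LinearMap.ext fun y => h.ind (U := LinearMap.eqLocus _ _) (fun a => by simp [h.ex, hψ]) y⟩

theorem finrank_le {U : Submodule K V0} {W : Submodule F V} [FiniteDimensional F W]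
    (hU : ∀ a ∈ U, j a ∈ W) : finrank K U ≤ finrank F W := by
  classical
  haveI := h.fd
  let b := finBasis K U
  obtain ⟨g, hg⟩ := U.subtype.exists_leftInverse_of_injective U.ker_subtype
  have : LinearIndependent F fun i => (⟨j (b i), hU _ (b i).2⟩ : W) := by
    refine Fintype.linearIndependent_iff.2 fun c hc i => ?_
    have := congrArg (fun y : W => x (b.coord i ∘ₗ g) y) hc
    have h1 : ∀ u : U, g u = u := LinearMap.congr_fun hg
    simpa [h.ex, h1, Finsupp.single_apply, apply_ite φ] using this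
  simpa using this.fintype_card_le_finrank

theorem exists_lin {A : V →ₗ[F] V} (hA : ∀ a, ∃ a', A (j a) = j a') :
    ∃ A0 : V0 →ₗ[K] V0, ∀ a, A (j a) = j (A0 a) := by
  choose f hf using hA
  exact ⟨⟨⟨f, fun a b => h.inj (by simp [← hf])⟩, fun c a => h.inj (by simp [← hf, map_smulₛₗ])⟩, hf⟩

theorem move1 {θ : Dual F V} {y : V} (h0 : θ y = 0) (h1 : tr θ y ∈ H) {ψ : Dual K V0} {w : V0} (h2 : ψ w = 0)
    (h3 : x ψ y = 0) : tr (x ψ) (θ (j w) • y) ∈ H :=
  commutator_tr_mem h0 (by simp [h.ex, h2]) h3 h1 (h.mem ψ w h2)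

theorem move2 {θ : Dual F V} {y : V} (h0 : θ y = 0) (h1 : tr θ y ∈ H) {ψ : Dual K V0} {w : V0} (h2 : ψ w = 0)
    (h3 : θ (j w) = 0) : tr θ (x ψ y • j w) ∈ H :=
  commutator_tr_mem (by simp [h.ex, h2]) h0 h3 (h.mem ψ w h2) h1

/-- the level -/
def lev : Subring F where
  carrier := {α | ∀ ψ v, ψ v = 0 → tr (x ψ) (α • j v) ∈ H}
  add_mem' a b ψ v h1 := by
    rw [add_smul, ← tr_mul_right (by simp [h.ex, h1]) (by simp [h.ex, h1])]
    exact mul_mem (a ψ v h1) (b ψ v h1)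
  zero_mem' ψ v _ := by simp
  neg_mem' a ψ v h1 := by
    rw [neg_smul, ← tr_inv (by simp [h.ex, h1])]; exact inv_mem (a ψ v h1)
  one_mem' ψ v h1 := by simpa using h.mem ψ v h1
  mul_mem' {α β} a b ψ v h1 := by
    haveI := h.fd
    obtain ⟨w, h2, h3⟩ := exists_notMem_ker h.d3 ψ v
    obtain ⟨χ, h4, h5⟩ := exists_dual_pair h3
    simpa [h.ex, h4, smul_smul] using commutator_tr_mem (by simp [h.ex, h5]) (by simp [h.ex, h2])
      (by simp [h.ex, h1]) (b χ v h5) (a ψ w h2)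

theorem φ_mem_lev (c : K) : φ c ∈ h.lev := fun ψ v h1 => by
  simpa only [map_smulₛₗ] using h.mem ψ (c • v) (by simp [h1])

theorem mem_lev {ψ : Dual K V0} {v : V0} (hψ : ψ ≠ 0) (hv : v ≠ 0) (h0 : ψ v = 0) {α : F}
    (h1 : tr (x ψ) (α • j v) ∈ H) : α ∈ h.lev := by
  haveI := h.fd
  have k1 : ∀ {ψ v}, v ≠ 0 → ψ v = 0 → tr (x ψ) (α • j v) ∈ H → ∀ w, ψ w = 0 → tr (x ψ) (α • j w) ∈ H := by
    intro ψ v hv h0 h1 w hw
    obtain ⟨u, h2, h3⟩ := exists_notMem_ker h.d3 ψ v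
    refine (mem_of_notMem_imp (U := LinearMap.ker ψ) (A := ⟨⟨⟨{w | ψ w = 0 ∧ tr (x ψ) (α • j w) ∈ H},
      fun a b => ⟨by simp [a.1, b.1], ?_⟩⟩, by simp⟩, fun a => ⟨by simp [a.1], ?_⟩⟩) h2 h3 (fun w a b => ⟨a, ?_⟩) hw).2
    · rw [map_add, smul_add, ← tr_mul_right (by simp [h.ex, a.1]) (by simp [h.ex, b.1])]
      exact mul_mem a.2 b.2
    · rw [map_neg, smul_neg, ← tr_inv (by simp [h.ex, a.1])]; exact inv_mem a.2
    · obtain ⟨χ, h4, h5⟩ := exists_dual_pair (notMem_span_symm hv b)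
      simpa [h.ex, h4] using h.move2 (by simp [h.ex, h0]) h1 h5 (by rw [h.ex, a, map_zero])
  have k2 : ∀ {ψ v}, ψ ≠ 0 → ψ v = 0 → tr (x ψ) (α • j v) ∈ H → ∀ χ, χ v = 0 → tr (x χ) (α • j v) ∈ H := by
    intro ψ v hv h0 h1 w hw
    obtain ⟨u, h2, h3⟩ := exists_notMem_ker h.d3' (Dual.eval K V0 v) ψ
    refine (mem_of_notMem_imp (U := LinearMap.ker (Dual.eval K V0 v))
      (A := ⟨⟨⟨{w | w v = 0 ∧ tr (x w) (α • j v) ∈ H},
      fun a b => ⟨by simp [a.1, b.1], ?_⟩⟩, by simp⟩, fun a => ⟨by simp [a.1], ?_⟩⟩) h2 h3 (fun w a b => ⟨a, ?_⟩) hw).2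
    · rw [map_add, ← tr_mul_left (by simp [h.ex, a.1]) (by simp [h.ex, b.1])]
      exact mul_mem a.2 b.2
    · rw [map_neg, ← tr_inv' (by simp [h.ex, a.1])]; exact inv_mem a.2
    · obtain ⟨χ, h4, h5⟩ := exists_vec_pair (notMem_span_symm hv b)
      simpa [h.ex, h4] using h.move1 (by simp [h.ex, h0]) h1 h5 (by simp [h.ex, show w v = 0 from a])
  intro χ w h2
  obtain ⟨u, h3, h4, h5⟩ := exists_ker_two h.d3 ψ χ
  exact k1 h3 h5 (k2 hψ h4 (k1 hv h0 h1 u h4) χ h5) w h2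

variable [FiniteDimensional F V]

theorem sl_le (hR : h.lev = ⊤) : slSub F V ≤ H := by
  refine sl_le_of_centres (eq_top_iff.2 fun v _ => h.ind (fun v => mem_centres.2 fun θ h0 => ?_) v)
  by_cases hv : v = 0
  · simp [hv]
  let X := Submodule.span F {θ | ∃ ψ, ψ v = 0 ∧ θ = x ψ}
  have h2 : ∀ θ ∈ X, θ (j v) = 0 ∧ ∀ a : F, tr (a • θ) (j v) ∈ H := fun θ hx => by
    induction hx using Submodule.span_induction with
    | mem θ hx =>
      obtain ⟨ψ, a, rfl⟩ := hx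
      have : x ψ (j v) = 0 := by simp [h.ex, a]
      exact ⟨this, fun α => tr_smul this α ▸ (hR.ge trivial : α ∈ h.lev) ψ v a⟩
    | zero => simp
    | add θ θ' _ _ a b => exact ⟨by simp [a.1, b.1], fun α => by
        rw [smul_add, ← tr_mul_left (by simp [a.1]) (by simp [b.1])]; exact mul_mem (a.2 α) (b.2 α)⟩
    | smul c θ _ a => exact ⟨by simp [a.1], fun α => smul_smul α c θ ▸ a.2 _⟩
  refine one_smul F θ ▸ (h2 θ (by_contra fun hn => ?_)).2 1
  obtain ⟨f, h3, h4⟩ := exists_dual_sep X hn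
  obtain ⟨y, rfl⟩ := (evalEquiv F V).surjective f
  obtain ⟨c, rfl⟩ := Submodule.mem_span_singleton.1
    (h.mem_line hv (y := y) fun ψ a => h4 _ (Submodule.subset_span ⟨ψ, a, rfl⟩))
  simp [h0] at h3

omit [FiniteDimensional F V]

variable (hR : ∀ α ∈ h.lev, ∃ d, φ d = α)
include hR

theorem rat_vec {ψ : Dual K V0} (hψ : ψ ≠ 0) {y : V} (h0 : x ψ y = 0) (h1 : tr (x ψ) y ∈ H) : ∃ v, y = j v :=
  haveI := h.fd
  h.exists_of_dual fun χ => let ⟨v, a, b, c⟩ := exists_ker_two h.d3 ψ χ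
    hR _ (h.mem_lev hψ a b (h.move2 h0 h1 c (by simp [h.ex, b])))

theorem rat_dual {v : V0} (hv : v ≠ 0) {θ : Dual F V} (h0 : θ (j v) = 0) (h1 : tr θ (j v) ∈ H) : ∃ ψ, θ = x ψ :=
  haveI := h.fd
  h.exists_ex fun w => let ⟨ψ, a, b, c⟩ := exists_ker_two h.d3' (Dual.eval K V0 v) (Dual.eval K V0 w)
    hR _ (h.mem_lev a hv b (h.move1 h0 h1 c (by simp [h.ex, show ψ v = 0 from b])))

theorem inc {g : V ≃ₗ[F] V} (hg : g ∈ H) {v : V0} {ψ : Dual K V0} (hv : v ≠ 0) (hψ : ψ ≠ 0)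
    (h0 : x ψ (g (j v)) = 0) : ∃ c, Rat j c g := by
  haveI := h.fd
  obtain ⟨w, h1, χ, h2, h3⟩ : ∃ w, ψ w = 0 ∧ ∃ χ, χ v = 0 ∧ x χ (g⁻¹ (j w)) ≠ 0 := by
    by_contra! h1
    have h2 := h.finrank_le (U := LinearMap.ker ψ) (W := Submodule.span F {g (j v)}) fun w hw => by
      obtain ⟨c, hc⟩ := Submodule.mem_span_singleton.1 (h.mem_line hv (h1 w hw))
      exact Submodule.mem_span_singleton.2 ⟨c, by rw [← map_smul, hc]; exact g.apply_symm_apply _⟩
    have := finrank_ker_dual hψ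
    have := finrank_span_single_le (F := F) (g (j v))
    have := h.dim
    omega
  obtain ⟨v', h4⟩ := h.rat_vec hR hψ (by simp [h0]) (h.move1 (by simp [h.ex, h2])
    (conj_tr_mem hg (h.mem χ v h2)) h1 h0)
  rw [dact_apply] at h4
  generalize x χ (g⁻¹ (j w)) = c at h3 h4
  refine ⟨c⁻¹, fun a => ?_⟩
  obtain ⟨χ, h5, h6, h7⟩ := exists_ker_two h.d3' (Dual.eval K V0 v) (Dual.eval K V0 a)
  replace h6 : χ v = 0 := h6
  replace h7 : χ a = 0 := h7
  obtain ⟨χ', h8⟩ := h.rat_dual hR (v := v') (θ := c⁻¹ • dact g (x χ)) (fun e => h.ne_zero hv (by simpa [e, h3] using h4))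
    (by simp [← h4, h.ex, h6]) (by
      rw [tr_smul (by simp [← h4, h.ex, h6]), ← h4, inv_smul_smul₀ h3]; exact conj_tr_mem hg (h.mem χ v h6))
  obtain ⟨a', h9⟩ := h.rat_vec hR (ψ := χ') (y := c • g (j a)) (fun e => dact_ne_zero g (h.ne_zero' h5) (by
    simpa [e, h3] using h8)) (by simp [← h8, h.ex, h7]) (by
      rw [← h8, tr_smul (by simp [h.ex, h7]), inv_smul_smul₀ h3]; exact conj_tr_mem hg (h.mem χ a h7))
  exact ⟨a', by rw [← h9, inv_smul_smul₀ h3]⟩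

omit hR in
theorem rat_one {g : V ≃ₗ[F] V} {c : F} (hg : Rat j c g) (hc : ∃ d, φ d = c) : Rat j 1 g := by
  obtain ⟨d, rfl⟩ := hc
  exact fun a => let ⟨y, hy⟩ := hg a; ⟨d • y, by rw [hy, map_smulₛₗ, one_smul]⟩

omit hR in
theorem exists_sub {g : V ≃ₗ[F] V} (hg : Rat j 1 g) : ∃ A : V0 →ₗ[K] V0, ∀ a, g (j a) - j a = j (A a) :=
  h.exists_lin (A := g.toLinearMap - 1) fun a => let ⟨y, hy⟩ := hg a; ⟨y - a, by simp [hy]⟩

theorem inc' {z g : V ≃ₗ[F] V} (hz : Rat j 1 z) {a b : V} (h1 : ∀ v, z v - v ∈ Submodule.span F {a, b})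
    (hg : g ∈ H) {v : V0} (hv : v ≠ 0) {y : V} (h2 : z y - y = g (j v)) : ∃ c, Rat j c g := by
  haveI := h.fd
  haveI := FiniteDimensional.span_of_finite F (Set.toFinite {a, b})
  obtain ⟨A, hA⟩ := h.exists_sub hz
  have h3 := (h.finrank_le (U := LinearMap.range A) (by rintro _ ⟨a, rfl⟩; exact hA a ▸ h1 _)).trans
    (finrank_span_pair_le a b)
  obtain ⟨w, h4⟩ := exists_notMem_of_finrank_lt (H := LinearMap.range A) (by have := h.dim; omega)
  obtain ⟨ψ, h5, h6⟩ := exists_dual_sep _ h4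
  exact h.inc hR hg hv (ψ := ψ) (fun e => by simp [e] at h5) (h2 ▸ h.ind
    (U := LinearMap.ker (x ψ ∘ₗ (z.toLinearMap - 1))) (fun a => by simp [hA, h.ex, h6]) y)

theorem rat_of_odd [Finite F] (h2 : (2 : F) ≠ 0) {g : V ≃ₗ[F] V} (hg : g ∈ H) : ∃ c, Rat j c g := by
  haveI := h.fd
  obtain ⟨v, hv, -⟩ := exists_ker_two h.d3 (0 : Dual K V0) 0
  obtain ⟨ψ, hψ, h0, -⟩ := exists_ker_two h.d3' (Dual.eval K V0 v) 0
  replace h0 : x ψ (j v) = 0 := by rw [h.ex, show ψ v = 0 from h0, map_zero]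
  have h1 := h.mem ψ v (by simpa [h.ex] using h0)
  by_cases h3 : x ψ (g (j v)) = 0
  · exact h.inc hR hg hv hψ h3
  by_cases h4 : dact g (x ψ) (j v) = 0
  · obtain ⟨c, h5⟩ := h.inc hR (inv_mem hg) hv hψ h4
    have hc : c ≠ 0 := let ⟨_, e⟩ := h5 v; left_ne_zero_of_smul (e ▸ g⁻¹.map_ne_zero_iff.2 (h.ne_zero hv))
    obtain ⟨A, hA⟩ := h.exists_lin (A := c⁻¹ • g⁻¹.toLinearMap) fun a => let ⟨y, hy⟩ := h5 a; ⟨y, by simp [hy, hc]⟩
    refine ⟨c⁻¹, fun a => ?_⟩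
    obtain ⟨b, rfl⟩ := LinearMap.injective_iff_surjective.1 ((injective_iff_map_eq_zero A).2 fun a e =>
      by_contra fun e' => h.ne_zero e' (by simpa [e, hc] using hA a)) a
    exact ⟨b, by rw [← hA]; simp⟩
  have h5 : dact g (x ψ) (g (j v)) = 0 := by simp [h0]
  obtain ⟨z, hz, h6⟩ := exists_neg_of_pair h2 h1 (conj_tr_mem hg h1) (A := (x ψ).smulRight (j v))
    (B := (dact g (x ψ)).smulRight (g (j v))) (tr_apply h0) (tr_apply h5) (by simp [h0]) (by simp [h0])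
    (mul_ne_zero h3 h4) (fun v => by simp only [LinearMap.smulRight_apply, map_smul]; module)
    (fun v => by simp only [LinearMap.smulRight_apply, map_smul]; module)
  have h7 : z (j v) = -j v := by
    simp only [h6, LinearMap.smulRight_apply, map_smul, h0]; match_scalars <;> field_simp <;> ring
  obtain ⟨c, h8⟩ := h.inc hR hz hv hψ (by simp [h7, h0])
  obtain ⟨v', h9⟩ := h8 v
  refine h.inc' hR (h.rat_one h8 (h.mem_range (u := v') (v := -v) (fun e => h.ne_zero hv (by simpa [e] using h9))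
    (by rw [← h9, h7, map_neg]))) (a := j v) (b := g (j v)) (fun v => ?_) hg hv (y := (-2 : F)⁻¹ • g (j v)) ?_
  · rw [h6, sub_sub_cancel_left]
    exact neg_mem (Submodule.smul_mem _ _ (add_mem (Submodule.smul_mem _ _ (Submodule.subset_span (by simp)))
      (Submodule.smul_mem _ _ (Submodule.subset_span (by simp)))))
  · simp only [h6, LinearMap.smulRight_apply, map_smul, h5]; match_scalars <;> field_simp <;> ring

theorem rat_of_comm (h2 : (2 : F) = 0) {y : V ≃ₗ[F] V} (h1 : Rat j 1 y) (h3 : y * y = 1) (h4 : y ≠ 1)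
    {g : V ≃ₗ[F] V} (hg : g ∈ H) (h5 : y * g = g * y) : ∃ c, Rat j c g := by
  obtain ⟨A, hA⟩ := h.exists_sub h1
  obtain ⟨a, ha⟩ : ∃ a, A a ≠ 0 := by
    by_contra! e
    exact h4 (LinearEquiv.ext fun v => h.ind (U := LinearMap.eqLocus y.toLinearMap LinearMap.id)
      (fun a => sub_eq_zero.1 (by simpa [e] using hA a)) v)
  obtain ⟨χ, h6⟩ := exists_dual_one (F := K) ha
  refine h.inc hR hg ha (ψ := χ ∘ₗ A) (fun e => by simpa [h6] using LinearMap.congr_fun e a) ?_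
  have h7 : x (χ ∘ₗ A) (g (j (A a))) = x χ (y (g (j (A a))) - g (j (A a))) :=
    h.ind (U := LinearMap.eqLocus _ (x χ ∘ₗ (y.toLinearMap - 1))) (fun a => by simp [h.ex, hA]) _
  have h8 : y (j (A a)) = j (A a) := by
    rw [← hA, map_sub, show y (y (j a)) = j a from LinearEquiv.congr_fun h3 _]
    linear_combination (norm := module) h2 • (j a - y (j a))
  rw [h7, show y (g _) = g (y _) from LinearEquiv.congr_fun h5 _, h8, sub_self, map_zero]

theorem rat_of_two [Finite F] [FiniteDimensional F V] (h2 : (2 : F) = 0)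
    (hp : ∀ c : F, (∃ d, φ d = c ^ 2) → ∃ d, φ d = c) {g : V ≃ₗ[F] V} (hg : g ∈ H) : ∃ c, Rat j c g := by
  haveI := h.fd
  haveI := Module.finite_of_finite F (M := V)
  haveI : Finite (V ≃ₗ[F] V) := Finite.of_injective _ DFunLike.coe_injective
  let b := finBasis K V0
  let e : Fin 4 → V0 := fun i => b (Fin.castLE (by have := h.dim; omega) i)
  let f : Fin 4 → Dual K V0 := fun i => b.coord (Fin.castLE (by have := h.dim; omega) i)
  have hb : ∀ i k, f i (e k) = if k = i then 1 else 0 := fun i k => by simp [e, f, Finsupp.single_apply]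
  have he : ∀ i, e i ≠ 0 := fun i => b.ne_zero _
  clear_value e f
  have key : ∀ {y : V ≃ₗ[F] V}, y * y = 1 → (∃ c, Rat j c y) → Rat j 1 y := fun {y} h1 ⟨c, h3⟩ => by
    obtain ⟨u, hu⟩ := h3 (e 0)
    obtain ⟨w, hw⟩ := h3 u
    have := LinearEquiv.congr_fun h1 (j (e 0))
    rw [LinearEquiv.mul_apply, hu, map_smul, hw, smul_smul, ← sq] at this
    exact h.rat_one h3 (hp c (h.mem_range (fun e' => h.ne_zero (he 0) (by simpa [e'] using this.symm)) this))
  have sq : ∀ {θ : Dual F V} {v}, θ v = 0 → tr θ v * tr θ v = 1 := fun h => by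
    rw [tr_mul_right h h, ← two_smul F, h2, zero_smul, tr_zero_right]
  have a1 := h.mem (f 1) (e 0) (by simp [hb])
  have a2 := h.mem (f 3) (e 2) (by simp [hb])
  have z1 : x (f 1) (j (e 0)) = 0 := by simp [h.ex, hb]
  have z2 : x (f 3) (j (e 2)) = 0 := by simp [h.ex, hb]
  have z3 : dact g (x (f 1)) (g (j (e 0))) = 0 := by simp [z1]
  have c3 : ∀ v, (tr (x (f 1)) (j (e 0)) * tr (x (f 3)) (j (e 2))) v =
      v + x (f 1) v • j (e 0) + x (f 3) v • j (e 2) := fun v => by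
    simp [tr_apply z1, tr_apply z2, h.ex, hb]; abel
  have c2 : tr (x (f 1)) (j (e 0)) * tr (x (f 3)) (j (e 2)) * (tr (x (f 1)) (j (e 0)) * tr (x (f 3)) (j (e 2))) = 1 :=
    LinearEquiv.ext fun v => by
      rw [LinearEquiv.mul_apply, c3, c3]
      simp [h.ex, hb]
      linear_combination (norm := module) h2 • (x (f 1) v • j (e 0) + x (f 3) v • j (e 2))
  obtain ⟨n, b1, b2, b3, b4⟩ := exists_central_invol c2 (sq z3) fun hc => by
    obtain ⟨s, hs⟩ := isConj_iff.1 hc.symm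
    have h6 : ∀ v, x (f 1) v • j (e 0) + x (f 3) v • j (e 2) ∈ Submodule.span F {s (g (j (e 0)))} := fun v =>
      Submodule.mem_span_singleton.2 ⟨dact s (dact g (x (f 1))) v, add_left_cancel (a := v) (by
        rw [← add_assoc, ← c3, ← hs, conj_tr, tr_apply (by simp [z1])])⟩
    obtain ⟨α, h7⟩ := Submodule.mem_span_singleton.1 (h6 (j (e 1)))
    obtain ⟨β, h8⟩ := Submodule.mem_span_singleton.1 (h6 (j (e 3)))
    have i1 := congrArg (x (f 0)) h7
    have i2 := congrArg (x (f 0)) h8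
    have i3 := congrArg (x (f 2)) h8
    simp [h.ex, hb] at i1 i2 i3
    rcases i2 with e | e <;> simp [e] at i1 i3
  have hb' := conj_tr_mem hg a1
  have hyH := pow_mem (mul_mem (mul_mem a1 a2) hb') n
  have h6 := key b2 (h.rat_of_comm hR h2 (fun a => ⟨a + f 1 a • e 0 + f 3 a • e 2, by
    simp [c3, h.ex, map_smulₛₗ]⟩) c2 (fun e' => h.ne_zero (he 0) (by
      simpa [c3, h.ex, hb] using LinearEquiv.congr_fun e' (j (e 1)))) hyH b3.symm)
  exact h.inc' hR (key (sq z3) (h.rat_of_comm hR h2 h6 b2 b1 hb' b4)) (a := g (j (e 0))) (b := 0)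
    (fun v => by rw [tr_apply z3, add_sub_cancel_left]; exact Submodule.smul_mem _ _ (Submodule.subset_span (by simp)))
    hg (he 0) (y := g (j (e 1))) (by simp [tr_apply z3, h.ex, hb])

end OL

open Matrix Cfsg Cfsg.Geo in
theorem isMaximalIn_subfield_sl [Fintype F] {ι : Type} [Fintype ι] [DecidableEq ι] (hn : 5 ≤ Fintype.card ι)
    (F₀ : Subfield F) (P : GL ι F) {r : ℕ} (hr : r.Prime) (hc : Fintype.card F = Nat.card F₀ ^ r) :
    IsMaximalIn (specialLinear ι F) (subfieldSubgroup F₀ P ⊓ specialLinear ι F) := by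
  let x : Dual F₀ (ι → F₀) →ₛₗ[F₀.subtype] Dual F (ι → F) :=
    ⟨⟨fun ψ => ∑ i, (ψ (Pi.single i 1) : F) • (LinearMap.proj i ∘ₗ P⁻¹.1.mulVecLin), fun a b => by
      simp [add_smul, Finset.sum_add_distrib]⟩, fun c a => by simp [Finset.smul_sum, smul_smul]⟩
  have hx : ∀ ψ v, x ψ (jP F₀ P v) = F₀.subtype (ψ v) := fun ψ v => by
    conv_rhs => rw [pi_eq_sum_univ' v]
    simp [x, jP_apply, mul_comm]
  have h0 : OL (jP F₀ P) x ⊤ := ⟨hx, jP_span, by simpa, fun _ _ _ => trivial⟩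
  obtain ⟨v, hv, -⟩ := exists_ker_two h0.d3 (0 : Dual F₀ (ι → F₀)) 0
  refine isMaximalIn_gl specialLinear_eq (fun g => ∃ c, c ≠ 0 ∧ Rat (jP F₀ P) c g) (fun _ => mem_subfield_rat) ?_
    fun H h2 h3 g hg hn => ?_
  · obtain ⟨a, ha⟩ : ∃ a, a ∉ F₀ := by
      by_contra! h2
      rw [← Nat.card_eq_fintype_card, ← Nat.card_congr (Equiv.subtypeUnivEquiv h2)] at hc
      exact (lt_self_pow₀ Finite.one_lt_card hr.one_lt).ne hc
    obtain ⟨ψ, h1, h2, -⟩ := exists_ker_two h0.d3' (Dual.eval _ _ v) 0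
    replace h2 : x ψ (jP F₀ P v) = 0 := by rw [hx, show ψ v = 0 from h2, map_zero]
    obtain ⟨w, hw⟩ := exists_apply_one h1
    refine ⟨_, tr_mem_sl (x ψ) (a • jP F₀ P v), fun ⟨c, h5, h6⟩ => ha ?_⟩
    obtain ⟨y, hy⟩ := h6 v
    obtain ⟨z, hz⟩ := h6 w
    rw [tr_fix _ h2] at hy
    obtain ⟨d, rfl⟩ := h0.mem_range (fun e => h0.ne_zero hv (by simpa [e] using hy)) hy.symm
    obtain ⟨d', rfl⟩ := h0.mem_range (v := d • z - w) (c := a) hv (by
      rw [map_sub, map_smulₛₗ, ← hz, tr_apply (by simp [h2]), hx, hw]; simp)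
    exact d'.2
  · have h5 : OL (jP F₀ P) x H := ⟨hx, jP_span, h0.dim, fun ψ v h => h2 _ (tr_mem_sl _ _)
      ⟨1, one_ne_zero, fun a => ⟨a + ψ a • v, by simp [tr_apply, hx, h, map_smulₛₗ]⟩⟩⟩
    refine h5.sl_le ((subring_cases hr hc h5.φ_mem_lev).resolve_left fun h6 => hn ?_)
    obtain ⟨c, h7⟩ : ∃ c, Rat (jP F₀ P) c g := by
      by_cases h : (2 : F) = 0
      exacts [h5.rat_of_two h6 h (pow_mem_subfield Nat.prime_two h) hg, h5.rat_of_odd h6 h hg]
    obtain ⟨y, hy⟩ := h7 v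
    exact ⟨c, left_ne_zero_of_smul (hy ▸ g.map_ne_zero_iff.2 (h0.ne_zero hv)), h7⟩

end CfsgH5
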