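import Cfsg.Agent.H5.El4
import Cfsg.Agent.H2.Extra
import Cfsg.Agent.H1.Cores
import Cfsg.Prelude.Def_MonsterType

/-! Elementary transvections, and centralizers of transvections over the field of order two. -/

open Module Subgroup
open scoped commutatorElement

namespace CfsgH5

section Et

variable {ι : Type*} [Fintype ι] [DecidableEq ι] {F : Type*} [Field F]

/-- The elementary transvection `x ↦ x + c x_j e_i`. -/
noncomputable def et (i j : ι) (c : F) : (ι → F) ≃ₗ[F] (ι → F) :=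
  tr (c • LinearMap.proj j) (Pi.single i 1)

theorem et_aux {i j : ι} (h : i ≠ j) (c : F) :
    (c • LinearMap.proj j : Dual F (ι → F)) (Pi.single i 1) = 0 := by simp [h.symm]

theorem et_apply {i j : ι} (h : i ≠ j) (c : F) (x : ι → F) :
    et i j c x = x + (c * x j) • Pi.single i 1 := by
  rw [et, tr_apply (et_aux h c)]; rfl

theorem et_add {i j : ι} (h : i ≠ j) (c d : F) : et i j c * et i j d = et i j (c + d) := by
  rw [et, et, tr_mul_left (et_aux h c) (et_aux h d), ← add_smul, et]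

theorem et_zero (i j : ι) : et i j (0 : F) = 1 := by rw [et, zero_smul, tr_zero_left]

theorem et_inv {i j : ι} (h : i ≠ j) (c : F) : (et i j c)⁻¹ = et i j (-c) := by
  rw [eq_comm, eq_inv_iff_mul_eq_one, et_add h, neg_add_cancel, et_zero]

theorem slHom_et {i j : ι} (h : i ≠ j) {c : F} {g : Matrix.SpecialLinearGroup ι F}
    (hg : (g : Matrix ι ι F) = Matrix.transvection i j c) : slHom ι F g = et i j c := by
  ext x k
  rw [slHom_apply, hg, et_apply h, Matrix.transvection, Matrix.add_mulVec, Matrix.one_mulVec,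
    Matrix.single_mulVec]
  by_cases e : k = i <;> simp [e]

theorem et_comm {i j k : ι} (h1 : i ≠ j) (h2 : j ≠ k) (h3 : i ≠ k) (c : F) :
    ⁅et i j (1 : F), et j k c⁆ = et i k c := by
  rw [et, et, commutator_tr (et_aux h1 1) (et_aux h2 c) (et_aux h3 c), et]
  simp

theorem et_conj {g : (ι → F) ≃ₗ[F] (ι → F)} {σ : ι → ι} {a : ι → F} (hσ : Function.Injective σ)
    (ha : ∀ i, a i ≠ 0) (hg : ∀ i, g (Pi.single i 1) = a i • Pi.single (σ i) 1) {i j : ι} (h : i ≠ j)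
    (c : F) : g * et i j c * g⁻¹ = et (σ i) (σ j) (c * a i / a j) := by
  rw [mul_inv_eq_iff_eq_mul]
  refine (Pi.basisFun F ι).ext' fun k => ?_
  rw [Pi.basisFun_apply, LinearEquiv.mul_apply, LinearEquiv.mul_apply, et_apply h, et_apply (hσ.ne h),
    map_add, map_smul, hg, hg, smul_smul]
  congr 2
  by_cases e : j = k
  · subst e; have := ha j; simp; field_simp
  · simp [e, hσ.ne e]

theorem sl_le_of_et {K : Subgroup ((ι → F) ≃ₗ[F] (ι → F))} (h : ∀ i j, i ≠ j → ∀ c, et i j c ∈ K) :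
    slSub F (ι → F) ≤ K := by
  refine sl_le_of_centres (top_le_iff.1 ?_)
  rw [← (Pi.basisFun F ι).span_eq, Submodule.span_le]
  rintro _ ⟨i, rfl⟩
  rw [Pi.basisFun_apply]
  refine mem_centres.2 fun φ hφ => ?_
  have h1 : ∀ s : Finset ι, tr (∑ j ∈ s, φ (Pi.single j 1) • LinearMap.proj j) (Pi.single i (1 : F)) ∈ K ∧
      (∑ j ∈ s, φ (Pi.single j 1) • LinearMap.proj j : Dual F (ι → F)) (Pi.single i (1 : F)) = 0 := by
    intro s
    induction s using Finset.induction_on with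
    | empty => simp
    | insert j s hj ih =>
      rw [Finset.sum_insert hj]
      by_cases e : i = j
      · rw [← e, hφ, zero_smul, zero_add]; exact ih
      · exact ⟨tr_mul_left (et_aux e _) ih.2 ▸ K.mul_mem (h i j e _) ih.1,
          by rw [LinearMap.add_apply, ih.2, et_aux e, add_zero]⟩
  convert (h1 Finset.univ).1
  refine (Pi.basisFun F ι).ext fun k => ?_
  simp [Pi.single_apply]

theorem sl_le_of_shift {n : ℕ} (hn : 1 ≤ n) {K : Subgroup ((Fin (n + 1) → F) ≃ₗ[F] (Fin (n + 1) → F))}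
    {w} (hw : w ∈ K) {a : Fin (n + 1) → F} (ha : ∀ i, a i ≠ 0)
    (hg : ∀ i, w (Pi.single i 1) = a i • Pi.single (i - 1) 1) (h0 : ∀ c, et 0 1 c ∈ K) :
    slSub F (Fin (n + 1) → F) ≤ K := by
  have h01 : (1 : Fin (n + 1)) ≠ 0 := by simp; omega
  have hs : ∀ i : Fin (n + 1), i ≠ i + 1 := fun i e => h01 (by simpa using e)
  have h1 : ∀ i : Fin (n + 1), ∀ c, et (-i) (-i + 1) c ∈ K := by
    intro i
    induction i using Fin.induction with
    | zero => simpa using h0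
    | succ i ih =>
      intro c
      have := K.mul_mem (K.mul_mem hw (ih (c * a (-i.castSucc + 1) / a (-i.castSucc)))) (K.inv_mem hw)
      rw [et_conj (σ := (· - 1)) (sub_left_injective) ha hg (hs _)] at this
      rw [← Fin.coeSucc_eq_succ]
      convert this using 2
      · abel
      · abel
      · have := ha (-i.castSucc); have := ha (-i.castSucc + 1); field_simp
  have h2 : ∀ d : Fin (n + 1), d ≠ 0 → ∀ i c, et i (i + d) c ∈ K := by
    intro d
    induction d using Fin.induction with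
    | zero => simp
    | succ d ih =>
      intro hd i c
      have h3 := fun (j : Fin (n + 1)) c => h1 (-j) c
      simp only [neg_neg] at h3
      rw [← Fin.coeSucc_eq_succ] at hd ⊢
      by_cases e : d.castSucc = 0
      · rw [e, zero_add]; exact h3 i c
      rw [← add_assoc, ← et_comm (j := i + d.castSucc) (by simpa using e) (hs _)
        (by rw [add_assoc]; simpa using hd)]
      exact K.mul_mem (K.mul_mem (K.mul_mem (ih e i 1) (h3 _ c)) (K.inv_mem (ih e i 1))) (K.inv_mem (h3 _ c))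
  refine sl_le_of_et fun i j h c => ?_
  simpa using h2 (j - i) (sub_ne_zero.2 h.symm) i c

theorem shift_single {n : ℕ} {w : Matrix.SpecialLinearGroup (Fin (n + 1)) F}
    (hw : (w : Matrix (Fin (n + 1)) (Fin (n + 1)) F) = Matrix.of (fun i j =>
      if j.val = i.val + 1 then 1 else if i.val = n ∧ j.val = 0 then (-1) ^ n else 0)) (j : Fin (n + 1)) :
    slHom _ F w (Pi.single j 1) = (if j = 0 then (-1) ^ n else 1 : F) • Pi.single (j - 1) 1 := by
  ext i
  rw [slHom_apply, hw, Matrix.mulVec_single_one]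
  simp only [Matrix.col_apply, Matrix.of_apply, Pi.smul_apply, Pi.single_apply, eq_sub_iff_add_eq, Fin.ext_iff,
    Fin.val_add_one, Fin.val_last, Fin.val_zero]
  have := i.2
  have := j.2
  split_ifs <;> first | omega | simp

theorem top_of_sl_le {H : Subgroup (Matrix.SpecialLinearGroup ι F)} (h : slSub F (ι → F) ≤ H.map (slHom ι F)) :
    H = ⊤ := top_le_iff.1 fun g _ => (mem_map_iff_mem slHom_inj).1 (h (slHom_mem g))

end Et

section Two

variable {F : Type*} [Field F] {V : Type*} [AddCommGroup V] [Module F V] {φ ψ : Dual F V} {v u : V}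
  {g : V ≃ₗ[F] V}

/-- The stabilizer of `φ` and `v`. -/
def Cs (φ : Dual F V) (v : V) : Subgroup (V ≃ₗ[F] V) where
  carrier := {g | g v = v ∧ ∀ x, φ (g x) = φ x}
  one_mem' := ⟨rfl, fun _ => rfl⟩
  mul_mem' := fun {a b} ha hb => ⟨by rw [LinearEquiv.mul_apply, hb.1, ha.1],
    fun x => by rw [LinearEquiv.mul_apply, ha.2, hb.2]⟩
  inv_mem' := fun {a} ha => ⟨a.injective (by rw [ha.1]; simp), fun x => by rw [← ha.2]; simp⟩

/-- The elements of `Cs φ v` trivial on `ker φ / ⟨v⟩`. -/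
def Qs (φ : Dual F V) (v : V) : Subgroup (V ≃ₗ[F] V) where
  carrier := {g | g ∈ Cs φ v ∧ ∀ x, φ x = 0 → ∃ c : F, g x = x + c • v}
  one_mem' := ⟨one_mem _, fun _ _ => ⟨0, by simp⟩⟩
  mul_mem' := fun {a b} ha hb => ⟨mul_mem ha.1 hb.1, fun x hx => by
    obtain ⟨c, hc⟩ := ha.2 x hx
    obtain ⟨d, hd⟩ := hb.2 x hx
    exact ⟨c + d, by rw [LinearEquiv.mul_apply, hd, map_add, map_smul, hc, ha.1.1, add_smul, add_assoc]⟩⟩
  inv_mem' := fun {a} ha => ⟨inv_mem ha.1, fun x hx => by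
    obtain ⟨c, hc⟩ := ha.2 x hx
    exact ⟨-c, a.injective (by rw [map_add, map_smul, hc, ha.1.1]; simp)⟩⟩

/-- The transvections with axis `ker φ`. -/
noncomputable def trH (φ : Dual F V) : Multiplicative (LinearMap.ker φ) →* (V ≃ₗ[F] V) :=
  MonoidHom.mk' (fun u => tr φ u.toAdd) fun a b => (tr_mul_right a.toAdd.2 b.toAdd.2).symm

theorem mem_trH : g ∈ (trH φ).range ↔ ∃ u, φ u = 0 ∧ tr φ u = g :=
  ⟨fun ⟨u, h⟩ => ⟨_, u.toAdd.2, h⟩, fun ⟨u, h, e⟩ => ⟨.ofAdd ⟨u, h⟩, e⟩⟩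

theorem tr_mem_trH (h : φ u = 0) : tr φ u ∈ (trH φ).range := mem_trH.2 ⟨u, h, rfl⟩

theorem trH_inj (h : φ ≠ 0) : Function.Injective (trH φ) :=
  (injective_iff_map_eq_one _).2 fun a e => Subtype.ext (((tr_eq_one_iff a.toAdd.2).1 e).resolve_left h)

theorem Cs.conj (hg : ∀ x, φ (g x) = φ x) (u : V) : g * tr φ u * g⁻¹ = tr φ (g u) := by
  rw [conj_tr, dact_eq_self hg]

theorem tr_mem_Qs (hv : φ v = 0) (h : φ u = 0) : tr φ u ∈ Qs φ v :=
  ⟨⟨tr_fix _ hv, fun x => by simp [tr_apply h, h]⟩, fun x hx => ⟨0, by simp [tr_fix _ hx]⟩⟩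

theorem tr_mem_Qs' (hv : φ v = 0) (h : ψ v = 0) : tr ψ v ∈ Qs φ v :=
  ⟨⟨tr_fix _ h, fun x => by simp [tr_apply h, hv]⟩, fun x _ => ⟨_, tr_apply h x⟩⟩

theorem Qs.conj {k : V ≃ₗ[F] V} (hg : g ∈ Cs φ v) (hk : k ∈ Qs φ v) : g * k * g⁻¹ ∈ Qs φ v :=
  ⟨mul_mem (mul_mem hg hk.1) (inv_mem hg), fun x hx => by
    obtain ⟨c, hc⟩ := hk.2 (g⁻¹ x) (((Cs φ v).inv_mem hg).2 x ▸ hx)
    exact ⟨c, by rw [LinearEquiv.mul_apply, LinearEquiv.mul_apply, hc, map_add, map_smul, hg.1]; simp⟩⟩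

theorem mem_trH_of (h0 : φ ≠ 0) (h1 : ∀ x, φ (g x) = φ x) (h2 : ∀ x, φ x = 0 → g x = x) :
    g ∈ (trH φ).range := by
  obtain ⟨y, hy⟩ := exists_apply_one h0
  have h : φ (g y - y) = 0 := by simp [h1]
  refine mem_trH.2 ⟨_, h, LinearEquiv.ext fun x => ?_⟩
  have := h2 (x - φ x • y) (by simp [hy])
  rw [map_sub, map_smul, sub_eq_iff_eq_add] at this
  rw [tr_apply h, this]
  module

theorem Qs.rep (hv0 : φ v = 0) (h0 : φ ≠ 0) (hv : v ≠ 0) (hg : g ∈ Qs φ v) :
    ∃ u ψ, φ u = 0 ∧ ψ v = 0 ∧ g = tr φ u * tr ψ v := by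
  obtain ⟨y, hy⟩ := exists_apply_one h0
  obtain ⟨χ, hχ⟩ := exists_dual_one (F := F) hv
  have h : φ (g y - y) = 0 := by simp [hg.1.2]
  let ψ : Dual F V := χ ∘ₗ (g.toLinearMap - LinearMap.id) ∘ₗ (LinearMap.id - φ.smulRight y)
  have h1 : ∀ x, g x = x + φ x • (g y - y) + ψ x • v := fun x => by
    obtain ⟨c, hc⟩ := hg.2 (x - φ x • y) (by simp [hy])
    have : ψ x = c := by
      simp only [ψ, LinearMap.comp_apply, LinearMap.sub_apply, LinearMap.id_apply, LinearMap.smulRight_apply,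
        LinearEquiv.coe_coe, hc, add_sub_cancel_left, map_smul, hχ, smul_eq_mul, mul_one]
    rw [map_sub, map_smul, sub_eq_iff_eq_add] at hc
    rw [this, hc]
    module
  have h2 : ψ v = 0 := by
    have := h1 v
    rw [hg.1.1, hv0, zero_smul, add_zero, left_eq_add] at this
    exact (smul_eq_zero.1 this).resolve_right hv
  refine ⟨_, ψ, h, h2, LinearEquiv.ext fun x => ?_⟩
  rw [LinearEquiv.mul_apply, tr_apply h2, tr_apply h, h1, map_add, map_smul, hv0]
  module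

theorem tr_swap (hv : φ v = 0) (hu : φ u = 0) (h : ψ v = 0) :
    tr ψ v * tr φ u = tr φ (u + ψ u • v) * tr ψ v := by
  ext x
  rw [LinearEquiv.mul_apply, LinearEquiv.mul_apply, tr_apply hu, tr_apply h, tr_apply h,
    tr_apply (by simp [hu, hv])]
  simp only [map_add, map_smul, hv, smul_eq_mul]
  module

theorem commute_tr (hu : φ u = 0) (hg : g ∈ Cs φ u) : Commute g (tr φ u) :=
  mul_inv_eq_iff_eq_mul.1 (by rw [Cs.conj hg.2, hg.1])

variable (hF : ∀ c : F, c = 0 ∨ c = 1)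
include hF

theorem two_zero : (2 : F) = 0 := (hF 2).resolve_right fun e => by
  have : (1 : F) + 1 = 1 := by rw [one_add_one_eq_two, e]
  simp at this

theorem add_self_zero (x : V) : x + x = 0 := by rw [← two_smul F, two_zero hF, zero_smul]

theorem mem_Cs_of (hu : φ u = 0) (h0 : φ ≠ 0) (hu0 : u ≠ 0) (h : Commute g (tr φ u)) : g ∈ Cs φ u := by
  have h1 : ∀ x, φ x • g u = φ (g x) • u := fun x => by
    have := LinearEquiv.congr_fun h.eq x
    rwa [LinearEquiv.mul_apply, LinearEquiv.mul_apply, tr_apply hu, tr_apply hu, map_add, map_smul,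
      add_right_inj] at this
  obtain ⟨y, hy⟩ := exists_apply_one h0
  have h2 : g u = u := by
    have := h1 y
    rw [hy, one_smul] at this
    rcases hF (φ (g y)) with e | e
    · rw [e, zero_smul, LinearEquiv.map_eq_zero_iff] at this; exact absurd this hu0
    · rwa [e, one_smul] at this
  exact ⟨h2, fun x => (smul_left_injective F hu0 (h2 ▸ h1 x :)).symm⟩

theorem tr_sq (hu : φ u = 0) : tr φ u * tr φ u = 1 := by
  rw [tr_mul_right hu hu, add_self_zero hF, tr_zero_right]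

theorem trH_sq (h : g ∈ (trH φ).range) : g * g = 1 := by
  obtain ⟨u, hu, rfl⟩ := mem_trH.1 h; exact tr_sq hF hu

theorem tr_smul_mem (c : F) : tr φ (c • v) ∈ zpowers (tr φ v) := by
  rcases hF c with e | e <;> simp [e]

theorem cent_trH (hv : φ v = 0) (h0 : φ ≠ 0) (hv0 : v ≠ 0) (h : ∀ u, φ u = 0 → Commute g (tr φ u)) :
    g ∈ (trH φ).range :=
  mem_trH_of h0 (mem_Cs_of hF hv h0 hv0 (h v hv)).2 fun x hx => by
    by_cases e : x = 0
    · simp [e]
    · exact (mem_Cs_of hF hx h0 e (h x hx)).1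

theorem cent_Qs (hv : φ v = 0) (h0 : φ ≠ 0) (hv0 : v ≠ 0) (h : ∀ k ∈ Qs φ v, Commute g k) :
    g ∈ zpowers (tr φ v) := by
  obtain ⟨u, hu, rfl⟩ := mem_trH.1 (cent_trH hF hv h0 hv0 fun u hu => h _ (tr_mem_Qs hv hu))
  by_cases e : u ∈ Submodule.span F {v}
  · obtain ⟨c, rfl⟩ := Submodule.mem_span_singleton.1 e
    exact tr_smul_mem hF c
  obtain ⟨ψ, h1, h2⟩ := exists_dual_pair e
  obtain ⟨y, hy⟩ := exists_apply_one h0
  have := (mem_Cs_of hF h2 (fun e => by simp [e] at h1) hv0 (h _ (tr_mem_Qs' hv h2))).2 y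
  simp [tr_apply hu, hy, h1] at this

theorem es_Qs (hv : φ v = 0) (h0 : φ ≠ 0) (hv0 : v ≠ 0) : CfsgH2.ES 2 (Qs φ v) (tr φ v) where
  mem := tr_mem_Qs hv hv
  ord := orderOf_eq_prime (by rw [sq, tr_sq hF hv]) (by simp [tr_eq_one_iff hv, h0, hv0])
  cent x hx := (commute_tr hv hx.1).symm
  comm x hx y hy := by
    obtain ⟨u, ψ, h1, h2, rfl⟩ := Qs.rep hv h0 hv0 hx
    obtain ⟨u', ψ', h3, h4, rfl⟩ := Qs.rep hv h0 hv0 hy
    convert tr_smul_mem hF (φ := φ) (v := v) (ψ u' - ψ' u)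
    rw [mul_assoc (_ * _), ← mul_inv_rev, mul_inv_eq_iff_eq_mul]
    ext x
    simp only [LinearEquiv.mul_apply, tr_apply h1, tr_apply h2, tr_apply h3, tr_apply h4,
      tr_apply (show φ ((ψ u' - ψ' u) • v) = 0 by simp [hv]), map_add, map_smul, h1, h2, h3, h4, hv, smul_eq_mul]
    module
  pow x hx := by
    obtain ⟨u, ψ, h1, h2, rfl⟩ := Qs.rep hv h0 hv0 hx
    rw [sq, mul_assoc, ← mul_assoc (tr ψ v), tr_swap hv h1 h2, mul_assoc, tr_sq hF h2, mul_one,
      tr_mul_right h1 (by simp [h1, hv]), ← add_assoc, add_self_zero hF, zero_add]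
    exact tr_smul_mem hF _
  nondeg x _ h := cent_Qs hF hv h0 hv0 h

end Two

section Main

variable {F : Type*} [Field F] {V : Type*} [AddCommGroup V] [Module F V] [Finite V] {φ : Dual F V} {v : V}

theorem normal_pg_gl (p : ℕ) [hp : Fact p.Prime] [CharP F p] {N : Subgroup (V ≃ₗ[F] V)} [hN : N.Normal]
    (h : IsPGroup p N) : N = ⊥ := by
  refine eq_bot_iff.2 fun k hk => LinearEquiv.ext fun x => ?_
  by_cases e : x = 0
  · simp [e]
  obtain ⟨u, h1, h2⟩ := h.exists_fixed_point_of_prime_dvd_card_of_fixed_point V (a := 0) (by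
    have : addOrderOf x = p := addOrderOf_eq_prime (by simp [← Nat.cast_smul_eq_nsmul F]) e
    exact this ▸ addOrderOf_dvd_natCard _) fun g => map_zero g.1
  obtain ⟨g, hg⟩ := exists_gl_map_fam (F := F) (ι := Unit) (a := fun _ => u) (b := fun _ => x)
    (linearIndependent_unique_iff.2 h2.symm) (linearIndependent_unique_iff.2 e)
  have : g⁻¹ (k (g u)) = u := h1 ⟨g⁻¹ * k * g, hN.conj_mem' k hk g⟩
  rw [← hg ()]
  simpa using congrArg g this

theorem exists_lev (hv : φ v = 0) (h0 : φ ≠ 0) (hv0 : v ≠ 0) {n : ℕ} (hd : finrank F V = n + 2) :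
    ∃ κ : ((Fin n → F) ≃ₗ[F] (Fin n → F)) →* (V ≃ₗ[F] V), (∀ a, κ a ∈ Cs φ v) ∧
      (∀ a, κ a ∈ Qs φ v → a = 1) ∧ ∀ g ∈ Cs φ v, ∃ a, (κ a)⁻¹ * g ∈ Qs φ v := by
  obtain ⟨y, hy⟩ := exists_apply_one h0
  obtain ⟨χ, h1, h2⟩ := exists_dual_pair (F := F) (x := v) (y := y) fun h => by
    obtain ⟨c, rfl⟩ := Submodule.mem_span_singleton.1 h
    simp_all
  let W := LinearMap.ker φ ⊓ LinearMap.ker χ
  let e0 := LinearEquiv.ofBijective (W.subtype.coprod ((LinearMap.toSpanSingleton F V v).coprod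
    (LinearMap.toSpanSingleton F V y))) ⟨(injective_iff_map_eq_zero _).2 fun ⟨w, s, t⟩ h => by
      have h3 := congrArg φ h
      have h4 := congrArg χ h
      simp [show φ w = 0 from w.2.1, show χ w = 0 from w.2.2, hv, hy, h1, h2] at h3 h4
      simpa [h3, h4] using h,
    fun x => ⟨(⟨x - χ x • v - φ x • y, by simp [hv, hy], by simp [h1, h2]⟩, χ x, φ x), by simp⟩⟩
  have h3 : finrank F (Fin n → F) = finrank F W := by
    have := e0.finrank_eq
    simp only [finrank_prod, finrank_self, hd] at this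
    simp; omega
  let e := ((LinearEquiv.ofFinrankEq _ _ h3).prodCongr (LinearEquiv.refl F _)).trans e0
  have a0 : ∀ w s t, e (w, s, t) = LinearEquiv.ofFinrankEq _ _ h3 w + (s • v + t • y) := fun _ _ _ => rfl
  have a1 : ∀ p, φ (e p) = p.2.2 := fun ⟨w, s, t⟩ => by
    simp [a0, hv, hy, show φ (LinearEquiv.ofFinrankEq _ _ h3 w) = 0 from (LinearEquiv.ofFinrankEq _ _ h3 w).2.1]
  have a2 : ∀ w s t c, e (w, s + c, t) = e (w, s, t) + c • v := fun w s t c => by
    simp only [a0, add_smul]; abel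
  have a3 : e (0, 1, 0) = v := by simp [a0]
  clear a0
  clear_value e
  have a4 : ∀ a, (pH e).comp (MonoidHom.inl _ _) a ∈ Cs φ v := fun a =>
    ⟨by rw [← a3]; simp [pH_apply], fun x => by obtain ⟨x, rfl⟩ := e.surjective x; simp [pH_apply, a1]⟩
  refine ⟨(pH e).comp (MonoidHom.inl _ _), a4, fun a h => LinearEquiv.ext fun w => ?_, fun g hg => ?_⟩
  · obtain ⟨c, hc⟩ := h.2 (e (w, 0, 0)) (a1 _)
    rw [← a2] at hc
    simpa [pH_apply] using congrArg (fun x => (e.symm x).1) hc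
  let a : (Fin n → F) →ₗ[F] (Fin n → F) :=
    LinearMap.fst F _ _ ∘ₗ e.symm.toLinearMap ∘ₗ g.toLinearMap ∘ₗ e.toLinearMap ∘ₗ LinearMap.inl F _ _
  have a5 : ∀ w, ∃ c, g (e (w, 0, 0)) = e (a w, c, 0) := fun w => ⟨(e.symm (g (e (w, 0, 0)))).2.1, by
    rw [← LinearEquiv.symm_apply_eq]
    refine Prod.ext rfl (Prod.ext rfl ?_)
    rw [← a1, e.apply_symm_apply, hg.2, a1]⟩
  have a6 : Function.Injective a := (injective_iff_map_eq_zero _).2 fun w h => by
    obtain ⟨c, hc⟩ := a5 w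
    have : e (0, c, 0) = g (e (0, c, 0)) := by
      rw [← zero_add c, a2, show e (0, 0, 0) = 0 from map_zero e, zero_add, map_smul, hg.1]
    rw [h, this] at hc
    simpa using congrArg Prod.fst (e.injective (g.injective hc))
  refine ⟨LinearEquiv.ofInjectiveEndo a a6, mul_mem (inv_mem (a4 _)) hg, fun x hx => ?_⟩
  obtain ⟨⟨w, s, t⟩, rfl⟩ := e.surjective x
  obtain ⟨c, hc⟩ := a5 w
  obtain rfl : t = 0 := (a1 _).symm.trans hx
  refine ⟨c, ?_⟩
  rw [LinearEquiv.mul_apply, LinearEquiv.coe_inv, LinearEquiv.symm_apply_eq, ← a2, ← zero_add s, a2, map_add, hc,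
    map_smul, hg.1, ← a2, zero_add, add_comm]
  exact (pH_apply (φ := e) (x := (LinearEquiv.ofInjectiveEndo a a6, 1)) (w, s + c, 0)).symm

variable {G : Type*} [Group G] [Finite G]

theorem card_comap {H : Type*} [Group H] {ρ : G →* H} (hρ : Function.Injective ρ) {K : Subgroup H}
    (h : K ≤ ρ.range) : Nat.card (K.comap ρ) = Nat.card K := by
  rw [← card_map_of_injective hρ, map_comap_eq_self h]

theorem odd_trivial {B K : Subgroup G} (hK : Odd (Nat.card K)) (hB : B ≤ normalizer (K : Set G))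
    (h2 : ∀ b ∈ B, b * b = 1) (h3 : ∀ b ∈ B, b ≠ 1 → ∀ k, Commute k b → k ∈ normalizer (B : Set G))
    (h4 : ∀ k, (∀ b ∈ B, Commute k b) → k ∈ B) (h5 : 2 < Nat.card B) : K = ⊥ := by
  have a1 : ∀ k ∈ K, k ∈ B → k = 1 := fun k hk hb => by
    have := (orderOf_dvd_natCard (⟨k, hk⟩ : K))
    rw [orderOf_mk] at this
    exact orderOf_eq_one_iff.1 (Nat.eq_one_of_dvd_coprimes (Nat.coprime_two_right.2 hK) this
      (orderOf_dvd_of_pow_eq_one (by rw [sq, h2 k hb])))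
  have a2 : ∀ b ∈ B, b ≠ 1 → ∀ k ∈ K, Commute k b → k = 1 := fun b hb h1 k hk hc =>
    a1 k hk (h4 k fun c hc' => commutatorElement_eq_one_iff_commute.1 (a1 _
      (by simpa [commutatorElement_def, mul_assoc] using
        K.mul_mem hk ((mem_normalizer_iff.1 (hB hc') _).1 (K.inv_mem hk)))
      (B.mul_mem ((mem_normalizer_iff.1 (h3 b hb h1 k hc) _).1 hc') (B.inv_mem hc'))))
  have a3 : ∀ b ∈ B, b ≠ 1 → ∀ k ∈ K, b * k * b⁻¹ = k⁻¹ := fun b hb h1 k hk => by
    have := MonoidHom.FixedPointFree.coe_eq_inv_of_involutive (φ := K.normalizerMonoidHom ⟨b, hB hb⟩)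
      (fun x hx => Subtype.ext (a2 b hb h1 x x.2 (mul_inv_eq_iff_eq_mul.1 (congrArg Subtype.val hx)).symm))
      fun x => Subtype.ext (by
        change b * (b * x * b⁻¹) * b⁻¹ = x
        rw [show b * (b * x * b⁻¹) * b⁻¹ = (b * b) * x * (b * b)⁻¹ by group, h2 b hb]; simp)
    exact congrArg Subtype.val (congrFun this ⟨k, hk⟩)
  have := Fintype.ofFinite B
  obtain ⟨b, c, d, h6, h7, h8⟩ := Fintype.two_lt_card_iff.1 (Nat.card_eq_fintype_card (α := B) ▸ h5)
  have n1 : ∀ {x y : B}, x ≠ y → ((x⁻¹ * y : B) : G) ≠ 1 := fun h e => h (inv_mul_eq_one.1 (Subtype.ext e))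
  refine eq_bot_iff.2 fun k hk => a2 _ (c⁻¹ * d).2 (n1 h8) k hk (mul_inv_eq_iff_eq_mul.1 ?_).symm
  have e1 := a3 _ (c⁻¹ * b).2 (n1 h6.symm) _ (K.inv_mem hk)
  rw [inv_inv, ← a3 _ (b⁻¹ * d).2 (n1 h7) k hk] at e1
  refine .trans ?_ e1
  push_cast
  group

theorem tv_cent (hF : ∀ c : F, c = 0 ∨ c = 1) (ρ : G →* (V ≃ₗ[F] V)) (hρ : Function.Injective ρ) {z : G}
    (hz : ρ z = tr φ v) (hv : φ v = 0) (h0 : φ ≠ 0) (hv0 : v ≠ 0) :
    (∀ g, g ∈ centralizer {z} ↔ ρ g ∈ Cs φ v) ∧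
    (∀ g : centralizer {z}, ρ g ∈ Qs φ v → g ∈ Cfsg.pCore 2 (centralizer {z})) ∧
    (Cs φ v ≤ ρ.range → ∀ g : centralizer {z}, g ∈ centralizer (Cfsg.pCore 2 (centralizer {z}) : Set _) →
      g.1 ∈ zpowers z) := by
  have hc : ∀ g, g ∈ centralizer {z} ↔ ρ g ∈ Cs φ v := fun g => by
    rw [mem_centralizer_singleton_iff, ← commute_iff_eq]
    exact ⟨fun h => mem_Cs_of hF hv h0 hv0 (hz ▸ h.map ρ), fun h => .of_map hρ (hz ▸ commute_tr hv h)⟩
  have q1 : ∀ g : centralizer {z}, ρ g ∈ Qs φ v → g ∈ Cfsg.pCore 2 (centralizer {z}) := fun g hg =>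
    @CfsgH1.le_pCore _ _ 2 ((Qs φ v).comap (ρ.comp (centralizer {z}).subtype))
      ⟨fun a ha b => by simpa using Qs.conj ((hc _).1 b.2) ha⟩
      ((es_Qs hF hv h0 hv0).isPGroup.comap_of_injective _ (hρ.comp Subtype.val_injective)) g hg
  refine ⟨hc, q1, fun hC g hg => ?_⟩
  rw [← mem_map_iff_mem hρ, MonoidHom.map_zpowers, hz]
  refine cent_Qs hF hv h0 hv0 fun k hk => ?_
  obtain ⟨k, rfl⟩ := hC hk.1
  exact Commute.map (congrArg Subtype.val (hg ⟨k, (hc k).2 hk.1⟩ (q1 _ hk))).symm ρ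

theorem sl_two_range {ι : Type*} [Fintype ι] [DecidableEq ι] (hF : ∀ c : F, c = 0 ∨ c = 1) :
    (slHom ι F).range = ⊤ :=
  range_slHom.trans (top_le_iff.1 fun g _ => mem_slSub.2 ((hF _).resolve_left (det_ne_zero' g)))

theorem et_data {ι : Type*} [Fintype ι] [DecidableEq ι] {i j : ι} :
    ((1 : F) • LinearMap.proj j : Dual F (ι → F)) ≠ 0 ∧ (Pi.single i 1 : ι → F) ≠ 0 :=
  ⟨fun e => by simpa using LinearMap.congr_fun e (Pi.single j 1), fun e => by simpa using congrFun e i⟩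

theorem tv_main [Module (ZMod 2) V] {φ : Dual (ZMod 2) V} (ρ : G →* (V ≃ₗ[ZMod 2] V))
    (hρ : Function.Injective ρ) {z : G} (hz : ρ z = tr φ v) (hv : φ v = 0) (h0 : φ ≠ 0) (hv0 : v ≠ 0)
    (hC : Cs φ v ≤ ρ.range) {n : ℕ} (hn : 1 ≤ n) (hd : finrank (ZMod 2) V = n + 2) {Q : Subgroup G}
    (hQ : Q = (Cfsg.pCore 2 (centralizer {z})).map (centralizer {z}).subtype) :
    Cfsg.IsExtraspecial 2 Q ∧ Nat.card Q = 2 ^ (2 * n + 1) ∧
    (∃ E : Subgroup G, E ≤ Q ∧ Cfsg.IsElementaryAbelian 2 E ∧ Nat.card E = 2 ^ (n + 1)) ∧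
    Cfsg.IsLargeExtraspecial Q ∧ ∃ K : Subgroup G, K ≤ centralizer {z} ∧ Q ⊓ K = ⊥ ∧ Q ⊔ K = centralizer {z} ∧
      Nonempty (K ≃* GL (Fin n) (ZMod 2)) := by
  have hF : ∀ c : ZMod 2, c = 0 ∨ c = 1 := by decide
  have es := es_Qs hF hv h0 hv0
  have cm : ∀ {a b : G}, Commute (ρ a) (ρ b) ↔ Commute a b := ⟨Commute.of_map hρ, (·.map ρ)⟩
  obtain ⟨hc, q1, -⟩ := tv_cent hF ρ hρ hz hv h0 hv0
  have zp : ∀ {g}, ρ g ∈ zpowers (tr φ v) → g ∈ zpowers z := fun h => by
    rwa [← hz, ← MonoidHom.map_zpowers, mem_map_iff_mem hρ] at h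
  obtain ⟨κ, k1, k2, k3⟩ := exists_lev hv h0 hv0 hd
  obtain ⟨μ, hμ⟩ := exists_lift_range (ρ.comp (centralizer {z}).subtype) (hρ.comp Subtype.val_injective) κ
    fun a => let ⟨g, hg⟩ := hC (k1 a); ⟨⟨g, (hc g).2 (hg ▸ k1 a)⟩, hg⟩
  replace hμ : ∀ a, ρ (μ a) = κ a := hμ
  have hμi : Function.Injective μ := (injective_iff_map_eq_one _).2 fun a h => k2 a (by
    rw [← hμ, h]; simpa using one_mem _)
  have q2 : Q = (Qs φ v).comap ρ := by
    refine hQ.trans (le_antisymm ?_ fun g hg => ⟨⟨g, (hc g).2 hg.1⟩, q1 _ hg, rfl⟩)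
    rintro _ ⟨g, hg, rfl⟩
    obtain ⟨a, ha⟩ := k3 _ ((hc g).1 g.2)
    have h1 : a ∈ (Cfsg.pCore 2 (centralizer {z})).comap μ := by
      simpa using mul_mem hg (inv_mem (q1 ((μ a)⁻¹ * g) (by simpa [hμ] using ha)))
    rw [normal_pg_gl 2 ((CfsgH1.isPGroup_pCore 2 _).comap_of_injective μ hμi), mem_bot] at h1
    simpa [h1] using ha
  subst q2
  have es' : CfsgH2.ES 2 ((Qs φ v).comap ρ) z :=
    { mem := by simpa [hz] using es.mem
      ord := by rw [← orderOf_injective ρ hρ, hz, es.ord]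
      cent := fun x hx => cm.1 (hz ▸ es.cent _ hx)
      comm := fun x hx y hy => zp (by simpa using es.comm _ hx _ hy)
      pow := fun x hx => zp (by simpa using es.pow _ hx)
      nondeg := fun x hx h => zp (es.nondeg _ hx fun y hy => by
        obtain ⟨y, rfl⟩ := hC hy.1
        exact cm.2 (h y hy)) }
  have b1 : (trH φ).range ≤ Qs φ v := by rintro _ ⟨u, rfl⟩; exact tr_mem_Qs hv u.toAdd.2
  have b2 : Nat.card ((trH φ).range.comap ρ) = 2 ^ (n + 1) := by
    have := finrank_ker_dual h0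
    rw [card_comap hρ fun g hg => hC (b1 hg).1, ← Nat.card_congr (MonoidHom.ofInjective (trH_inj h0)).toEquiv,
      Nat.card_congr Multiplicative.toAdd, Module.natCard_eq_pow_finrank (K := ZMod 2), Nat.card_zmod]
    congr 1; omega
  have b3 : ∀ k, (∀ b ∈ (trH φ).range.comap ρ, Commute k b) → k ∈ (trH φ).range.comap ρ := fun k h =>
    cent_trH hF hv h0 hv0 fun u hu => by
      obtain ⟨y, hy⟩ := hC (tr_mem_Qs hv hu).1
      exact hy ▸ cm.2 (h y (by simpa [hy] using tr_mem_trH hu))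
  have b4 : ∀ a ∈ (trH φ).range.comap ρ, ∀ b ∈ (trH φ).range.comap ρ, Commute a b :=
    fun a ⟨u, hu⟩ b ⟨w, hw⟩ => cm.1 (hu ▸ hw ▸ (Commute.all u w).map _)
  have b5 : ∀ b ∈ (trH φ).range.comap ρ, b * b = 1 := fun b hb => hρ (by simpa using trH_sq hF hb)
  have b6 : 2 < Nat.card ((trH φ).range.comap ρ) := by
    rw [b2]; exact lt_of_lt_of_le (by norm_num) (Nat.pow_le_pow_right two_pos (show 2 ≤ n + 1 by omega))
  have c1 := es'.card_mul_card_cent (B := (trH φ).range.comap ρ) (by simpa [hz] using tr_mem_trH hv)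
    (comap_mono b1)
  rw [show (Qs φ v).comap ρ ⊓ centralizer ((trH φ).range.comap ρ : Set G) = (trH φ).range.comap ρ from
    le_antisymm (fun k hk => b3 k fun b hb => (hk.2 b hb).symm)
      (le_inf (comap_mono b1) fun a ha b hb => b4 b hb a ha), b2] at c1
  have xs := es'.isExtraspecial fun e => by
    have := card_le_of_le (e ▸ comap_mono b1 : _ ≤ zpowers z)
    rw [es'.card_z] at this
    omega
  refine ⟨xs, Nat.eq_of_mul_eq_mul_right two_pos (c1.symm.trans (by ring)),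
    ⟨_, comap_mono b1, ⟨⟨⟨fun a b => Subtype.ext (b4 _ a.2 _ b.2)⟩⟩, fun a ha => by rw [sq, b5 a ha]⟩, b2⟩,
    ⟨xs, ?_, ?_, fun K hK hN => odd_trivial hK ((comap_mono b1).trans hN) b5 ?_ b3 b6⟩,
    μ.range.map (centralizer {z}).subtype, map_subtype_le _, ?_, ?_,
    ⟨(equivMapOfInjective _ _ Subtype.val_injective).symm.trans
      ((MonoidHom.ofInjective hμi).symm.trans (glEquiv _ _).symm)⟩⟩
  · rw [es'.map_center]
    refine le_antisymm (fun g hg => zp (cent_Qs hF hv h0 hv0 fun y hy => ?_)) es'.zle_cent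
    obtain ⟨y, rfl⟩ := hC hy.1
    exact cm.2 (hg y hy).symm
  · rw [es'.map_center]
    intro g hg
    have := (hc g).1 (mem_centralizer_singleton_iff.2 (hg z (mem_zpowers z)).symm)
    exact mem_normalizer_fintype fun x hx => by simpa using Qs.conj this hx
  · intro b hb h1 k hk
    obtain ⟨u, hu, e⟩ := mem_trH.1 hb
    have := (mem_Cs_of hF hu h0 (fun e' => h1 (hρ (by simp [← e, e']))) (e ▸ cm.2 hk)).2
    refine mem_normalizer_fintype fun x hx => ?_
    obtain ⟨w, hw, e'⟩ := mem_trH.1 hx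
    simpa [← e', Cs.conj this] using tr_mem_trH ((this w).trans hw)
  · refine eq_bot_iff.2 ?_
    rintro _ ⟨h1, _, ⟨a, rfl⟩, rfl⟩
    simp [k2 a (hμ a ▸ h1)]
  · refine le_antisymm (sup_le (fun g hg => (hc g).2 hg.1) (map_subtype_le _)) fun g hg => ?_
    obtain ⟨a, ha⟩ := k3 _ ((hc g).1 hg)
    have := mul_mem (mem_sup_right (S := (Qs φ v).comap ρ) (mem_map_of_mem (centralizer {z}).subtype
      (show μ a ∈ μ.range from ⟨a, rfl⟩))) (mem_sup_left (x := (μ a : G)⁻¹ * g) (by simpa [hμ] using ha))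
    simpa using this

open scoped IsMulCommutative Pointwise in
theorem exists_affine {U M : Subgroup G} [hUn : U.Normal] [IsMulCommutative U] [Module (ZMod 2) (Additive U)]
    (hUM : U ⊓ M = ⊥) (hUM' : U ⊔ M = ⊤) (hf : ∀ m ∈ M, (∀ u ∈ U, m * u * m⁻¹ = u) → m = 1)
    (hfull : ∀ φ : U ≃* U, ∃ m ∈ M, ∀ u : U, (φ u : G) = m * u * m⁻¹) :
    ∃ ρ : G →* ((Additive U × ZMod 2) ≃ₗ[ZMod 2] (Additive U × ZMod 2)), Function.Injective ρ ∧
      (∀ u : U, ρ u = tr (LinearMap.snd _ _ _) (.ofMul u, 0)) ∧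
      ∀ g : (Additive U × ZMod 2) ≃ₗ[ZMod 2] (Additive U × ZMod 2), (∀ x, (g x).2 = x.2) → g ∈ ρ.range := by
  have h1 : ∀ g : G, ∃ u : U, (u : G)⁻¹ * g ∈ M := fun g => by
    obtain ⟨u, hu, m, hm, rfl⟩ : g ∈ (U : Set G) * (M : Set G) := by
      rw [← normal_mul, hUM']; trivial
    exact ⟨⟨u, hu⟩, by simpa using hm⟩
  choose c hc using h1
  have h2 : ∀ (g : G) (u : U), (u : G)⁻¹ * g ∈ M → c g = u := fun g u h => by
    have : ((c g)⁻¹ * u : U).1 ∈ U ⊓ M :=
      ⟨Subtype.prop _, by simpa [mul_assoc] using M.mul_mem (hc g) (M.inv_mem h)⟩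
    rw [hUM, mem_bot] at this
    exact inv_mul_eq_one.1 (Subtype.ext this)
  have h3 : ∀ g (u : U), MulAut.conjNormal g u = MulAut.conjNormal ((c g : G)⁻¹ * g) u := fun g u => by
    rw [map_mul, MulAut.mul_apply, ← Subgroup.coe_inv]
    exact Subtype.ext (by
      rw [MulAut.conjNormal_apply (_ : U).1, ← Subgroup.coe_inv, ← Subgroup.coe_mul, ← Subgroup.coe_mul,
        mul_inv_cancel_comm])
  have h4 : ∀ g h, c (g * h) = MulAut.conjNormal g (c h) * c g := fun g h => h2 _ _ (by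
    rw [h3]
    convert M.mul_mem (hc g) (hc h) using 1
    rw [mul_comm, Subgroup.coe_mul, MulAut.conjNormal_apply]
    group)
  let A : G → Additive U →ₗ[ZMod 2] Additive U := fun g =>
    (MonoidHom.toAdditive (MulAut.conjNormal (H := U) g).toMonoidHom).toZModLinearMap 2
  have hA : ∀ g u, A g u = .ofMul (MulAut.conjNormal g u.toMul) := fun _ _ => rfl
  obtain ⟨ρ, hρ⟩ := exists_hom_of (fun g => (A g ∘ₗ LinearMap.fst _ _ _ +
    (LinearMap.snd _ _ (ZMod 2)).smulRight (Additive.ofMul (c g))).prod (LinearMap.snd _ _ _))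
    (fun x => by simp [hA, h2 1 1]) fun g h x => by
      refine Prod.ext ?_ rfl
      simp only [LinearMap.prod_apply, Function.prod, LinearMap.add_apply, LinearMap.comp_apply, LinearMap.fst_apply,
        LinearMap.smulRight_apply, LinearMap.snd_apply, map_add, map_smul, h4, ofMul_mul, smul_add, add_assoc]
      simp [hA]
  replace hρ : ∀ g x, ρ g x = (A g x.1 + x.2 • Additive.ofMul (c g), x.2) := hρ
  refine ⟨ρ, (injective_iff_map_eq_one _).2 fun g hg => ?_, fun u => LinearEquiv.ext fun x => ?_, fun g hg => ?_⟩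
  · have e1 : c g = 1 := by simpa [hg] using (congrArg Prod.fst (hρ g (0, 1))).symm
    refine hf g (by simpa [e1] using hc g) fun u hu => ?_
    simpa [hg, hA, Subtype.ext_iff] using (congrArg (fun x => x.1.toMul) (hρ g (.ofMul ⟨u, hu⟩, 0))).symm
  · rw [hρ, tr_apply (by simp), h2 u u (by simp), hA, h3, h2 u u (by simp)]
    exact Prod.ext (by simp) (by simp)
  · let a : Additive U →ₗ[ZMod 2] Additive U := LinearMap.fst _ _ _ ∘ₗ g.toLinearMap ∘ₗ LinearMap.inl _ _ _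
    have a1 : ∀ u, g (u, 0) = (a u, 0) := fun u => Prod.ext rfl (hg _)
    have a2 : Function.Injective a := fun u w e =>
      congrArg Prod.fst (g.injective ((a1 u).trans (e ▸ (a1 w).symm)))
    obtain ⟨m, hm, e⟩ := hfull (MulEquiv.ofBijective (MonoidHom.toAdditive.symm a.toAddMonoidHom)
      (Finite.injective_iff_bijective.1 fun u w e => a2 e))
    refine ⟨(g (0, 1)).1.toMul * m, LinearEquiv.ext fun ⟨u, t⟩ => ?_⟩
    have e1 := h2 ((g (0, 1)).1.toMul * m) (g (0, 1)).1.toMul (by simpa using hm)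
    rw [hρ, hA, h3, e1, inv_mul_cancel_left, show (u, t) = (u, 0) + t • (0, 1) by simp, map_add, a1, map_smul]
    refine Prod.ext ?_ (by simp [hg])
    have : MulAut.conjNormal m u.toMul = (a u).toMul := Subtype.ext (e u.toMul).symm
    simp [this]

end Main

end CfsgH5
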