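import Cfsg.Agent.H5.Tv1

/-! Pairs of transvections. -/

open Module Subgroup
open scoped commutatorElement

namespace CfsgH5

variable {F : Type*} [Field F] {V : Type*} [AddCommGroup V] [Module F V] {φ ψ : Dual F V} {v w : V}
  {g : V ≃ₗ[F] V}

theorem exists_ne_two {M : Type*} [AddCommGroup M] {S : AddSubgroup M} {f g : M →+ F} (hf : ∃ x ∈ S, f x ≠ 0)
    (hg : ∃ x ∈ S, g x ≠ 0) : ∃ x ∈ S, f x ≠ 0 ∧ g x ≠ 0 := by
  obtain ⟨x, hx, h1⟩ := hf
  obtain ⟨y, hy, h2⟩ := hg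
  by_cases e : g x = 0
  · by_cases e' : f y = 0
    · exact ⟨x + y, S.add_mem hx hy, by simpa [e'], by simpa [e]⟩
    · exact ⟨y, hy, e', h2⟩
  · exact ⟨x, hx, h1, e⟩

theorem exists_ne_dual (h : φ ≠ 0) (h' : ψ ≠ 0) : ∃ x, φ x ≠ 0 ∧ ψ x ≠ 0 :=
  let ⟨x, hx⟩ := exists_apply_one h
  let ⟨y, hy⟩ := exists_apply_one h'
  let ⟨z, _, hz⟩ := exists_ne_two (S := ⊤) (f := φ.toAddMonoidHom) (g := ψ.toAddMonoidHom)
    ⟨x, trivial, by simp [hx]⟩ ⟨y, trivial, by simp [hy]⟩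
  ⟨z, hz⟩

theorem notMem_span_of {u : V} (hv : φ v = 0) (h0 : v ≠ 0) (hu : φ u ≠ 0) : v ∉ Submodule.span F {u} := fun h => by
  obtain ⟨c, rfl⟩ := Submodule.mem_span_singleton.1 h
  simp_all

theorem exists_opp (hv : φ v = 0) (hw : ψ w = 0) (h1 : φ ≠ 0) (h2 : ψ ≠ 0) (h3 : v ≠ 0) (h4 : w ≠ 0) :
    ∃ (χ : Dual F V) (u : V), χ u = 0 ∧ φ u ≠ 0 ∧ ψ u ≠ 0 ∧ χ v ≠ 0 ∧ χ w ≠ 0 := by
  obtain ⟨u, a1, a2⟩ := exists_ne_dual h1 h2
  obtain ⟨x, b1, b2⟩ := exists_dual_pair (notMem_span_of hv h3 a1)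
  obtain ⟨y, b3, b4⟩ := exists_dual_pair (notMem_span_of hw h4 a2)
  obtain ⟨χ, c1, c2⟩ := exists_ne_two (S := (Dual.eval F V u).toAddMonoidHom.ker)
    (f := (Dual.eval F V v).toAddMonoidHom) (g := (Dual.eval F V w).toAddMonoidHom)
    ⟨x, b2, by simp [b1]⟩ ⟨y, b4, by simp [b3]⟩
  exact ⟨χ, u, c1, a1, a2, c2⟩

theorem exists_sl_flag [FiniteDimensional F V] (hd : 3 ≤ finrank F V) (hv : φ v = 0) (hw : ψ w = 0) (h1 : φ ≠ 0)
    (h2 : ψ ≠ 0) (h3 : v ≠ 0) (h4 : w ≠ 0) : ∃ g ∈ slSub F V, g * tr φ v * g⁻¹ = tr ψ w := by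
  obtain ⟨g, hg⟩ := exists_gl_map_fam (F := F) (ι := Unit) (a := fun _ => v) (b := fun _ => w)
    (linearIndependent_unique_iff.2 h3) (linearIndependent_unique_iff.2 h4)
  obtain ⟨u, a1, a2⟩ := exists_ne_dual (dact_ne_zero g h1) h2
  have a3 : 1 + (dact g φ - ψ) ((ψ u)⁻¹ • u) ≠ 0 := by simp [a1, a2, mul_sub]
  obtain ⟨y, b1, b2⟩ : ∃ y, φ y = 0 ∧ y ∉ Submodule.span F {v} := by
    by_contra! h
    have := Submodule.finrank_mono (show LinearMap.ker φ ≤ _ from h)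
    have := finrank_ker_dual h1
    have := finrank_span_singleton (K := F) h3
    omega
  obtain ⟨χ, b3, b4⟩ := exists_dual_pair b2
  set k := dl _ _ a3 * g
  have b5 : 1 + χ (((LinearMap.det (k : V →ₗ[F] V))⁻¹ - 1) • y) ≠ 0 := by simp [b3, det_ne_zero']
  refine ⟨k * dl _ _ b5, mem_slSub.2 (by simp [det_mul', det_dl, b3, det_ne_zero']), ?_⟩
  have c1 : dact g φ w = 0 := by rw [← hg (), dact_apply_apply, hv]
  rw [conj_tr]
  congr 1
  · ext x
    obtain ⟨x, rfl⟩ := (k * dl _ _ b5).surjective x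
    rw [dact_apply_apply]
    simp [k, dl_apply, a2, b1]
  · simp [k, dl_apply, b4, hg (), c1, hw]

theorem commute_tr_tr (hv : φ v = 0) (hw : ψ w = 0) (h1 : φ w = 0) (h2 : ψ v = 0) : Commute (tr φ v) (tr ψ w) :=
  commutatorElement_eq_one_iff_commute.1 (by rw [commutator_tr hv hw h2, h1, zero_smul, tr_zero_right])

theorem eigen_of_commute (hv : φ v = 0) (h1 : φ ≠ 0) (h : Commute g (tr φ v)) : ∃ c : F, g v = c • v := by
  obtain ⟨y, hy⟩ := exists_apply_one h1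
  have := LinearEquiv.congr_fun h.eq y
  rw [LinearEquiv.mul_apply, LinearEquiv.mul_apply, tr_apply hv, tr_apply hv, map_add, map_smul,
    add_right_inj, hy, one_smul] at this
  exact ⟨_, this⟩

variable [CharP F 2]

theorem tr_sq' (hv : φ v = 0) : tr φ v * tr φ v = 1 := by
  rw [tr_mul_right hv hv, ← two_smul F, CharTwo.two_eq_zero, zero_smul, tr_zero_right]

theorem tr_sq_comm (hv : φ v = 0) (hw : ψ w = 0) : (tr φ v * tr ψ w) ^ 2 = ⁅tr φ v, tr ψ w⁆ := by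
  rw [commutatorElement_def, inv_eq_of_mul_eq_one_right (tr_sq' hv), inv_eq_of_mul_eq_one_right (tr_sq' hw), sq,
    ← mul_assoc]

theorem odd_tr_mul [Finite (V ≃ₗ[F] V)] (hv : φ v = 0) (hw : ψ w = 0) (h1 : φ w ≠ 0) (h2 : ψ v ≠ 0) :
    Odd (orderOf (tr φ v * tr ψ w)) := by
  rw [← Nat.not_even_iff_odd]
  rintro ⟨k, hk⟩
  set x := tr φ v * tr ψ w with hx
  have h3 : x ^ k * x ^ k = 1 := by rw [← pow_add, ← hk, pow_orderOf_eq_one]
  have h4 : Commute (x ^ k) (tr φ v) := by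
    have : tr φ v * x * (tr φ v)⁻¹ = x⁻¹ := by
      rw [hx, ← mul_assoc, tr_sq' hv, one_mul, mul_inv_rev, inv_eq_of_mul_eq_one_right (tr_sq' hw)]
    refine (mul_inv_eq_iff_eq_mul.1 ?_).symm
    rw [← conj_pow, this, inv_pow, inv_eq_of_mul_eq_one_right h3]
  have h5 : Commute (x ^ k) (tr ψ w) := by
    simpa [hx] using h4.inv_right.mul_right (Commute.self_pow x k).symm
  have h6 : ∀ {χ : Dual F V} {u}, χ u = 0 → χ ≠ 0 → Commute (x ^ k) (tr χ u) → (x ^ k) u = u := fun {χ u} a b c => by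
    obtain ⟨l, hl⟩ := eigen_of_commute a b c
    by_cases e : u = 0
    · simp [e]
    have := LinearEquiv.congr_fun h3 u
    rw [LinearEquiv.mul_apply, hl, map_smul, hl, smul_smul] at this
    have : l * l = 1 := smul_left_injective F e (this.trans (one_smul F u).symm)
    rw [hl, (mul_self_eq_one_iff.1 this).elim id fun e => e.trans (CharTwo.neg_eq 1), one_smul]
  have h7 : x ^ k = 1 := LinearEquiv.ext fun y => by
    have : (x ^ k) (y - (ψ y / ψ v) • v - (φ y / φ w) • w) = _ :=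
      (MulAction.stabilizer _ (y - (ψ y / ψ v) • v - (φ y / φ w) • w)).pow_mem (x := x) (by
        change tr φ v (tr ψ w _) = _
        rw [tr_fix (φ := ψ) _ (by simp [hw, h2]), tr_fix _ (by simp [hv, h1])]) k
    simpa [h6 hv (fun e => by simp [e] at h1) h4, h6 hw (fun e => by simp [e] at h2) h5] using this
  have := Nat.le_of_dvd (by have := orderOf_pos x; omega) (orderOf_dvd_of_pow_eq_one h7)
  have := orderOf_pos x
  omega

theorem tr_mul_cube (hv : φ v = 0) (hw : ψ w = 0) (h1 : φ w = 1) (h2 : ψ v = 1) : (tr φ v * tr ψ w) ^ 3 = 1 := by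
  have : tr φ v * tr ψ w * tr φ v = tr ψ w * tr φ v * tr ψ w := LinearEquiv.ext fun x => by
    have : (2 : F) • (φ x • v - ψ x • w) = 0 := by rw [CharTwo.two_eq_zero, zero_smul]
    simp only [LinearEquiv.mul_apply, tr_apply hv, tr_apply hw, map_add, map_smul, hv, hw, h1, h2, smul_eq_mul]
    linear_combination (norm := module) this
  calc _ = (tr φ v * tr ψ w * tr φ v) * (tr ψ w * tr φ v * tr ψ w) := by simp only [pow_succ, pow_zero, mul_assoc, one_mul]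
    _ = tr φ v * (tr ψ w * (tr φ v * tr φ v) * tr ψ w) * tr φ v := by rw [← this]; simp only [mul_assoc]
    _ = 1 := by rw [tr_sq' hv, mul_one, tr_sq' hw, mul_one, tr_sq' hv]

end CfsgH5
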