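import Cfsg.Agent.H5.U3a
import Cfsg.Prelude.Def_Solvable
import Cfsg.Prelude.Def_Transfer

/-!
Automorphisms of the unitary Heisenberg group in characteristic two.
-/

set_option autoImplicit false

namespace CfsgH5

open Module Cfsg

universe u

variable {F : Type u} [Field F]

theorem sq_inj_two (h2 : (2 : F) = 0) {a b : F} (h : a ^ 2 = b ^ 2) : a = b := by
  have : (a - b) ^ 2 = 0 := by linear_combination h + (b ^ 2 - a * b) * h2
  exact sub_eq_zero.1 (pow_eq_zero_iff (by norm_num) |>.1 this)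

theorem eq_one_of_pow_two_pow (h2 : (2 : F) = 0) {c : F} {k : ℕ} (h : c ^ 2 ^ k = 1) : c = 1 := by
  induction k with
  | zero => simpa using h
  | succ k ih =>
    apply ih
    apply sq_inj_two h2
    rw [← pow_mul, ← pow_succ, h, one_pow]

theorem semilin_of_norm [Finite F] {σ : F →+* F} (hσ : ∀ a, σ (σ a) = a) (hne : ∃ a, σ a ≠ a)
    (h2 : (2 : F) = 0) (α : F →+ F) (hα : Function.Injective α) (h1 : α 1 = 1) (β : F → F)
    (hβ : ∀ a b, σ a = a → σ b = b → β (a + b) = β a + β b)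
    (hN : ∀ a, α a * σ (α a) = β (a * σ a)) :
    (∀ a b, α (a * b) = α a * α b) ∧ ∀ a, α (σ a) = σ (α a) := by
  have hα0 : ∀ a, α a = 0 → a = 0 := fun a h => hα (by rw [h, map_zero])
  have fN : ∀ a, σ (a * σ a) = a * σ a := fun a => by rw [map_mul, hσ, mul_comm]
  have fC : ∀ a b, σ (a * σ b + b * σ a) = a * σ b + b * σ a := fun a b => by
    simp only [map_add, map_mul, hσ]; ring
  have hC : ∀ a b, α a * σ (α b) + α b * σ (α a) = β (a * σ b + b * σ a) := by
    intro a b
    have h3 := hN (a + b)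
    have h4 : (a + b) * σ (a + b) = a * σ a + b * σ b + (a * σ b + b * σ a) := by
      rw [map_add]; ring
    rw [h4, hβ _ _ (by rw [map_add, fN, fN]) (fC a b), hβ _ _ (fN a) (fN b), ← hN, ← hN, map_add,
      map_add] at h3
    linear_combination h3
  have hβ0 : β 0 = 0 := by
    have := hN 0
    simpa using this.symm
  have hβi : ∀ c, σ c = c → β c = 0 → c = 0 := by
    intro c hc h
    obtain ⟨a, rfl⟩ := exists_norm' σ hσ hne hc
    rw [← hN] at h
    have : α a = 0 := by simpa using h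
    rw [hα0 a this]; simp
  have hrat : ∀ c a, σ c = c → a ≠ 0 → ∃ r, σ r = r ∧ α (c * a) = r * α a := by
    intro c a hc ha
    have ha' : α a ≠ 0 := fun h => ha (hα0 a h)
    have ha'' : σ (α a) ≠ 0 := by simpa using ha'
    have h3 := hC (c * a) a
    have h4 : c * a * σ a + a * σ (c * a) = 0 := by
      rw [map_mul, hc]; linear_combination c * a * σ a * h2
    rw [h4, hβ0] at h3
    refine ⟨α (c * a) / α a, ?_, by field_simp⟩
    rw [map_div₀]
    field_simp
    linear_combination h3 - α (c * a) * σ (α a) * h2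
  have hγ : ∀ c, σ c = c → σ (α c) = α c := by
    intro c hc
    obtain ⟨r, hr, h⟩ := hrat c 1 hc one_ne_zero
    rw [mul_one, h1, mul_one] at h
    rw [h, hr]
  have hnf : ∀ a, σ a ≠ a → σ (α a) ≠ α a := by
    intro a ha h
    have h3 := hC a 1
    rw [h1, map_one, h] at h3
    have h4 : β (a * 1 + 1 * σ a) = 0 := by rw [← h3]; linear_combination α a * h2
    have := hβi _ (by simp [hσ, add_comm]) h4
    exact ha (by linear_combination this - a * h2)
  have hs1 : ∀ c a, σ c = c → σ a ≠ a → α (c * a) = α c * α a := by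
    intro c a hc ha
    have ha0 : a ≠ 0 := by rintro rfl; simp at ha
    have ha1 : a + 1 ≠ 0 := by
      intro h; apply ha
      have : a = -1 := by linear_combination h
      rw [this]; simp
    obtain ⟨r, hr, h3⟩ := hrat c a hc ha0
    obtain ⟨s, hs, h4⟩ := hrat c (a + 1) hc ha1
    rw [mul_add, mul_one, map_add, map_add, h1, h3] at h4
    have h5 : (r - s) * α a = s - α c := by linear_combination h4
    have h6 := congrArg σ h5
    rw [map_mul, map_sub, map_sub, hr, hs, hγ c hc, ← h5] at h6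
    have h7 : r - s = 0 := by
      by_contra h7
      exact hnf a ha (mul_left_cancel₀ h7 h6)
    rw [h7, zero_mul] at h5
    rw [h3]
    congr 1
    linear_combination h7 + h5.symm
  have hs : ∀ c a, σ c = c → α (c * a) = α c * α a := by
    intro c a hc
    by_cases ha : σ a = a
    · obtain ⟨θ, hθ⟩ := hne
      have h3 := hs1 c (a + θ) hc (by rw [map_add, ha]; simpa using hθ)
      have h4 := hs1 c θ hc hθ
      rw [mul_add, map_add, map_add, h4] at h3
      linear_combination h3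
    · exact hs1 c a hc ha
  have hβγ : ∀ c, σ c = c → β c = α c := by
    intro c hc
    obtain ⟨d, rfl⟩ := exists_sq_of_two_eq_zero h2 c
    have hd : σ d = d := sq_inj_two h2 (by rw [← map_pow, hc])
    have := hN d
    rw [hd, hγ d hd, ← hs d d hd] at this
    rw [sq, this]
  have hT : ∀ a, α (a + σ a) = α a + σ (α a) := by
    intro a
    have h3 := hC a 1
    rw [h1, map_one, hβγ _ (by simp [hσ, add_comm])] at h3
    simpa using h3.symm
  have hsq : ∀ a, α (a * a) = α a * α a := by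
    intro a
    have h3 : a * a = (a + σ a) * a - a * σ a := by ring
    rw [h3, map_sub, hs _ _ (by simp [hσ, add_comm]), hT, ← hβγ _ (fN a), ← hN]
    ring
  refine ⟨fun a b => ?_, fun a => ?_⟩
  · by_cases ha : σ a = a
    · exact hs a b ha
    · have hT0 : a + σ a ≠ 0 := fun h => ha (by linear_combination h - a * h2)
      obtain ⟨y, hy⟩ : ∃ y, y = (b + σ b) / (a + σ a) := ⟨_, rfl⟩
      have hyf : σ y = y := by rw [hy, map_div₀]; simp [hσ, add_comm]
      have hy' : y * (a + σ a) = b + σ b := by rw [hy]; field_simp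
      obtain ⟨x, hx⟩ : ∃ x, x = b - y * a := ⟨_, rfl⟩
      have hxf : σ x = x := by
        rw [hx, map_sub, map_mul, hyf]
        linear_combination -hy' + (y * a - b) * h2
      have hb : b = x + y * a := by rw [hx]; ring
      have h3 : a * b = x * a + y * (a * a) := by rw [hb]; ring
      rw [h3, map_add, hs _ _ hxf, hs _ _ hyf, hsq, hb, map_add, hs _ _ hyf]
      ring
  · have := hT a
    rw [map_add] at this
    exact add_left_cancel this

theorem semilin_of_norm' [Finite F] {σ : F →+* F} (hσ : ∀ a, σ (σ a) = a) (hne : ∃ a, σ a ≠ a)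
    (h2 : (2 : F) = 0) (α : F →+ F) (hα : Function.Injective α) (β : F → F)
    (hβ : ∀ a b, σ a = a → σ b = b → β (a + b) = β a + β b)
    (hN : ∀ a, α a * σ (α a) = β (a * σ a)) :
    ∃ (μ : Fˣ) (τ : F ≃+* F), (∀ a, τ (σ a) = σ (τ a)) ∧ ∀ a, α a = μ * τ a := by
  have hμ : α 1 ≠ 0 := fun h => one_ne_zero (hα (h.trans (map_zero α).symm))
  have hμ' : σ (α 1) ≠ 0 := by simpa using hμ
  let α' : F →+ F := (AddMonoidHom.mulLeft (α 1)⁻¹).comp α
  have hα' : ∀ a, α' a = (α 1)⁻¹ * α a := fun a => rfl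
  have hi : Function.Injective α' := fun a b h => hα (mul_left_cancel₀ (inv_ne_zero hμ) h)
  obtain ⟨h3, h4⟩ := semilin_of_norm hσ hne h2 α' hi (by rw [hα', inv_mul_cancel₀ hμ])
    (fun c => (α 1 * σ (α 1))⁻¹ * β c) (fun a b ha hb => by simp only [hβ a b ha hb]; ring)
    (fun a => by
      simp only [hα', ← hN, map_mul, map_inv₀]
      field_simp)
  let τ : F ≃+* F := { Equiv.ofBijective α' (Finite.injective_iff_bijective.1 hi) with
    map_mul' := h3
    map_add' := map_add α' }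
  refine ⟨Units.mk0 _ hμ, τ, h4, fun a => ?_⟩
  show α a = α 1 * ((α 1)⁻¹ * α a)
  field_simp

namespace UH

variable {σ : F →+* F} {hσ : ∀ a, σ (σ a) = a}

theorem aut_center (hne : ∃ a, σ a ≠ a) (φ : MulAut (UH σ hσ)) {x : UH σ hσ} (hx : x.a = 0) :
    (φ x).a = 0 := by
  rw [← mem_center_iff hne] at hx ⊢
  rw [Subgroup.mem_center_iff] at hx ⊢
  intro y
  obtain ⟨y, rfl⟩ := φ.surjective y
  rw [← map_mul, hx, map_mul]

theorem aut_congr (hne : ∃ a, σ a ≠ a) (φ : MulAut (UH σ hσ)) {x y : UH σ hσ} (h : x.a = y.a) :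
    (φ x).a = (φ y).a := by
  have := aut_center hne φ (x := x * y⁻¹) (by simp [h])
  simp only [map_mul, map_inv, mul_a, inv_a] at this
  linear_combination this

theorem exists_aut_eq [Finite F] (hne : ∃ a, σ a ≠ a) (h2 : (2 : F) = 0) (φ : MulAut (UH σ hσ)) :
    ∃ (μ : Fˣ) (τ : F ≃+* F), (∀ a, τ (σ a) = σ (τ a)) ∧ ∀ x, (φ x).a = μ * τ x.a := by
  classical
  choose s hs using exists_a (hσ := hσ) hne
  let α : F →+ F :=
    { toFun := fun a => (φ (s a)).a
      map_zero' := aut_center hne φ (hs 0)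
      map_add' := fun a b => by
        rw [← mul_a, ← map_mul]
        exact aut_congr hne φ (by simp [hs]) }
  have hα : ∀ x, (φ x).a = α x.a := fun x => aut_congr hne φ (hs _).symm
  have hi : Function.Injective α := by
    rw [injective_iff_map_eq_zero]
    intro a ha
    have := aut_center hne φ⁻¹ (x := φ (s a)) ha
    simpa [hs] using this
  let β : F → F := fun l => if h : l + σ l = 0 then (φ (z l h)).l else 0
  have hβ : ∀ x : UH σ hσ, x.a = 0 → (φ x).l = β x.l := by
    intro x hx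
    have h3 : x.l + σ x.l = 0 := by simpa [hx] using x.h
    have h4 : x = z x.l h3 := by ext <;> simp [hx]
    simp only [β, dif_pos h3]
    rw [← h4]
  obtain ⟨μ, τ, h3, h4⟩ := semilin_of_norm' hσ hne h2 α hi β (fun a b ha hb => by
      have h5 : a + σ a = 0 := by rw [ha]; linear_combination a * h2
      have h6 : b + σ b = 0 := by rw [hb]; linear_combination b * h2
      have h7 := hβ (z a h5 * z b h6) (by simp)
      rw [map_mul, mul_l, hβ _ rfl, hβ _ rfl, aut_center hne φ (x := z b h6) rfl] at h7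
      simpa using h7.symm)
    (fun a => by
      have h5 := hβ (s a * s a) (mul_self_a h2 _)
      rw [map_mul, mul_self_l h2, mul_self_l h2, hα, hs] at h5
      exact h5)
  exact ⟨μ, τ, h3, fun x => by rw [hα, h4]⟩

theorem aut_unique (hne : ∃ a, σ a ≠ a) {μ μ' : Fˣ} {τ τ' : F ≃+* F}
    (h : ∀ x : UH σ hσ, (μ : F) * τ x.a = μ' * τ' x.a) : μ = μ' ∧ τ = τ' := by
  have h1 : ∀ a, (μ : F) * τ a = μ' * τ' a := fun a => by
    obtain ⟨x, rfl⟩ := exists_a (hσ := hσ) hne a
    exact h x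
  have h2 : μ = μ' := Units.ext (by simpa using h1 1)
  subst h2
  exact ⟨rfl, RingEquiv.ext fun a => mul_left_cancel₀ μ.ne_zero (h1 a)⟩

/-- automorphisms acting trivially modulo the centre -/
def KA (σ : F →+* F) (hσ : ∀ a, σ (σ a) = a) : Subgroup (MulAut (UH σ hσ)) where
  carrier := {φ | ∀ x, (φ x).a = x.a}
  one_mem' _ := rfl
  mul_mem' {φ ψ} h1 h2 x := by rw [MulAut.mul_apply, h1, h2]
  inv_mem' {φ} h x := by
    have := h (φ⁻¹ x)
    simpa using this.symm

theorem mem_KA {φ : MulAut (UH σ hσ)} : φ ∈ KA σ hσ ↔ ∀ x, (φ x).a = x.a := Iff.rfl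

theorem KA_normal (hne : ∃ a, σ a ≠ a) : (KA σ hσ).Normal := ⟨fun φ h ψ x => by
  have := aut_congr hne ψ (h (ψ⁻¹ x))
  simpa using this⟩

theorem exists_mul_self [Finite F] (hne : ∃ a, σ a ≠ a) (h2 : (2 : F) = 0) {x : UH σ hσ}
    (hx : x.a = 0) : ∃ y, x = y * y := by
  have h3 : σ x.l = x.l := by
    have := x.h
    rw [hx, zero_mul] at this
    linear_combination this - x.l * h2
  obtain ⟨a, ha⟩ := exists_norm' σ hσ hne h3
  obtain ⟨y, rfl⟩ := exists_a (hσ := hσ) hne a
  exact ⟨y, by ext <;> simp only [mul_self_a h2, mul_self_l h2, hx, ha]⟩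

theorem fix_of_norm [Finite F] (hne : ∃ a, σ a ≠ a) (h2 : (2 : F) = 0) {φ : MulAut (UH σ hσ)}
    (h : ∀ y, (φ y).a * σ (φ y).a = y.a * σ y.a) {x : UH σ hσ} (hx : x.a = 0) : φ x = x := by
  obtain ⟨y, rfl⟩ := exists_mul_self hne h2 hx
  rw [map_mul]
  ext <;> simp only [mul_self_a h2, mul_self_l h2, h]

theorem KA_fix [Finite F] (hne : ∃ a, σ a ≠ a) (h2 : (2 : F) = 0) {φ : MulAut (UH σ hσ)}
    (h : φ ∈ KA σ hσ) {x : UH σ hσ} (hx : x.a = 0) : φ x = x :=
  fix_of_norm hne h2 (fun y => by rw [h y]) hx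

theorem KA_l [Finite F] (hne : ∃ a, σ a ≠ a) (h2 : (2 : F) = 0) {φ : MulAut (UH σ hσ)}
    (h : φ ∈ KA σ hσ) {x y : UH σ hσ} (hxy : x.a = y.a) : (φ x).l - x.l = (φ y).l - y.l := by
  have h3 := KA_fix hne h2 h (x := y⁻¹ * x) (by simp [hxy])
  have h4 : φ x = φ y * (y⁻¹ * x) := by rw [← h3, ← map_mul, mul_inv_cancel_left]
  rw [h4]
  simp only [mul_l, inv_l, mul_a, inv_a, hxy, map_neg]
  linear_combination y.h - y.l * h2 + y.l * h2

theorem KA_sq [Finite F] (hne : ∃ a, σ a ≠ a) (h2 : (2 : F) = 0) {φ : MulAut (UH σ hσ)}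
    (h : φ ∈ KA σ hσ) : φ ^ 2 = 1 := by
  ext x
  · rw [sq, MulAut.mul_apply, h, h]; rfl
  · have := KA_l hne h2 h (h x)
    rw [sq, MulAut.mul_apply, MulAut.one_apply]
    linear_combination this + ((φ x).l - x.l) * h2

theorem KA_comm [Finite F] (hne : ∃ a, σ a ≠ a) (h2 : (2 : F) = 0) {φ ψ : MulAut (UH σ hσ)}
    (h : φ ∈ KA σ hσ) (h' : ψ ∈ KA σ hσ) : φ * ψ = ψ * φ := by
  ext x
  · rw [MulAut.mul_apply, MulAut.mul_apply, h, h', h', h]
  · have h3 := KA_l hne h2 h (h' x)
    have h4 := KA_l hne h2 h' (h x)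
    rw [MulAut.mul_apply, MulAut.mul_apply]
    linear_combination h3 - h4

/-- the trace zero elements -/
def Z (σ : F →+* F) : AddSubgroup F := (AddMonoidHom.id F + σ.toAddMonoidHom).ker

theorem mem_Z {a : F} : a ∈ Z σ ↔ a + σ a = 0 := by simp [Z, AddMonoidHom.mem_ker]

/-- central automorphisms -/
def cent (f : F →+ Z σ) : MulAut (UH σ hσ) where
  toFun x := ⟨x.a, x.l + f x.a, by
    have := mem_Z.1 (f x.a).2
    rw [map_add]; linear_combination x.h + this⟩
  invFun x := ⟨x.a, x.l - f x.a, by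
    have := mem_Z.1 (f x.a).2
    rw [map_sub]; linear_combination x.h - this⟩
  left_inv x := by ext <;> simp
  right_inv x := by ext <;> simp
  map_mul' x y := by
    ext
    · simp
    · simp only [mul_l, mul_a, map_add, AddSubgroup.coe_add]; ring

theorem card_KA [Finite F] (hne : ∃ a, σ a ≠ a) (h2 : (2 : F) = 0) :
    Nat.card (KA σ hσ) = Nat.card (F →+ Z σ) := by
  symm
  refine Nat.card_congr (Equiv.ofBijective (fun f => ⟨cent f, fun _ => rfl⟩) ⟨?_, ?_⟩)
  · intro f g h
    ext a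
    obtain ⟨x, rfl⟩ := exists_a (hσ := hσ) hne a
    have : (cent f x : UH σ hσ).l = (cent g x : UH σ hσ).l := by
      rw [show (cent f : MulAut (UH σ hσ)) = cent g from congrArg Subtype.val h]
    exact add_left_cancel this
  · rintro ⟨φ, h⟩
    choose s hs using exists_a (hσ := hσ) hne
    have hm : ∀ x : UH σ hσ, (φ x).l - x.l ∈ Z σ := fun x => by
      have h3 := (φ x).h
      rw [h x] at h3
      rw [mem_Z, map_sub]; linear_combination h3 - x.h
    let f : F →+ Z σ :=
      { toFun := fun a => ⟨_, hm (s a)⟩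
        map_zero' := Subtype.ext (by
          show (φ (s 0)).l - (s 0).l = 0
          rw [KA_fix hne h2 h (hs 0), sub_self])
        map_add' := fun a b => Subtype.ext (by
          show (φ (s (a + b))).l - (s (a + b)).l = (φ (s a)).l - (s a).l + ((φ (s b)).l - (s b).l)
          rw [KA_l hne h2 h (y := s a * s b) (by simp [hs]), map_mul, mul_l, mul_l, h, h]
          ring) }
    refine ⟨f, Subtype.ext ?_⟩
    ext x
    · exact (h x).symm
    · show x.l + ((φ (s x.a)).l - (s x.a).l) = (φ x).l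
      rw [KA_l hne h2 h (hs x.a)]; ring

theorem eq_one_of_pow (hne : ∃ a, σ a ≠ a) (h2 : (2 : F) = 0) {φ : MulAut (UH σ hσ)} {c : F}
    (h : ∀ x, (φ x).a = c * x.a) {k : ℕ} (hk : φ ^ 2 ^ k = 1) : c = 1 := by
  have h3 : ∀ (m : ℕ) x, ((φ ^ m) x).a = c ^ m * x.a := by
    intro m
    induction m with
    | zero => intro x; simp
    | succ m ih => intro x; rw [pow_succ', MulAut.mul_apply, h, ih]; ring
  obtain ⟨x, hx⟩ := exists_a (hσ := hσ) hne 1
  have := h3 (2 ^ k) x
  rw [hk, MulAut.one_apply, hx, mul_one] at this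
  exact eq_one_of_pow_two_pow h2 this.symm

theorem le_KA [Finite F] (hne : ∃ a, σ a ≠ a) (h2 : (2 : F) = 0) {N : Subgroup (MulAut (UH σ hσ))}
    (hN : N.Normal) (hp : IsPGroup 2 N) : N ≤ KA σ hσ := by
  intro φ hφ
  have hk : ∀ ψ ∈ N, ∃ k : ℕ, ψ ^ 2 ^ k = 1 := fun ψ h => by
    obtain ⟨k, hk⟩ := hp ⟨ψ, h⟩
    exact ⟨k, congrArg Subtype.val hk⟩
  obtain ⟨μ, τ, -, h⟩ := exists_aut_eq hne h2 φ
  have h3 : ∀ ν : Fˣ, τ ν = ν := by
    intro ν
    have hm : φ * (diag ν * φ⁻¹ * (diag ν)⁻¹) ∈ N := mul_mem hφ (hN.conj_mem _ (inv_mem hφ) _)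
    obtain ⟨k, hk⟩ := hk _ hm
    have := eq_one_of_pow hne h2 (c := τ ν / ν) (fun x => by
      have h4 := h (φ⁻¹ ((diag ν)⁻¹ x))
      rw [MulAut.apply_inv_self, ← map_inv, diag_a] at h4
      rw [MulAut.mul_apply, MulAut.mul_apply, MulAut.mul_apply, h, diag_a, map_mul, ← map_inv,
        mul_left_comm, ← h4, Units.val_inv_eq_inv_val]
      ring) hk
    rwa [div_eq_one_iff_eq ν.ne_zero] at this
  have h4 : ∀ a, τ a = a := fun a => by
    by_cases ha : a = 0
    · simp [ha]
    · exact h3 (Units.mk0 a ha)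
  obtain ⟨k, hk⟩ := hk _ hφ
  have h5 := eq_one_of_pow hne h2 (c := μ) (fun x => by rw [h, h4]) hk
  intro x
  rw [h, h4, h5, one_mul]

theorem pCore_aut [Finite F] (hne : ∃ a, σ a ≠ a) (h2 : (2 : F) = 0) :
    pCore 2 (MulAut (UH σ hσ)) = KA σ hσ := by
  apply le_antisymm
  · exact sSup_le fun N hN => le_KA hne h2 hN.1 hN.2
  · refine le_sSup ⟨KA_normal hne, fun φ => ⟨1, Subtype.ext ?_⟩⟩
    exact KA_sq hne h2 φ.2

theorem index_KA [Finite F] (hne : ∃ a, σ a ≠ a) (h2 : (2 : F) = 0)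
    (hc : ∀ (τ : F ≃+* F) a, τ (σ a) = σ (τ a)) :
    (KA σ hσ).index = Nat.card Fˣ * Nat.card (F ≃+* F) := by
  rw [← Nat.card_prod, Subgroup.index_eq_card]
  symm
  refine Nat.card_congr (Equiv.ofBijective
    (fun p : Fˣ × (F ≃+* F) => (QuotientGroup.mk (aut p.1 p.2 (hc p.2)) : _ ⧸ KA σ hσ)) ⟨?_, ?_⟩)
  · rintro ⟨μ, τ⟩ ⟨μ', τ'⟩ h
    have h3 := QuotientGroup.eq.1 h
    have := aut_unique (hσ := hσ) hne (μ := μ) (μ' := μ') (τ := τ) (τ' := τ') fun x => by
      have h4 := aut_congr hne (aut μ τ (hc τ)) (h3 x)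
      rw [MulAut.mul_apply, MulAut.apply_inv_self] at h4
      exact h4.symm
    exact Prod.ext this.1 this.2
  · intro c
    obtain ⟨φ, rfl⟩ := QuotientGroup.mk_surjective c
    obtain ⟨μ, τ, -, h⟩ := exists_aut_eq hne h2 φ
    refine ⟨(μ, τ), QuotientGroup.eq.2 fun x => ?_⟩
    have h4 := aut_congr hne (aut μ τ (hc τ))⁻¹ (x := φ x) (y := aut μ τ (hc τ) x) (h x)
    rw [MulAut.inv_apply_self] at h4
    exact h4

end UH

theorem card_ringAut' [Fintype F] {p f : ℕ} [Fact p.Prime] (hF : Fintype.card F = p ^ f) :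
    Nat.card (F ≃+* F) = f := by
  have : CharP F p := charP_of_card_eq_prime_pow hF
  letI : Algebra (ZMod p) F := ZMod.algebra F p
  let e : (F ≃+* F) ≃ (F ≃ₐ[ZMod p] F) :=
    { toFun := fun σ => AlgEquiv.ofRingEquiv (f := σ) fun x =>
        RingHom.congr_fun (RingHom.ext_zmod ((σ : F →+* F).comp (algebraMap (ZMod p) F))
          (algebraMap (ZMod p) F)) x
      invFun := fun σ => σ.toRingEquiv
      left_inv := fun _ => rfl
      right_inv := fun _ => rfl }
  rw [Nat.card_congr e, IsGalois.card_aut_eq_finrank]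
  have := Module.card_eq_pow_finrank (K := ZMod p) (V := F)
  rw [hF, ZMod.card] at this
  exact (Nat.pow_right_injective (Fact.out : p.Prime).two_le this).symm

theorem card_addHom_pow_aux {p : ℕ} [Fact p.Prime] {A B : Type*} [AddCommGroup A] [AddCommGroup B]
    [Finite A] [Finite B] [Module (ZMod p) A] [Module (ZMod p) B] {m n : ℕ}
    (h1 : Nat.card A = p ^ m) (h2 : Nat.card B = p ^ n) : Nat.card (A →+ B) = p ^ (m * n) := by
  have : Module.Finite (ZMod p) A := Module.Finite.of_finite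
  have : Module.Finite (ZMod p) B := Module.Finite.of_finite
  have h3 : finrank (ZMod p) A = m := by
    have := Module.natCard_eq_pow_finrank (K := ZMod p) (V := A)
    rw [h1, Nat.card_zmod] at this
    exact (Nat.pow_right_injective (Fact.out : p.Prime).two_le this).symm
  have h4 : finrank (ZMod p) B = n := by
    have := Module.natCard_eq_pow_finrank (K := ZMod p) (V := B)
    rw [h2, Nat.card_zmod] at this
    exact (Nat.pow_right_injective (Fact.out : p.Prime).two_le this).symm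
  rw [Nat.card_congr (AddMonoidHom.toZModLinearMapEquiv p).toEquiv,
    Module.natCard_eq_pow_finrank (K := ZMod p), Module.finrank_linearMap, h3, h4, Nat.card_zmod]

theorem card_addHom_pow {p : ℕ} [Fact p.Prime] {A B : Type*} [AddCommGroup A] [AddCommGroup B]
    [Finite A] [Finite B] (hA : ∀ a : A, p • a = 0) (hB : ∀ b : B, p • b = 0) {m n : ℕ}
    (h1 : Nat.card A = p ^ m) (h2 : Nat.card B = p ^ n) : Nat.card (A →+ B) = p ^ (m * n) :=
  @card_addHom_pow_aux p _ A B _ _ _ _ (AddCommGroup.zmodModule hA) (AddCommGroup.zmodModule hB)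
    m n h1 h2

variable [Fintype F]

theorem two_eq_zero_of_sq {n : ℕ} (hF : Fintype.card F = (2 ^ n) ^ 2) : (2 : F) = 0 := by
  have hn : n ≠ 0 := by
    rintro rfl; have := two_le_of_card_sq hF; simp at this
  apply two_eq_zero_of_not_odd
  rw [hF, ← pow_mul, Nat.not_odd_iff_even]
  exact (Nat.even_pow.2 ⟨even_two, by omega⟩)

theorem card_KA_q {n : ℕ} (hF : Fintype.card F = (2 ^ n) ^ 2) :
    Nat.card (UH.KA (frobQ hF) (frobQ_invol hF)) = 2 ^ (2 * n ^ 2) := by
  have h2 := two_eq_zero_of_sq hF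
  rw [UH.card_KA (frobQ_ne hF) h2, card_addHom_pow (p := 2) (m := n * 2) (n := n)]
  · congr 1; ring
  · intro a; rw [two_nsmul]; linear_combination a * h2
  · intro a; apply Subtype.ext
    simp only [two_nsmul, AddSubgroup.coe_add, ZeroMemClass.coe_zero]
    linear_combination (a : F) * h2
  · rw [Nat.card_eq_fintype_card, hF, pow_mul]
  · exact (Nat.card_congr (Equiv.subtypeEquivRight fun a => UH.mem_Z)).trans (card_trace_zero hF)

theorem card_aut_UH {n : ℕ} (hF : Fintype.card F = (2 ^ n) ^ 2) :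
    Nat.card (MulAut (UHq hF)) = 2 ^ (2 * n ^ 2) * (2 * n * ((2 ^ n) ^ 2 - 1)) := by
  have h2 := two_eq_zero_of_sq hF
  rw [← (UH.KA (frobQ hF) (frobQ_invol hF)).card_mul_index, card_KA_q,
    UH.index_KA (frobQ_ne hF) h2 (fun τ a => by simp [frobQ_apply]), card_units_field,
    card_ringAut' (p := 2) (f := n * 2) (by rw [hF, pow_mul]), hF]
  ring

theorem ringAut_sq {q : ℕ} (hF : Fintype.card F = q ^ 2) {τ : F ≃+* F} (h : ∀ a, τ (τ a) = a) :
    (∀ a, τ a = a) ∨ ∀ a, τ a = frobQ hF a := by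
  by_cases h1 : ∀ a, τ a = a
  · exact Or.inl h1
  · push Not at h1
    obtain ⟨q', hF', h2⟩ := exists_frobQ (τ : F →+* F) h h1
    have : q' = q := Nat.pow_left_injective (by norm_num : 2 ≠ 0) (hF'.symm.trans hF)
    subst this
    exact Or.inr fun a => by rw [← h2]; rfl

theorem UH_fix_center {n : ℕ} (hF : Fintype.card F = (2 ^ n) ^ 2) {φ : MulAut (UHq hF)}
    (h : ∀ x, (φ (φ x)).a = x.a) {x : UHq hF} (hx : x.a = 0) : φ x = x := by
  have h2 := two_eq_zero_of_sq hF
  have hne := frobQ_ne hF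
  obtain ⟨μ, τ, -, h3⟩ := UH.exists_aut_eq hne h2 φ
  have h4 : ∀ a, μ * τ μ * τ (τ a) = a := fun a => by
    obtain ⟨y, rfl⟩ := UH.exists_a (hσ := frobQ_invol hF) hne a
    have := h y
    rw [h3, h3, map_mul] at this
    linear_combination this
  have h5 : μ * τ μ = 1 := by simpa using h4 1
  simp only [h5, one_mul] at h4
  refine UH.fix_of_norm hne h2 (fun y => ?_) hx
  rcases ringAut_sq hF h4 with h6 | h6
  · have : (μ : F) = 1 := sq_inj_two h2 (by rw [h6] at h5; rw [sq, h5, one_pow])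
    rw [h3, this, h6, one_mul]
  · rw [h6] at h5
    rw [h3, h6, map_mul, frobQ_invol]
    linear_combination y.a * frobQ hF y.a * h5

theorem UH16_no_S3 (hF : Fintype.card F = (2 ^ 2) ^ 2) {x y : MulAut (UHq hF)} (hx : x ^ 3 = 1)
    (hy : y ^ 2 = 1) (hxy : y * x * y = x⁻¹) : x = 1 := by
  have h2 := two_eq_zero_of_sq hF
  have hne := frobQ_ne hF
  obtain ⟨μ, τ, -, h3⟩ := UH.exists_aut_eq hne h2 x
  obtain ⟨ν, ρ, -, h4⟩ := UH.exists_aut_eq hne h2 y
  have h5 : ∀ a, μ * τ μ * τ (τ μ) * τ (τ (τ a)) = a := fun a => by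
    obtain ⟨u, rfl⟩ := UH.exists_a (hσ := frobQ_invol hF) hne a
    have : (x (x (x u))).a = u.a := by
      rw [← MulAut.mul_apply, ← MulAut.mul_apply, ← sq, ← pow_succ, hx]; rfl
    rw [h3, h3, h3, map_mul, map_mul, map_mul] at this
    linear_combination this
  have h6 : μ * τ μ * τ (τ μ) = 1 := by simpa using h5 1
  simp only [h6, one_mul] at h5
  have h7 : τ = 1 := by
    have h8 : τ ^ 3 = 1 := RingEquiv.ext fun a => h5 a
    have h9 : τ ^ 4 = 1 := by
      have := pow_card_eq_one' (x := τ)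
      rwa [card_ringAut' (p := 2) (f := 4) (by rw [hF]; norm_num)] at this
    rw [pow_succ, h8, one_mul] at h9
    exact h9
  subst h7
  simp only [RingAut.one_apply] at h3 h6
  have h8 : ∀ a, ν * ρ ν * ρ (ρ a) = a := fun a => by
    obtain ⟨u, rfl⟩ := UH.exists_a (hσ := frobQ_invol hF) hne a
    have : (y (y u)).a = u.a := by
      rw [← MulAut.mul_apply, ← sq, hy]; rfl
    rw [h4, h4, map_mul] at this
    linear_combination this
  have h9 : ν * ρ ν = 1 := by simpa using h8 1
  simp only [h9, one_mul] at h8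
  have h10 : ρ μ = μ := by
    rcases ringAut_sq hF h8 with h | h
    · exact h _
    · rw [h, frobQ_apply]; linear_combination (μ : F) * h6
  have h11 : (μ : F) = 1 := by
    obtain ⟨u, hu⟩ := UH.exists_a (hσ := frobQ_invol hF) hne 1
    have : (x (y (x (y u)))).a = u.a := by
      show (x ((y * x * y) u)).a = _
      rw [hxy, MulAut.apply_inv_self]
    rw [h3, h4, h3, h4, hu, map_mul, h10] at this
    simp only [map_one, mul_one] at this
    apply sq_inj_two h2
    linear_combination this - (μ : F) ^ 2 * h9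
  have h12 : x ^ 2 = 1 := UH.KA_sq hne h2 fun u => by rw [h3, h11, one_mul]
  rw [← hx, pow_succ x 2, h12, one_mul]

end CfsgH5
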