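import Cfsg.Agent.H5.Sf2
import Cfsg.Agent.H5.As15

/-!
Overgroups of unitary groups over a quadratic extension in symplectic and orthogonal groups.
-/

set_option autoImplicit false

namespace CfsgH5

open Module

universe u

namespace Form

theorem Nondeg.exists_hyp_perp {K V : Type*} [Field K] [AddCommGroup V] [Module K V] [FiniteDimensional K V]
    {T : FParam K} {S : Form T V} (hS : S.Nondeg)
    (hs : ∀ U : Submodule K V, 3 ≤ finrank K U → ∃ x ∈ U, x ≠ 0 ∧ S.q x = 0) (W : Submodule K V)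
    (hd : 2 * finrank K W + 3 ≤ finrank K V) :
    ∃ b b', S.IsHyp b b' ∧ (∀ w ∈ W, S.B w b = 0) ∧ ∀ w ∈ W, S.B w b' = 0 := by
  obtain ⟨C, hC⟩ := W.exists_isCompl
  have h2 := Submodule.finrank_add_eq_of_isCompl hC
  have h3 := hS.finrank_perp W
  have h4 := Submodule.finrank_sup_add_finrank_inf_eq C (S.perp W)
  have h5 := (C ⊔ S.perp W).finrank_le
  obtain ⟨b, ⟨h7, h8⟩, h9, h10⟩ := hs (C ⊓ S.perp W) (by omega)
  obtain ⟨f, a1, a2, a3⟩ := hS.exists_hyp W h10 (fun e => h9 (Submodule.disjoint_def.1 hC.disjoint b e h7))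
    (mem_perp'.1 h8)
  exact ⟨b, f, ⟨h10, a1, a2⟩, mem_perp'.1 h8, a3⟩

theorem Nondeg.comm_of_fix {F V : Type*} [Field F] [AddCommGroup V] [Module F V] [FiniteDimensional F V]
    {T : FParam F} {S : Form T V} (hS : S.Nondeg) {W : Submodule F V} {z k : V ≃ₗ[F] V} (hz : z ∈ S.isom)
    (hk : k ∈ S.isom) (h1 : ∀ v ∈ S.perp W, z v = v) (h2 : ∀ w ∈ W, k w = w) : k * z = z * k := by
  refine LinearEquiv.ext fun v => ?_
  have h3 : z v - v ∈ W := hS.perp_perp W ▸ fun w hw => by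
    rw [sub_left, ← h1 w hw, isom_B hz, h1 w hw, sub_self]
  have h4 : k v - v ∈ S.perp W := fun w hw => by rw [sub_left, ← h2 w hw, isom_B hk, h2 w hw, sub_self]
  have := h2 _ h3
  have h5 := h1 _ h4
  rw [map_sub] at this h5
  change k (z v) = z (k v)
  linear_combination (norm := module) this - h5

variable {F K V : Type*} [Field F] [Field K] [Algebra F K] [AddCommGroup V] [Module F V] [Module K V]
  [IsScalarTower F K V] {T : FParam F} {σ : K →+* K} {hσ : ∀ a, σ (σ a) = a} {S : Form T V}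
  {U : Form (unitParam σ hσ) V} {lam : K →ₗ[F] F} {J : K} {H : Subgroup (V ≃ₗ[F] V)}

/-- `S` is a trace form of the hermitian form `U` -/
structure XS (S : Form T V) (U : Form (unitParam σ hσ) V) (lam : K →ₗ[F] F) (J : K) : Prop where
  nd0 : U.Nondeg
  nd : S.Nondeg
  B : ∀ x y, S.B x y = lam (U.B x y)
  q : ∀ x, U.q x = 0 → S.q x = 0
  gen : ∀ c : K, ∃ a b : F, c = algebraMap F K a + algebraMap F K b * J
  ne : σ J ≠ J
  alg : ∀ a, σ (algebraMap F K a) = algebraMap F K a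
  dim : 7 ≤ finrank K V

/-- normalises the field -/
def Nm (K : Type*) [Field K] [Module K V] (g : V ≃ₗ[F] V) : Prop := ∀ c : K, ∃ c' : K, ∀ v, c • g v = g (c' • v)

namespace XS

variable (h : XS S U lam J) [Finite K]
include h

omit [Finite K] in
theorem fd : FiniteDimensional K V := Module.finite_of_finrank_pos (by have := h.dim; omega)

theorem good : U.Good := haveI := h.fd; good_unit ⟨J, h.ne⟩ h.nd0 (by have := h.dim; omega)

theorem hyp (x y : V) : ∃ b b', U.IsHyp b b' ∧ (U.B x b = 0 ∧ U.B y b = 0) ∧ U.B x b' = 0 ∧ U.B y b' = 0 := by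
  haveI := h.fd
  have := finrank_span_pair_le (F := K) x y
  have := h.dim
  obtain ⟨b, b', h1, h2, h3⟩ := h.nd0.exists_hyp_perp h.good.sing (Submodule.span K {x, y}) (by omega)
  exact ⟨b, b', h1, ⟨h2 _ (Submodule.subset_span (by simp)), h2 _ (Submodule.subset_span (by simp))⟩,
    h3 _ (Submodule.subset_span (by simp)), h3 _ (Submodule.subset_span (by simp))⟩

theorem exists_lam (a : F) : ∃ c, lam c = a := by
  obtain ⟨b, b', h1, -⟩ := h.hyp 0 0
  obtain ⟨y, hy⟩ := h.nd.exists_ne h1.ne_left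
  rw [h.B] at hy
  exact ⟨(a / lam (U.B y b)) • U.B y b, by rw [map_smul, smul_eq_mul, div_mul_cancel₀ _ hy]⟩

theorem exists_κ : ∃ κ : K, κ ≠ 0 ∧ ∀ c, lam (κ * c) = 0 → c = algebraMap F K (lam (κ * σ J * c)) := by
  obtain ⟨c0, h0⟩ := h.exists_lam 1
  have g : ∀ c : K, ∃ a b : F, c = a • (1 : K) + b • σ J := fun c => by
    obtain ⟨a, b, h1⟩ := h.gen (σ c)
    exact ⟨a, b, by rw [← hσ c, h1]; simp [h.alg, Algebra.smul_def]⟩
  obtain ⟨κ, h1, h2⟩ : ∃ κ : K, κ ≠ 0 ∧ lam κ = 0 := by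
    by_cases e : lam 1 = 0
    · exact ⟨1, one_ne_zero, e⟩
    · refine ⟨J - (lam J / lam 1) • 1, fun e' => h.ne ?_, by simp [e]⟩
      rw [sub_eq_zero.1 e', ← Algebra.algebraMap_eq_smul_one, h.alg]
  have h3 : lam (κ * σ J) ≠ 0 := fun e => by
    obtain ⟨a, b, h4⟩ := g (c0 / κ)
    rw [← mul_div_cancel₀ c0 h1, h4] at h0
    simp [mul_add, h2, e] at h0
  refine ⟨(lam (κ * σ J))⁻¹ • κ, smul_ne_zero (inv_ne_zero h3) h1, fun c hc => ?_⟩
  obtain ⟨a, b, rfl⟩ := g c
  obtain rfl : b = 0 := by simpa [mul_add, h2, h3] using hc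
  simp [h3, Algebra.algebraMap_eq_smul_one]

variable [FiniteDimensional F V] (hI : H ≤ S.isom) (hU : ∀ t ∈ U.EG, QE.res F K V t ∈ H)
include hI hU

theorem move {e : V} (he : U.q e = 0) {g : V ≃ₗ[F] V} (hg : g ∈ H) (h1 : ∀ c : K, g (c • e) = c • e) {b : V}
    (hb : U.B b e = 0) {k : V ≃ₗ[F] V} (hk : k ∈ H) (h2 : ∀ c : K, k (c • e) = c • e) :
    k (g (J • b) - J • g b) - (g (J • b) - J • g b) ∈ S.EA H (h.q e he) := by
  obtain ⟨κ, h3, h4⟩ := h.exists_κ
  obtain ⟨c0, h0⟩ := h.exists_lam 1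
  have hi := hI hg
  have p1 : ∀ v, U.B v e = 0 ↔ ∀ c : K, S.B v (c • e) = 0 := fun v => ⟨fun a c => by simp [h.B, a], fun a => by
    by_contra e'
    simpa [h.B, hσ, mul_div_cancel₀, e', h0] using a (σ (c0 / U.B v e))⟩
  have p2 : ∀ {g}, g ∈ S.isom → (∀ c : K, g (c • e) = c • e) → ∀ v, U.B v e = 0 → U.B (g v) e = 0 :=
    fun hg h1 v a => (p1 _).2 fun c => by rw [← h1, isom_B hg, (p1 v).1 a]
  have hi' := inv_mem hi
  have h1' : ∀ c : K, g⁻¹ (c • e) = c • e := fun c => by rw [← h1, ← LinearEquiv.mul_apply, inv_mul_cancel]; exact (h1 c).symm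
  set y := g (J • b) - J • g b
  have hy : U.B y e = 0 := by simp [y, p2 hi h1 _ hb, p2 hi h1 (J • b) (by simp [hb])]
  obtain ⟨l1, e1⟩ := U.exists_rep (σ κ⁻¹ • b)
  obtain ⟨l2, e2⟩ := U.exists_rep (-σ κ⁻¹ • g b)
  have t1 : U.IsEich e (σ κ⁻¹ • b) l1 := ⟨he, by simp [hb], e1⟩
  have t2 : U.IsEich e (-σ κ⁻¹ • g b) l2 := ⟨he, by simp [p2 hi h1 _ hb], e2⟩
  obtain ⟨l, e3⟩ := S.exists_rep (T.ε • y)
  have s : S.IsEich e (T.ε • y) l := ⟨h.q e he, by rw [smul_left, h.B, hy, map_zero, mul_zero], e3⟩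
  have hz := mul_mem (hU _ (eich_mem_EG t2)) (mul_mem (mul_mem hg (hU _ (eich_mem_EG t1))) (inv_mem hg))
  generalize hzz : QE.res F K V (eich t2) * (g * QE.res F K V (eich t1) * g⁻¹) = z at hz
  let W : Submodule F V := (Submodule.span K {e}).restrictScalars F
  have hW : ∀ w ∈ W, ∃ c : K, c • e = w := fun w => Submodule.mem_span_singleton.1
  have h5 : ∀ v ∈ S.perp W, ((eich s)⁻¹ * z) v = v := fun v hv => by
    have hv : U.B v e = 0 := (p1 v).2 fun c => hv _ (Submodule.mem_span_singleton.2 ⟨c, rfl⟩)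
    have h6 := h4 (κ⁻¹ * (U.B (g⁻¹ v) b - U.B v (g b))) (by
      rw [mul_inv_cancel_left₀ h3, map_sub, ← h.B, ← h.B, isom_B_right hi, sub_self])
    have h7 : lam (κ * σ J * (κ⁻¹ * (U.B (g⁻¹ v) b - U.B v (g b)))) = S.B v y := by
      rw [sub_right, isom_B_right hi, h.B, h.B, ← map_sub]
      congr 1
      simp only [smul_right, unitParam_σ]; field_simp
    refine (eich s).injective ?_
    rw [← LinearEquiv.mul_apply, mul_inv_cancel_left, ← hzz, eich_of_perp s (by rw [h.B, hv, map_zero])]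
    simp only [LinearEquiv.mul_apply, QE.res_apply]
    rw [eich_of_perp t1 (p2 hi' h1' v hv), map_sub, h1, show g (g⁻¹ v) = v from g.apply_symm_apply v,
      eich_of_perp t2 (by simp [hv, t1.uu]), smul_right S, FParam.σε, ← mul_assoc, T.εε, one_mul,
      ← algebraMap_smul K (S.B v y), ← h7, ← h6]
    simp only [smul_right, sub_left, smul_left, unitParam_σ, unitParam_ε, map_neg, hσ,
      perp_symm (p2 hi h1 _ hb)]
    module
  have h6 := h.nd.comm_of_fix (mul_mem (inv_mem (eich_mem s)) (hI hz)) (hI hk) h5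
    fun w hw => let ⟨c, e⟩ := hW w hw; e ▸ h2 c
  have h7 : k * eich s * k⁻¹ * (eich s)⁻¹ ∈ H := by
    convert mul_mem (mul_mem (mul_mem hk hz) (inv_mem hk)) (inv_mem hz) using 1
    calc _ = k * eich s * (k⁻¹ * ((eich s)⁻¹ * z * k)) * k⁻¹ * z⁻¹ := by group
      _ = _ := by rw [← h6]; group
  have h8 : k e = e := by simpa using h2 1
  rw [conj_eich s (hI hk), eich_congr' _ (h8 ▸ s.map (hI hk)) h8 rfl rfl, eich_inv, eich_mul] at h7
  have h9 : k (T.ε • y) + -(T.ε • y) ∈ S.EA H (h.q e he) := ⟨_, _, h7⟩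
  rcases T.hε with e' | e' <;> rw [e'] at h9
  · simpa [sub_eq_add_neg] using h9
  · simpa [sub_eq_add_neg, add_comm] using neg_mem h9

theorem big_of {e : V} (he : U.q e = 0) (h0 : e ≠ 0) {g : V ≃ₗ[F] V} (hg : g ∈ H)
    (h1 : ∀ c : K, g (c • e) = c • e) {b : V} (hb : U.B b e = 0)
    (hn : g (J • b) - J • g b ∉ Submodule.span K {e}) {w : V} (hw : U.B w e = 0) : w ∈ S.EA H (h.q e he) := by
  haveI := h.fd
  obtain ⟨f, hf⟩ := h.nd0.exists_hyp' he h0
  have hX := h.nd0.nondegOn_perp_hyp hf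
  have hd := h.nd0.finrank_perp_hyp hf
  have hd' := h.dim
  have p2 : ∀ v, U.B v e = 0 → U.B (g v) e = 0 := fun v a => by
    obtain ⟨c0, h0⟩ := h.exists_lam 1
    by_contra e'
    have := isom_B (hI hg) v (σ (c0 / U.B (g v) e) • e)
    simp [h1, h.B, hσ, e', h0, a] at this
  have hy : U.B (g (J • b) - J • g b) e = 0 := by simp [p2 _ hb, p2 (J • b) (by simp [hb])]
  have key := fun k => h.move hI hU he hg h1 hb (k := k)
  generalize g (J • b) - J • g b = y at hn hy key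
  have hk : ∀ {x z l} (t : U.IsEich x z l), U.B x e = 0 → U.B z e = 0 → ∀ c : K,
      QE.res F K V (eich t) (c • e) = c • e := fun t a b c =>
    eich_fix t (by simp [perp_symm a]) (by simp [perp_symm b])
  have hA : ∀ {x z l} (t : U.IsEich x z l), U.B x e = 0 → U.B z e = 0 → ∀ a ∈ S.EA H (h.q e he),
      eich t a ∈ S.EA H (h.q e he) := fun t a b c hc =>
    EA_conj' (hU _ (eich_mem_EG t)) (hI (hU _ (eich_mem_EG t))) (by simpa using hk t a b 1) hc
  obtain ⟨x0, _, a1, ⟨a2, a3⟩, -⟩ := h.hyp e f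
  obtain ⟨x, b1, b2, b3⟩ := hX.exists_sing_ne (U.mem_perp_pair.2 ⟨perp_symm a2, perp_symm a3⟩) a1.ne_left a1.qe
    (a := y) fun e' => hn (by
      rw [← U.perp_span {e, f}, h.nd0.perp_perp] at e'
      obtain ⟨α, β, rfl⟩ := Submodule.mem_span_pair.1 e'
      obtain rfl : β = 0 := by simpa [hf.ee, hf.fe] using hy
      exact Submodule.mem_span_singleton.2 ⟨α, by simp⟩)
  obtain ⟨l, c1, c2⟩ := exists_trace_zero σ hσ ⟨J, h.ne⟩
  have t : U.IsEich x 0 l := ⟨b2, by simp, by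
    rw [q_zero, eq_comm, FParam.π_eq_zero_iff, unitParam_mem, c2, add_neg_cancel]⟩
  have h2 := key _ (hU _ (eich_mem_EG t)) (hk t (U.mem_perp_pair.1 b1).1 (by simp))
  have h3 : ∀ z ∈ U.perp {e, f}, z ∈ S.EA H (h.q e he) := fun z hz => h.good.inv_le hX (by omega)
    (fun x a z b l t => hA t (U.mem_perp_pair.1 a).1 (U.mem_perp_pair.1 b).1) h2 (hX.notMem_perp (by
      simp [eich_apply, U.mem_perp_pair.1 b1]) (by
        simp [eich_apply, c1, b3]; rintro rfl; simp at b3)) hz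
  have h4 := h3 _ (hf.decomp w)
  obtain ⟨u, u', d1, ⟨d2, d3⟩, d4, d5⟩ := h.hyp e f
  have h5 := h3 (U.B w f • u) (by simp [perp_symm d2, perp_symm d3])
  have h6 := hA (isEich0 he d1.qf (perp_symm d4) 1) hf.ee (by simp [perp_symm d4]) _ h5
  simpa [eich_apply, hw, d1.ef, perp_symm d2, smul_sub] using add_mem h4 (sub_mem h5 h6)

theorem EG_le (hΛ : ∀ l ∈ T.Λ, ∃ c, l = c - T.ε * T.σ c) {e : V} (he : U.q e = 0) (h0 : e ≠ 0)
    (hb : ∀ w, U.B w e = 0 → w ∈ S.EA H (h.q e he)) : S.EG ≤ H := by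
  haveI := h.fd
  have h1 : ∀ e (he : U.q e = 0), e ≠ 0 → ∀ w, U.B w e = 0 → w ∈ S.EA H (h.q e he) := fun e' he' h0' w hw => by
    obtain ⟨t, ht, rfl⟩ := h.nd0.unit_EG_trans ⟨J, h.ne⟩ (by have := h.dim; omega) h0 h0'
      ((self_zero he).trans (self_zero he').symm)
    simpa using EA_map (h.q _ he') (hU t ht) (hI (hU t ht)) one_ne_zero (one_smul _ _).symm
      (hb (t⁻¹ w) (by rwa [← isom_B_right (EG_le_isom ht)]))
  have key : ∀ e, U.q e = 0 → e ≠ 0 → S.Qu e ≤ H := fun e he h0 => by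
    obtain ⟨f, hf⟩ := h.nd0.exists_hyp' he h0
    obtain ⟨a, a', d1, ⟨d2, d3⟩, d4, d5⟩ := h.hyp e f
    refine Qu_le_of_EA (hu := h.q e he) (fun w hw => ?_) fun l hl => ?_
    · have h2 := h1 e he h0 (w - U.B w e • f) (by simp [hf.fe])
      obtain ⟨l, t, ht⟩ := h1 a d1.qe d1.ne_left (U.B w e • f) (by simp [d3])
      obtain ⟨c, hc⟩ := h.exists_lam 1
      have h3 := h1 e he h0 (c • a') (by simp [perp_symm d4])
      have h4 := EA_conj' ht (eich_mem t) (eich_fix t (by simp [h.B, d2]) (perp_symm (by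
        simpa [h.B, hf.fe] using hw))) h3
      have h5 := h1 e he h0 ((T.ε * (S.B (c • a') (U.B w e • f) + l)) • a) (by simp [QE.B_smul, perp_symm d2])
      convert add_mem (add_mem h2 (sub_mem h4 h3)) h5 using 1
      simp [eich_apply, h.B, d1.fe, hc]; abel
    · obtain ⟨c, rfl⟩ := hΛ l (T.π_eq_zero_iff.1 (hl.rep.symm.trans S.q_zero))
      obtain ⟨c', hc⟩ := h.exists_lam c
      obtain ⟨_, x, hx⟩ := h1 e he h0 a' (perp_symm d4)
      obtain ⟨_, y, hy⟩ := h1 e he h0 (c' • a) (by simp [perp_symm d2])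
      obtain ⟨z, hz⟩ := commutator_eich x y
      convert hz ▸ (mul_mem (mul_mem (mul_mem hx hy) (inv_mem hx)) (inv_mem hy) : ⁅eich x, eich y⁆ ∈ H) using 2
      rw [S.herm (c' • a)]
      simp [h.B, d1.ef, hc]
  obtain ⟨f, hf⟩ := h.nd0.exists_hyp' he h0
  obtain ⟨c, hc⟩ := h.exists_lam 1
  have h2 := U.q_smul_zero c hf.qf
  exact h.nd.EG_le_of_opp (h.q _ he) (h.q _ h2) (by simp [h.B, hf.fe, hc]) (key _ he h0)
    (key _ h2 (smul_ne_zero (by rintro rfl; simp at hc) hf.ne_right))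

theorem nm_or (hΛ : ∀ l ∈ T.Λ, ∃ c, l = c - T.ε * T.σ c) {g : V ≃ₗ[F] V} (hg : g ∈ H) :
    Nm K g ∨ S.EG ≤ H := by
  haveI := h.fd
  refine or_iff_not_imp_right.2 fun hn => ?_
  obtain ⟨l, c1, c2⟩ := exists_trace_zero σ hσ ⟨J, h.ne⟩
  have h1 : ∀ u, U.q u = 0 → u ≠ 0 → ∃ c : K, J • g u = g (c • u) := fun u hu h0 => by
    have t : U.IsEich u 0 l := ⟨hu, by simp, by
      rw [q_zero, eq_comm, FParam.π_eq_zero_iff, unitParam_mem, c2, add_neg_cancel]⟩
    have hτ := mul_mem (mul_mem hg (hU _ (eich_mem_EG t))) (inv_mem hg)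
    generalize hτ' : g * QE.res F K V (eich t) * g⁻¹ = τ at hτ
    have h2 : ∀ v, τ v = v - g ((l * U.B (g⁻¹ v) u) • u) := fun v => by
      simp [← hτ', eich_apply]
    have h3 : ∀ c : K, g (c • u) ∈ Submodule.span K {g u, g (J • u)} := fun c => by
      obtain ⟨a, b, rfl⟩ := h.gen c
      exact Submodule.mem_span_pair.2 ⟨algebraMap F K a, algebraMap F K b, by simp [add_smul, mul_smul]⟩
    have key : ∀ e f, U.q e = 0 → U.B e f ≠ 0 → U.B (g u) e = 0 → U.B (g (J • u)) e = 0 → U.B (g u) f = 0 →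
        U.B (g (J • u)) f = 0 → ∀ b, U.B b e = 0 → τ (J • b) - J • τ b = 0 := fun e f he a1 a2 a3 a4 a5 b hb => by
      have h4 : ∀ {f}, U.B (g u) f = 0 → U.B (g (J • u)) f = 0 → ∀ c : K, U.B (g (c • u)) f = 0 := fun a b c => by
        obtain ⟨α, β, e'⟩ := Submodule.mem_span_pair.1 (h3 c)
        simp [← e', a, b]
      by_contra hM
      refine hn (h.EG_le hI hU hΛ he (by rintro rfl; simp at a1) fun w => h.big_of hI hU he
        (by rintro rfl; simp at a1) hτ (fun c => ?_) hb fun e' => hM ?_)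
      · rw [h2, sub_eq_self, g.map_eq_zero_iff, smul_eq_zero, mul_eq_zero]
        refine .inl (.inr (by_contra fun e' => ?_))
        obtain ⟨c0, h0⟩ := h.exists_lam 1
        have := isom_B_right (hI hg) (c • e) (σ (c0 / U.B (g⁻¹ (c • e)) u) • u)
        rw [h.B, h.B, smul_left, perp_symm (h4 a2 a3 _), smul_right, unitParam_σ, hσ, div_mul_cancel₀ _ e', h0] at this
        simp at this
      · obtain ⟨c, hc⟩ := Submodule.mem_span_singleton.1 e'
        have := congrArg (U.B · f) hc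
        simp only [h2, smul_left, sub_left, h4 a4 a5] at this
        rw [← hc, (mul_eq_zero.1 (this.trans (by ring))).resolve_right a1, zero_smul]
    obtain ⟨e, f, d1, ⟨d2, d3⟩, d4, d5⟩ := h.hyp (g u) (g (J • u))
    obtain ⟨u', hu'⟩ := h.nd0.exists_hyp' hu h0
    have h5 : τ (J • g (l⁻¹ • u')) - J • τ (g (l⁻¹ • u')) = 0 := by
      generalize g (l⁻¹ • u') = v
      have k1 := key e f d1.qe (by simp [d1.ef]) d2 d3 d4 d5 (v - U.B v e • f) (by simp [d1.fe])
      have k2 := key f e d1.qf (by simp [d1.fe]) d4 d5 d2 d3 (U.B v e • f) (by simp [d1.ff])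
      rw [smul_sub, map_sub, map_sub, smul_sub] at k1
      linear_combination (norm := module) k1 + k2
    rw [h2, h2 (g _), show g⁻¹ (g (l⁻¹ • u')) = _ from g.symm_apply_apply _, smul_left, hu'.fe] at h5
    simp only [unitParam_ε, mul_one, mul_inv_cancel₀ c1, one_smul] at h5
    exact ⟨_, by linear_combination (norm := module) h5⟩
  have h2 : ∀ u v v' (c c' : K), U.q u = 0 → u ≠ 0 → U.IsHyp v v' → U.B u v = 0 → U.B u v' = 0 →
      J • g u = g (c • u) → J • g v = g (c' • v) → c = c' := fun u v v' c c' a1 a2 a3 a4 a5 a6 a7 => by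
    obtain ⟨d, hd⟩ := h1 (u + v) (by simp [q_add, a1, a3.qe, a4]) fun e => by
      simpa [a5, a3.ef] using congrArg (U.B · v') e
    rw [map_add, smul_add, a6, a7, ← map_add, g.injective.eq_iff] at hd
    obtain rfl : c' = d := by simpa [a5, a3.ef] using congrArg (U.B · v') hd
    exact smul_left_injective K a2 (by simpa using hd)
  obtain ⟨e, f, d1, -⟩ := h.hyp 0 0
  obtain ⟨c, hc⟩ := h1 e d1.qe d1.ne_left
  have h3 : ∀ u, U.q u = 0 → J • g u = g (c • u) := fun u hu => by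
    by_cases h0 : u = 0
    · simp [h0]
    obtain ⟨v, v', a1, ⟨a2, a3⟩, a4, a5⟩ := h.hyp e u
    obtain ⟨c', a6⟩ := h1 u hu h0
    obtain ⟨c'', a7⟩ := h1 v a1.qe a1.ne_left
    rwa [h2 _ _ _ _ _ d1.qe d1.ne_left a1 a2 a4 hc a7, ← h2 _ _ _ _ _ hu h0 a1 a3 a5 a6 a7]
  have h4 : ∀ v, J • g v = g (c • v) := fun v => by
    let X : Submodule K V := ⟨⟨⟨{v | ∀ d : K, J • g (d • v) = g (c • d • v)}, fun a b d => by
      simp only [smul_add, map_add, a d, b d]⟩, by simp⟩, fun t v a d => by simpa only [smul_smul d t] using a _⟩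
    by_contra hv
    obtain ⟨y, a1, a2⟩ := h.nd0.exists_sep X (x := v) fun e => hv (by simpa using e 1)
    obtain ⟨x, -, a3, a4⟩ := h.nd0.top.exists_sing_ne Submodule.mem_top d1.ne_left d1.qe (a := y) fun e' => by
      simp [perp_symm (e' v trivial)] at a2
    exact a4 (perp_symm (a1 x fun d => h3 _ (U.q_smul_zero d a3)))
  intro d
  obtain ⟨a, b, rfl⟩ := h.gen d
  exact ⟨algebraMap F K a + algebraMap F K b * c, fun v => by simp [add_smul, mul_smul, h4]⟩

omit hI hU [FiniteDimensional F V] in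
theorem exists_not_nm : ∃ g ∈ S.EG, ¬ Nm K g := by
  obtain ⟨e, f, d1, -⟩ := h.hyp 0 0
  obtain ⟨a, a', d2, ⟨a1, a2⟩, -⟩ := h.hyp e f
  have t : S.IsEich e a 0 := ⟨h.q _ d1.qe, by simp [h.B, perp_symm a1], by simp [h.q _ d2.qe]⟩
  refine ⟨_, eich_mem_EG t, fun hg => h.ne ?_⟩
  obtain ⟨c, hc⟩ := hg J
  obtain ⟨c0, h0⟩ := h.exists_lam 1
  obtain rfl : J = c := smul_left_injective K d1.ne_left (by
    simpa [eich_apply, h.B, d1.ee, a1] using hc e)
  have := hc (c0 • f)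
  simp only [eich_apply, h.B, smul_left, d1.fe, a2, unitParam_ε, mul_one, h0, mul_zero, map_zero, zero_mul,
    add_zero, zero_smul, sub_zero, smul_add, one_smul, add_right_inj, ← algebraMap_smul K (lam _) a] at this
  rw [smul_left_injective K d2.ne_left this, h.alg]

end XS

end Form

open Matrix Cfsg Cfsg.Geo Form

variable {F : Type u} [Field F] [Fintype F] {ι : Type} [Fintype ι] [DecidableEq ι]

theorem isMaximalIn_unitary_ext {T : FParam F} {S : Form T (ι → F)} (hS : S.Nondeg) (hT : ∀ a, T.σ a = a)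
    (hn : 14 ≤ Fintype.card ι) {G : Subgroup (GL ι F)} (hG : G = S.EG.comap (glEquiv ι F).toMonoidHom)
    (hΛ : ∀ l ∈ T.Λ, ∃ c, l = c - T.ε * T.σ c) {A : Subalgebra F (Matrix ι ι F)} (hA : IsFieldSubalgebra 2 A)
    (h1 : IsAdjointClosedFor S.B A) (h2 : ¬ IsSelfAdjointFor S.B A)
    (hq : ∀ x y, (∀ k ∈ A, S.B (k *ᵥ x) x = S.B (k *ᵥ y) y) → S.q x = S.q y)
    (hE : ⁅S.isom, S.isom⁆ ≤ S.EG) : IsMaximalIn G (subalgebraNormalizer A ⊓ G) := by
  haveI : Nonempty ι := Fintype.card_pos_iff.1 (by omega)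
  obtain ⟨K, _, _, _, ψ, rfl, hK⟩ := exists_field hA
  letI : Module K (ι → F) := Module.compHom _ ((toLinAlgEquiv' : Matrix ι ι F ≃ₐ[F] _).toAlgHom.comp ψ).toRingHom
  have hs : ∀ (c : K) (v : ι → F), c • v = ψ c *ᵥ v := fun _ _ => rfl
  haveI : IsScalarTower F K (ι → F) := ⟨fun a c v => by simp [hs, smul_mulVec]⟩
  have inj : ∀ {a b : K}, (∀ u v, S.B u (a • v) = S.B u (b • v)) → a = b := fun {a b} e =>
    smul_left_injective K (m := fun _ => (1 : F)) (fun e => one_ne_zero (congrFun e (Classical.arbitrary ι)))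
      (hS.ext fun u => e u _)
  have h3 : ∀ c : K, ∃ d : K, ∀ u v, S.B (c • u) v = S.B u (d • v) := fun c => by
    obtain ⟨_, ⟨d, rfl⟩, e⟩ := h1 _ ⟨c, rfl⟩
    exact ⟨d, e⟩
  choose τ hτ using h3
  have hτa : ∀ a, τ (algebraMap F K a) = algebraMap F K a := fun a => inj fun u v => by simp [← hτ, hT]
  let σ : K →+* K := ⟨⟨⟨τ, inj fun u v => by simp [← hτ]⟩, fun a b => inj fun u v => by
    rw [mul_comm (τ a), mul_smul, ← hτ, ← hτ, ← hτ, mul_smul]⟩, inj fun u v => by simp [← hτ],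
    fun a b => inj fun u v => by simp [← hτ, add_smul]⟩
  have hσ : ∀ a, σ (σ a) = a := fun a => inj fun u v => by
    change S.B u (τ (τ a) • v) = _
    rw [← hτ, S.herm, ← hτ, ← S.herm]
  obtain ⟨J, hJ⟩ : ∃ J, σ J ≠ J := by
    by_contra! e
    exact h2 (by rintro _ ⟨c, rfl⟩ u v; exact (hτ c u v).trans (congrArg (S.B u <| · • v) (e c)))
  obtain ⟨δ, hδ, hδ'⟩ : ∃ δ : K, δ ≠ 0 ∧ σ δ = algebraMap F K T.ε * δ := by
    rcases T.hε with e | e
    · exact ⟨1, one_ne_zero, by simp [e]⟩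
    · simpa [e] using exists_trace_zero σ hσ ⟨J, hJ⟩
  have h4 : ∀ u v, ∃ β : K, ∀ z, S.B (z • u) v = Algebra.trace F K (β * z) := fun u v =>
    trace_rep ⟨⟨fun z => S.B (z • u) v, fun a b => by simp [add_smul]⟩, fun c a => by simp⟩
  choose β hβ using h4
  have ext : ∀ {a b : K}, (∀ z, Algebra.trace F K (a * z) = Algebra.trace F K (b * z)) → a = b := fun e =>
    sub_eq_zero.1 (trace_inj (F := F) fun z => by rw [sub_mul, map_sub, e, sub_self])
  have tr : ∀ z, Algebra.trace F K (σ z) = Algebra.trace F K z := trace_algHom ⟨σ, hτa⟩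
  let U := ofHerm σ hσ ⟨J, hJ⟩ (fun u v => δ * β u v)
    (fun x y z => by rw [← mul_add]; congr 1; exact ext fun c => by simp [← hβ, add_mul])
    (fun c x z => by
      rw [mul_left_comm]; congr 1; exact ext fun d => by rw [← hβ, mul_comm c, mul_assoc, ← hβ, mul_comm c, mul_smul])
    fun x y => by
      rw [map_mul, hδ', mul_comm _ δ, mul_assoc]; congr 1
      exact ext fun c => by
        rw [← hβ, S.herm, hT, mul_assoc, ← Algebra.smul_def, map_smul, ← tr, map_mul, hσ, ← hβ, hτ]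
        exact congrArg (fun d : K => T.ε * S.B x (d • y)) (hσ c).symm
  have hB : ∀ (c : K) x y, S.B (c • x) y = Algebra.trace F K (δ⁻¹ * (c * U.B x y)) := fun c x y => by
    rw [hβ]; congr 1; change _ = δ⁻¹ * (c * (δ * _)); field_simp
  have hq' : ∀ x y, U.B x x = U.B y y → S.q x = S.q y := fun x y e => hq x y (by
    rintro _ ⟨c, rfl⟩; exact (hB c x x).trans (e ▸ (hB c y y).symm))
  have hd : finrank F (ι → F) = 2 * finrank K (ι → F) := hK ▸ (finrank_mul_finrank F K _).symm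
  have h : XS S U (Algebra.trace F K ∘ₗ LinearMap.mulLeft F δ⁻¹) J := ⟨fun x hx => hS x fun y => by
      simpa [hx] using hB 1 y x, hS, fun x y => by simpa using hB 1 x y,
    fun x e => (hq' x 0 (by simp [self_zero e])).trans S.q_zero, fun c => by
      have h5 : LinearIndependent F ![1, J] := LinearIndependent.pair_iff' one_ne_zero |>.2 fun a e =>
        hJ (by rw [← e, ← Algebra.algebraMap_eq_smul_one]; exact hτa a)
      obtain ⟨a, b, e⟩ := Submodule.mem_span_pair.1 ((h5.span_eq_top_of_card_eq_finrank (by simp [hK])).ge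
        (Submodule.mem_top (x := c)) |> fun e => by simpa [Matrix.range_cons] using e)
      exact ⟨b, a, by simp [← e, Algebra.smul_def, add_comm]⟩, hJ, hτa, by simp at hd; omega⟩
  haveI := h.fd
  have hr : ∀ t ∈ U.isom, QE.res F K _ t ∈ S.isom := fun t ht =>
    mem_isom.2 ⟨fun x y => by simp [h.B, isom_B ht], fun x => hq' _ _ (isom_B ht x x)⟩
  refine isMaximalIn_gl hG (Nm K) (fun g => ⟨fun hg c => ?_, fun hg k => ?_⟩) h.exists_not_nm fun H a b g hg hn =>
    (h.nm_or (b.trans EG_le_isom) (fun t ht => a _ (hE ?_) fun c => ⟨c, fun v => (t.map_smul c v).symm⟩)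
      hΛ hg).resolve_left hn
  · obtain ⟨d, e⟩ := (inv_mem hg (ψ c)).1 ⟨c, rfl⟩
    exact ⟨d, fun v => by simp [hs, show ψ d = _ from e, ← mul_assoc]⟩
  · choose f hf using hg
    have h5 : ∀ c, g.1 * ψ (f c) * g⁻¹.1 = ψ c := fun c => by
      rw [Units.mul_inv_eq_iff_eq_mul]
      exact Matrix.ext_iff_mulVec.2 fun v => by simpa [hs] using (hf c v).symm
    refine ⟨fun ⟨c, e⟩ => ?_, fun ⟨c, e⟩ => ⟨f c, ?_⟩⟩
    · obtain ⟨c, rfl⟩ := Finite.injective_iff_surjective.1 (fun a b e => ψ.toRingHom.injective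
        ((h5 a).symm.trans (e ▸ h5 b)) : Function.Injective f) c
      exact ⟨c, e ▸ (h5 c).symm⟩
    · exact (cjA g).injective ((h5 c).trans e)
  · rw [← h.nd0.unit_perfect ⟨J, hJ⟩ (.inl (by have := h.dim; omega))] at ht
    have : U.EG.map (QE.res F K _) ≤ S.isom := by rintro _ ⟨t, ht, rfl⟩; exact hr t (EG_le_isom ht)
    exact Subgroup.commutator_mono this this ((Subgroup.map_commutator _ _ _).le ⟨t, ht, rfl⟩)

end CfsgH5
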